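import Groth.Agent.Lib.AnPts.Basic
import Mathlib.AlgebraicGeometry.Morphisms.Flat
import Mathlib.AlgebraicGeometry.Morphisms.ClosedImmersion
import Mathlib.Topology.Algebra.Polynomial
import Mathlib.Topology.Algebra.MvPolynomial
import Mathlib.Topology.Separation.Regular

/-!
# The complex topology: convergence criterion and embeddings
-/

open AlgebraicGeometry CategoryTheory TopologicalSpace Opposite Topology Filter

namespace GrothLib.AnPts

variable {X Y : Scheme.{0}} [X.Over An.SC] [Y.Over An.SC]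

open Classical in
/-- value of a section, extended by zero -/
noncomputable def evZ (W : X.Opens) (a : Γ(X, W)) (x : An.Pts X) : ℂ :=
  if h : x.pt ∈ W then x.ev W h a else 0

lemma evZ_of_mem {W : X.Opens} (a : Γ(X, W)) {x : An.Pts X} (h : x.pt ∈ W) :
    evZ W a x = x.ev W h a := dif_pos h

lemma continuousOn_evZ (W : X.Opens) (a : Γ(X, W)) :
    ContinuousOn (evZ W a) (An.Pts.pt ⁻¹' (W : Set X)) := by
  intro x hx
  refine ContinuousAt.continuousWithinAt ?_
  rw [ContinuousAt, tendsto_nhds]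
  intro V hV hxV
  rw [evZ_of_mem a hx] at hxV
  refine mem_of_superset ((An.Pts.isOpen_basicSet W a hV).mem_nhds ⟨hx, hxV⟩) ?_
  rintro y ⟨hy, hyV⟩
  rw [Set.mem_preimage, evZ_of_mem a hy]
  exact hyV

lemma tendsto_evZ_nhds {W : X.Opens} (a : Γ(X, W)) {x : An.Pts X} (hx : x.pt ∈ W) :
    Tendsto (evZ W a) (𝓝 x) (𝓝 (evZ W a x)) :=
  (continuousOn_evZ W a).continuousAt ((An.Pts.isOpen_preimage_pt W).mem_nhds hx)

lemma eventually_mem_nhds {W : X.Opens} {x : An.Pts X} (hx : x.pt ∈ W) :
    ∀ᶠ y in 𝓝 x, y.pt ∈ W :=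
  (An.Pts.isOpen_preimage_pt W).mem_nhds hx

/-- convergence criterion on an affine chart, for an arbitrary generating set of the ring -/
theorem le_nhds_of_generators {l : Filter (An.Pts X)} {x : An.Pts X} {W : X.Opens}
    (hW : IsAffineOpen W) (hx : x.pt ∈ W) (hl : ∀ᶠ y in l, y.pt ∈ W)
    (G : Set Γ(X, W)) (hG : Subring.closure G = ⊤)
    (hgen : ∀ g ∈ G, Tendsto (evZ W g) l (𝓝 (evZ W g x))) : l ≤ 𝓝 x := by
  have key : ∀ a, Tendsto (evZ W a) l (𝓝 (evZ W a x)) := by
    intro a
    have ha : a ∈ Subring.closure G := by rw [hG]; trivial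
    induction ha using Subring.closure_induction with
    | mem g hg => exact hgen g hg
    | zero =>
      rw [evZ_of_mem _ hx, ← evHom_apply, map_zero]
      refine tendsto_const_nhds.congr' (hl.mono fun y hy => ?_)
      rw [evZ_of_mem _ hy, ← evHom_apply, map_zero]
    | one =>
      rw [evZ_of_mem _ hx, ← evHom_apply, map_one]
      refine tendsto_const_nhds.congr' (hl.mono fun y hy => ?_)
      rw [evZ_of_mem _ hy, ← evHom_apply, map_one]
    | add a b _ _ iha ihb =>
      have e : evZ W (a + b) x = evZ W a x + evZ W b x := by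
        simp only [evZ_of_mem _ hx, ← evHom_apply, map_add]
      rw [e]
      refine (iha.add ihb).congr' (hl.mono fun y hy => ?_)
      simp only [evZ_of_mem _ hy, ← evHom_apply, map_add]
    | neg a _ iha =>
      have e : evZ W (-a) x = -evZ W a x := by
        simp only [evZ_of_mem _ hx, ← evHom_apply, map_neg]
      rw [e]
      refine iha.neg.congr' (hl.mono fun y hy => ?_)
      simp only [evZ_of_mem _ hy, ← evHom_apply, map_neg]
    | mul a b _ _ iha ihb =>
      have e : evZ W (a * b) x = evZ W a x * evZ W b x := by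
        simp only [evZ_of_mem _ hx, ← evHom_apply, map_mul]
      rw [e]
      refine (iha.mul ihb).congr' (hl.mono fun y hy => ?_)
      simp only [evZ_of_mem _ hy, ← evHom_apply, map_mul]
  rw [TopologicalSpace.nhds_generateFrom]
  refine le_iInf₂ ?_
  rintro S ⟨hxS, U, f, V, hV, rfl⟩
  obtain ⟨hxU, hxV⟩ := hxS
  obtain ⟨g, hgU, hxg⟩ := hW.exists_basicOpen_le (⟨x.pt, hxU⟩ : U) hx
  have := hW.isLocalization_basicOpen g
  obtain ⟨⟨a, s, k, rfl⟩, hfs⟩ := IsLocalization.surj (Submonoid.powers g)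
    (X.presheaf.map (homOfLE hgU).op f)
  have hval : ∀ (y : An.Pts X) (hy : y.pt ∈ X.basicOpen g),
      y.ev U (hgU hy) f * evZ W g y ^ k = evZ W a y := by
    intro y hy
    have hyW : y.pt ∈ W := X.basicOpen_le g hy
    have := congrArg (evHom y (X.basicOpen g) hy) hfs
    rw [RingHom.algebraMap_toAlgebra, map_mul, map_pow, map_pow] at this
    rw [evZ_of_mem g hyW, evZ_of_mem a hyW]
    rw [evHom_apply, evHom_apply, ev_res y hgU hy f, evHom_apply] at this
    erw [ev_res y (X.basicOpen_le g) hy g, ev_res y (X.basicOpen_le g) hy a] at this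
    exact this
  have hgx : evZ W g x ≠ 0 := by
    rw [evZ_of_mem g hx]
    exact (mem_basicOpen_iff x W hx g).1 hxg
  have hev : ∀ᶠ y in l, y.pt ∈ X.basicOpen g := by
    filter_upwards [hl, (key g).eventually_ne hgx] with y hy hne
    rw [evZ_of_mem g hy] at hne
    exact (mem_basicOpen_iff y W hy g).2 hne
  have hlim : Tendsto (fun y => evZ W a y / evZ W g y ^ k) l (𝓝 (x.ev U hxU f)) := by
    have : x.ev U hxU f = evZ W a x / evZ W g x ^ k := by
      rw [eq_div_iff (pow_ne_zero k hgx), hval x hxg]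
    rw [this]
    exact (key a).div ((key g).pow k) (pow_ne_zero k hgx)
  rw [le_principal_iff]
  filter_upwards [hev, hlim.eventually_mem (hV.mem_nhds hxV)] with y hy hyV
  refine ⟨hgU hy, ?_⟩
  have hgy : evZ W g y ≠ 0 := by
    rw [evZ_of_mem g (X.basicOpen_le g hy)]
    exact (mem_basicOpen_iff y W (X.basicOpen_le g hy) g).1 hy
  rwa [show y.ev U (hgU hy) f = evZ W a y / evZ W g y ^ k by
    rw [eq_div_iff (pow_ne_zero k hgy), hval y hy]]

lemma closure_range_strU_union {W : X.Opens} {n : ℕ} {s : Fin n → Γ(X, W)}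
    (hs : Function.Surjective (MvPolynomial.eval₂Hom (strU W) s)) :
    Subring.closure (Set.range (strU W) ∪ Set.range s) = ⊤ := by
  rw [eq_top_iff]
  rintro a -
  obtain ⟨p, rfl⟩ := hs a
  induction p using MvPolynomial.induction_on with
  | C c => rw [MvPolynomial.eval₂Hom_C]; exact Subring.subset_closure (Or.inl ⟨c, rfl⟩)
  | add p q hp hq => rw [map_add]; exact add_mem hp hq
  | mul_X p i hp =>
    rw [map_mul, MvPolynomial.eval₂Hom_X']
    exact mul_mem hp (Subring.subset_closure (Or.inr ⟨i, rfl⟩))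

/-- convergence criterion, for generators over ℂ -/
theorem le_nhds_of_coords {l : Filter (An.Pts X)} {x : An.Pts X} {W : X.Opens}
    (hW : IsAffineOpen W) (hx : x.pt ∈ W) (hl : ∀ᶠ y in l, y.pt ∈ W) {n : ℕ}
    (s : Fin n → Γ(X, W)) (hs : Function.Surjective (MvPolynomial.eval₂Hom (strU W) s))
    (hgen : ∀ i, Tendsto (evZ W (s i)) l (𝓝 (evZ W (s i) x))) : l ≤ 𝓝 x := by
  refine le_nhds_of_generators hW hx hl _ (closure_range_strU_union hs) ?_
  rintro _ (⟨c, rfl⟩ | ⟨i, rfl⟩)
  · rw [evZ_of_mem _ hx, ev_strU]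
    exact tendsto_const_nhds.congr' (hl.mono fun y hy => by rw [evZ_of_mem _ hy, ev_strU])
  · exact hgen i

lemma strU_top (X : Scheme.{0}) [X.Over An.SC] : strU (X := X) ⊤ = An.strHom X := by
  ext c
  change X.presheaf.map (𝟙 _) (An.strHom X c) = _
  rw [X.presheaf.map_id]
  rfl

/-- the coordinate map of a chart -/
noncomputable def coordMap {W : X.Opens} {n : ℕ} (s : Fin n → Γ(X, W))
    (x : (An.Pts.pt ⁻¹' (W : Set X) : Set (An.Pts X))) : Fin n → ℂ :=
  fun i => x.1.ev W x.2 (s i)

lemma continuous_coordMap {W : X.Opens} {n : ℕ} (s : Fin n → Γ(X, W)) :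
    Continuous (coordMap s) :=
  continuous_pi fun i => ((continuousOn_evZ W (s i)).restrict).congr fun x =>
    evZ_of_mem (s i) x.2

lemma ev_eval₂Hom {W : X.Opens} {n : ℕ} (s : Fin n → Γ(X, W)) (x : An.Pts X) (hx : x.pt ∈ W)
    (p : MvPolynomial (Fin n) ℂ) :
    x.ev W hx (MvPolynomial.eval₂Hom (strU W) s p) =
      MvPolynomial.eval (fun i => x.ev W hx (s i)) p := by
  have : (evHom x W hx).comp (MvPolynomial.eval₂Hom (strU W) s) =
      MvPolynomial.eval (fun i => x.ev W hx (s i)) :=
    MvPolynomial.ringHom_ext (fun c => by simp [evHom_apply, ev_strU x W hx])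
      (fun i => by simp [evHom_apply])
  exact congrArg (fun φ : _ →+* ℂ => φ p) this

/-- An affine chart with coordinates is a closed embedding into ℂ^n. -/
theorem isClosedEmbedding_coordMap {W : X.Opens} (hW : IsAffineOpen W) {n : ℕ}
    (s : Fin n → Γ(X, W)) (hs : Function.Surjective (MvPolynomial.eval₂Hom (strU W) s)) :
    IsClosedEmbedding (coordMap s) := by
  have hrange : Set.range (coordMap s) =
      ⋂ p ∈ RingHom.ker (MvPolynomial.eval₂Hom (strU W) s),
        {z | MvPolynomial.eval z p = 0} := by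
    apply Set.Subset.antisymm
    · rintro _ ⟨x, rfl⟩
      refine Set.mem_iInter₂.2 fun p hp => ?_
      change MvPolynomial.eval (fun i => x.1.ev W x.2 (s i)) p = 0
      rw [← ev_eval₂Hom s x.1 x.2 p, RingHom.mem_ker.1 hp, ← evHom_apply, map_zero]
    · intro z hz
      have hz' : RingHom.ker (MvPolynomial.eval₂Hom (strU W) s) ≤
          RingHom.ker (MvPolynomial.eval z) := fun p hp => Set.mem_iInter₂.1 hz p hp
      let φ : Γ(X, W) →+* ℂ := RingHom.liftOfSurjective _ hs ⟨MvPolynomial.eval z, hz'⟩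
      have hφ : ∀ p, φ (MvPolynomial.eval₂Hom (strU W) s p) = MvPolynomial.eval z p :=
        fun p => RingHom.liftOfRightInverse_comp_apply _ _ _ _ _
      obtain ⟨x, hx, he⟩ := exists_of_ringHom hW φ (RingHom.ext fun c => by
        simpa using hφ (MvPolynomial.C c))
      exact ⟨⟨x, hx⟩, funext fun i => (he _).trans (by simpa using hφ (MvPolynomial.X i))⟩
  refine ⟨⟨?_, ?_⟩, ?_⟩
  · rw [isInducing_iff_nhds]
    intro x
    refine le_antisymm ((continuous_coordMap s).tendsto x).le_comap ?_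
    rw [nhds_subtype, ← map_le_iff_le_comap]
    refine le_nhds_of_coords hW x.2 (eventually_map.2 (Eventually.of_forall fun y => y.2)) s hs
      fun i => ?_
    rw [tendsto_map'_iff, evZ_of_mem (s i) x.2]
    have : Tendsto (fun y => coordMap s y i) (comap (coordMap s) (𝓝 (coordMap s x)))
        (𝓝 (coordMap s x i)) :=
      ((continuous_apply (A := fun _ : Fin n => ℂ) i).tendsto (coordMap s x)).comp tendsto_comap
    exact this.congr fun y => (evZ_of_mem (s i) y.2).symm
  · intro x y h
    refine Subtype.ext (ext_ev hW x.2 y.2 fun f => ?_)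
    obtain ⟨p, rfl⟩ := hs f
    rw [ev_eval₂Hom, ev_eval₂Hom]
    exact congrArg (fun z => MvPolynomial.eval z p) h
  · rw [hrange]
    exact isClosed_biInter fun p _ => isClosed_eq (MvPolynomial.continuous_eval p) continuous_const

theorem locallyCompactSpace (X : Scheme.{0}) [X.Over An.SC] [LocallyOfFiniteType (X ↘ An.SC)] :
    LocallyCompactSpace (An.Pts X) := by
  refine ⟨fun x N hN => ?_⟩
  obtain ⟨W, hW, hxW, -⟩ := exists_isAffineOpen_mem_and_subset (Opens.mem_top x.pt)
  obtain ⟨n, s, hs⟩ := exists_generators hW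
  let O : Set (An.Pts X) := An.Pts.pt ⁻¹' (W : Set X)
  have hO : IsOpen O := An.Pts.isOpen_preimage_pt W
  have : LocallyCompactSpace O := (isClosedEmbedding_coordMap hW s hs).locallyCompactSpace
  obtain ⟨K, hK, hKN, hKc⟩ := local_compact_nhds
    (continuous_subtype_val.continuousAt.preimage_mem_nhds hN :
      Subtype.val ⁻¹' N ∈ 𝓝 (⟨x, hxW⟩ : O))
  exact ⟨Subtype.val '' K, hO.isOpenMap_subtype_val.image_mem_nhds hK,
    Set.image_subset_iff.2 hKN, hKc.image continuous_subtype_val⟩

/-- inducing criterion for the map on points of a morphism -/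
theorem isInducing_map_of_appLE_surjective (f : X ⟶ Y) [f.IsOver An.SC]
    (H : ∀ x : An.Pts X, ∃ (W : Y.Opens) (U : X.Opens) (e : U ≤ f ⁻¹ᵁ W), IsAffineOpen U ∧
      x.pt ∈ U ∧ Function.Surjective (f.appLE W U e) ∧
      (∀ᶠ y in comap (An.Pts.map f) (𝓝 (An.Pts.map f x)), y.pt ∈ U)) :
    IsInducing (An.Pts.map f) := by
  rw [isInducing_iff_nhds]
  intro x
  refine le_antisymm ((An.Pts.continuous_map f).tendsto x).le_comap ?_
  obtain ⟨W, U, e, hU, hxU, hsurj, hev⟩ := H x
  refine le_nhds_of_generators hU hxU hev Set.univ (by simp) fun g _ => ?_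
  obtain ⟨a, rfl⟩ := hsurj g
  have he : ∀ y : An.Pts X, y.pt ∈ U → evZ U (f.appLE W U e a) y = evZ W a (An.Pts.map f y) := by
    intro y hy
    have hy' : (An.Pts.map f y).pt ∈ W := by rw [An.Pts.pt_map]; exact e hy
    rw [evZ_of_mem _ hy, evZ_of_mem _ hy', An.Pts.ev_map, Scheme.Hom.appLE, CommRingCat.comp_apply]
    exact ev_res y e hy _
  rw [he x hxU]
  refine Tendsto.congr' (hev.mono fun y hy => (he y hy).symm) ?_
  exact (tendsto_evZ_nhds a (by rw [An.Pts.pt_map]; exact e hxU)).comp tendsto_comap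

theorem map_injective_of_mono (f : X ⟶ Y) [f.IsOver An.SC] [Mono f] :
    Function.Injective (An.Pts.map f) := fun x y h =>
  Subtype.ext ((cancel_mono f).1 (congrArg Subtype.val h))

lemma range_map_of_range_closedPoints [LocallyOfFiniteType (X ↘ An.SC)]
    [LocallyOfFiniteType (Y ↘ An.SC)] (f : X ⟶ Y) [f.IsOver An.SC] :
    Set.range (An.Pts.map f) = An.Pts.pt ⁻¹' Set.range f.base := by
  ext y
  constructor
  · rintro ⟨x, rfl⟩
    exact ⟨x.pt, (An.Pts.pt_map f x).symm⟩
  · intro hy
    obtain ⟨x, hx⟩ := exists_pts_mem (X := X)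
      ((pt_isClosed y).preimage f.continuous).isLocallyClosed
      (by obtain ⟨p, hp⟩ := hy; exact ⟨p, hp⟩)
    exact ⟨x, pt_injective ((An.Pts.pt_map f x).trans hx)⟩

theorem isClosedEmbedding_map_of_isClosedImmersion [LocallyOfFiniteType (X ↘ An.SC)]
    [LocallyOfFiniteType (Y ↘ An.SC)] (f : X ⟶ Y) [f.IsOver An.SC] [IsClosedImmersion f] :
    IsClosedEmbedding (An.Pts.map f) := by
  refine ⟨⟨isInducing_map_of_appLE_surjective f fun x => ?_, map_injective_of_mono f⟩, ?_⟩
  · obtain ⟨W, hW, hxW, -⟩ := exists_isAffineOpen_mem_and_subset (Opens.mem_top (f.base x.pt))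
    have : IsAffine (W : Scheme) := hW
    refine ⟨W, f ⁻¹ᵁ W, le_rfl, hW.preimage f, hxW, ?_, ?_⟩
    · rw [← Scheme.Hom.app_eq_appLE]
      exact f.app_surjective W hW
    · refine mem_of_superset (preimage_mem_comap (eventually_mem_nhds (W := W) ?_)) fun y hy => ?_
      · rw [An.Pts.pt_map]; exact hxW
      · change f.base y.pt ∈ W
        rw [← An.Pts.pt_map]; exact hy
  · rw [range_map_of_range_closedPoints]
    exact f.isClosedEmbedding.isClosed_range.preimage An.Pts.continuous_pt

theorem isOpenEmbedding_map_of_isOpenImmersion [LocallyOfFiniteType (X ↘ An.SC)]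
    [LocallyOfFiniteType (Y ↘ An.SC)] (f : X ⟶ Y) [f.IsOver An.SC] [IsOpenImmersion f] :
    IsOpenEmbedding (An.Pts.map f) := by
  refine ⟨⟨isInducing_map_of_appLE_surjective f fun x => ?_, map_injective_of_mono f⟩, ?_⟩
  · obtain ⟨U, hU, hxU, -⟩ := exists_isAffineOpen_mem_and_subset (Opens.mem_top x.pt)
    refine ⟨f ''ᵁ U, U, (f.preimage_image_eq U).ge, hU, hxU, ?_, ?_⟩
    · rw [← f.appIso_hom']
      exact (ConcreteCategory.bijective_of_isIso (f.appIso U).hom).2
    · refine mem_of_superset (preimage_mem_comap (eventually_mem_nhds (W := f ''ᵁ U) ?_)) fun y hy => ?_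
      · rw [An.Pts.pt_map]; exact ⟨x.pt, hxU, rfl⟩
      · change y.pt ∈ U
        rw [← f.preimage_image_eq U]
        change f.base y.pt ∈ f ''ᵁ U
        rw [← An.Pts.pt_map]; exact hy
  · rw [range_map_of_range_closedPoints]
    exact f.isOpenEmbedding.isOpen_range.preimage An.Pts.continuous_pt

theorem pushout_generated {A B C P : CommRingCat.{0}} {f : A ⟶ B} {g : A ⟶ C} {i : B ⟶ P}
    {j : C ⟶ P} (h : IsPushout f g i j) :
    Subring.closure (Set.range i ∪ Set.range j) = ⊤ := by
  let R := Subring.closure (Set.range i ∪ Set.range j)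
  let i' : B ⟶ CommRingCat.of R := CommRingCat.ofHom
    (i.hom.codRestrict R fun b => Subring.subset_closure (Or.inl ⟨b, rfl⟩))
  let j' : C ⟶ CommRingCat.of R := CommRingCat.ofHom
    (j.hom.codRestrict R fun b => Subring.subset_closure (Or.inr ⟨b, rfl⟩))
  have w : f ≫ i' = g ≫ j' :=
    CommRingCat.hom_ext (RingHom.ext fun a => Subtype.ext
      (congrArg (fun k : A ⟶ P => k a) h.w))
  have key : h.desc i' j' w ≫ CommRingCat.ofHom R.subtype = 𝟙 P := by
    apply h.hom_ext
    · rw [h.inl_desc_assoc, Category.comp_id]; rfl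
    · rw [h.inr_desc_assoc, Category.comp_id]; rfl
  rw [eq_top_iff]
  rintro a -
  have := congrArg (fun k : P ⟶ P => k a) key
  have h2 : ((h.desc i' j' w a : R) : P) = a := this
  exact h2 ▸ (h.desc i' j' w a).2

/-- global coordinates on an affine scheme give a closed embedding -/
theorem isClosedEmbedding_evTop [IsAffine X] {n : ℕ} (s : Fin n → Γ(X, ⊤))
    (hs : Function.Surjective (MvPolynomial.eval₂Hom (An.strHom X) s)) :
    IsClosedEmbedding (fun (x : An.Pts X) (i : Fin n) => x.evTop (s i)) := by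
  have hs' : Function.Surjective (MvPolynomial.eval₂Hom (strU ⊤) s) := by
    rw [strU_top]; exact hs
  have hS : (An.Pts.pt ⁻¹' ((⊤ : X.Opens) : Set X) : Set (An.Pts X)) = Set.univ :=
    Set.eq_univ_of_forall fun x => trivial
  let e : An.Pts X ≃ₜ (An.Pts.pt ⁻¹' ((⊤ : X.Opens) : Set X) : Set (An.Pts X)) :=
    { toFun := fun x => ⟨x, trivial⟩
      invFun := Subtype.val
      left_inv := fun _ => rfl
      right_inv := fun _ => rfl
      continuous_toFun := continuous_id.subtype_mk _
      continuous_invFun := continuous_subtype_val }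
  have h := (isClosedEmbedding_coordMap (isAffineOpen_top X) s hs').comp e.isClosedEmbedding
  have he : (fun (x : An.Pts X) (i : Fin n) => x.evTop (s i)) = coordMap s ∘ e := by
    funext x i
    simp only [Function.comp_apply, coordMap, e]
    rfl
  rw [he]
  exact h

end GrothLib.AnPts
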