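import Groth.Agent.Lib.AnPts.Top
import Groth.Agent.S4183
import Groth.Prelude.Def_AnHol
import Mathlib.Analysis.Calculus.FDeriv.Mul
import Mathlib.Analysis.Calculus.FDeriv.Pi
import Mathlib.Analysis.Calculus.FDeriv.Add

/-!
# Holomorphic functions on affine space
-/

open AlgebraicGeometry CategoryTheory TopologicalSpace Opposite Topology Filter

namespace GrothLib.AnPts

lemma coord_surjective (n : ℕ) : Function.Surjective (MvPolynomial.eval₂Hom
    (An.strHom 𝔸(Fin n; An.SC)) (AffineSpace.coord An.SC (n := Fin n))) := by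
  intro a
  let E : Γ(Spec (CommRingCat.of (MvPolynomial (Fin n) Γ(An.SC, ⊤))), ⊤) ≅ Γ(𝔸(Fin n; An.SC), ⊤) :=
    Scheme.Γ.mapIso (AffineSpace.isoOfIsAffine (Fin n) An.SC).op
  obtain ⟨b, hb⟩ := (ConcreteCategory.bijective_of_isIso E.hom).2 a
  replace hb : (AffineSpace.isoOfIsAffine (Fin n) An.SC).hom.appTop b = a := hb
  rw [AffineSpace.isoOfIsAffine_hom_appTop, CommRingCat.comp_apply] at hb
  refine ⟨MvPolynomial.map (Scheme.ΓSpecIso (CommRingCat.of ℂ)).hom.hom
    ((Scheme.ΓSpecIso _).hom b), ?_⟩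
  rw [MvPolynomial.coe_eval₂Hom, MvPolynomial.eval₂_map]
  refine Eq.trans ?_ hb
  rw [CommRingCat.ofHom_apply, MvPolynomial.coe_eval₂Hom]
  congr 1
  ext c
  simp only [An.strHom, RingHom.coe_comp, Function.comp_apply]
  exact congrArg _ (Iso.hom_inv_id_apply (Scheme.ΓSpecIso (CommRingCat.of ℂ)) c)

/-- the coordinates of a point of affine space -/
noncomputable abbrev co (n : ℕ) (x : An.Pts (𝔸(Fin n; An.SC))) : Fin n → ℂ :=
  fun i => x.evTop (AffineSpace.coord An.SC i)

lemma differentiable_eval {n : ℕ} (p : MvPolynomial (Fin n) ℂ) :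
    Differentiable ℂ fun z : Fin n → ℂ => MvPolynomial.eval z p := by
  induction p using MvPolynomial.induction_on with
  | C c => simp only [MvPolynomial.eval_C]; fun_prop
  | add p q hp hq => simp only [map_add]; exact hp.add hq
  | mul_X p j hp => simp only [map_mul, MvPolynomial.eval_X]; exact hp.mul (by fun_prop)

/-- sections are rational functions of the coordinates near each point -/
lemma exists_differentiable_evZ {n : ℕ} (W : (𝔸(Fin n; An.SC)).Opens)
    (s : Γ(𝔸(Fin n; An.SC), W)) (x : An.Pts (𝔸(Fin n; An.SC))) (hx : x.pt ∈ W) :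
    ∃ F : (Fin n → ℂ) → ℂ, DifferentiableAt ℂ F (co n x) ∧
      ∀ᶠ y in 𝓝 x, y.pt ∈ W ∧ evZ W s y = F (co n y) := by
  have hT : IsAffineOpen (⊤ : (𝔸(Fin n; An.SC)).Opens) := isAffineOpen_top _
  obtain ⟨g, hgW, hxg⟩ := hT.exists_basicOpen_le (⟨x.pt, hx⟩ : W) trivial
  have := hT.isLocalization_basicOpen g
  obtain ⟨⟨a, _, k, rfl⟩, hfs⟩ := IsLocalization.surj (Submonoid.powers g)
    ((𝔸(Fin n; An.SC)).presheaf.map (homOfLE hgW).op s)
  obtain ⟨pa, hpa⟩ := coord_surjective n a
  obtain ⟨pg, hpg⟩ := coord_surjective n g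
  rw [← strU_top] at hpa hpg
  have hev : ∀ (y : An.Pts (𝔸(Fin n; An.SC))), y.evTop g = MvPolynomial.eval (co n y) pg ∧
      y.evTop a = MvPolynomial.eval (co n y) pa := fun y =>
    ⟨by rw [← hpg]; exact ev_eval₂Hom (W := ⊤) _ y (Opens.mem_top _) pg, by rw [← hpa]; exact ev_eval₂Hom (W := ⊤) _ y (Opens.mem_top _) pa⟩
  have hne : ∀ y : An.Pts (𝔸(Fin n; An.SC)), y.pt ∈ (𝔸(Fin n; An.SC)).basicOpen g →
      MvPolynomial.eval (co n y) pg ≠ 0 := fun y hy => by
    rw [← (hev y).1]; exact (mem_basicOpen_iff y ⊤ trivial g).1 hy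
  refine ⟨fun z => MvPolynomial.eval z pa * (MvPolynomial.eval z pg ^ k)⁻¹, ?_, ?_⟩
  · exact (differentiable_eval pa).differentiableAt.mul
      (((differentiable_eval pg).differentiableAt.pow k).inv (pow_ne_zero k (hne x hxg)))
  · filter_upwards [eventually_mem_nhds hxg] with y hy
    refine ⟨hgW hy, ?_⟩
    have h := congrArg (evHom y _ hy) hfs
    rw [RingHom.algebraMap_toAlgebra, map_mul, map_pow, map_pow, evHom_apply, evHom_apply,
      ev_res y hgW hy s, evHom_apply] at h
    erw [ev_res y ((𝔸(Fin n; An.SC)).basicOpen_le g) hy g,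
      ev_res y ((𝔸(Fin n; An.SC)).basicOpen_le g) hy a] at h
    rw [evZ_of_mem s (hgW hy), ← (hev y).1, ← (hev y).2,
      eq_mul_inv_iff_mul_eq₀ (pow_ne_zero k ((mem_basicOpen_iff y ⊤ trivial g).1 hy))]
    exact h

theorem holPred_affineSpace_iff (n : ℕ) (U : TopologicalSpace.Opens (An.Pts (𝔸(Fin n; An.SC))))
    (g : U → ℂ) :
    (An.holPred (𝔸(Fin n; An.SC))).pred g ↔
      ∃ G : (Fin n → ℂ) → ℂ, DifferentiableOn ℂ G (co n '' (U : Set (An.Pts (𝔸(Fin n; An.SC))))) ∧
        ∀ x : U, g x = G (co n x) := by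
  have hco : IsHomeomorph (co n) := Groth.Agent.S4183.result n
  have himage : IsOpen (co n '' (U : Set (An.Pts (𝔸(Fin n; An.SC))))) := hco.isOpenMap _ U.isOpen
  constructor
  · intro hg
    classical
    let e := hco.homeomorph
    refine ⟨fun z => if h : e.symm z ∈ U then g ⟨e.symm z, h⟩ else 0, ?_, fun x => ?_⟩
    swap
    · have hx : e.symm (co n x.1) = x.1 := e.symm_apply_apply x.1
      change g x = dite _ _ _
      rw [dif_pos (by rw [hx]; exact x.2)]
      exact congrArg g (Subtype.ext hx.symm)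
    rintro z ⟨x, hx, rfl⟩
    refine DifferentiableAt.differentiableWithinAt ?_
    obtain ⟨V, hxV, i, hV⟩ := hg ⟨x, hx⟩
    have key : ∀ f ∈ An.chartAlg V, ∃ F : (Fin n → ℂ) → ℂ, DifferentiableAt ℂ F (co n x) ∧
        ∀ᶠ y in 𝓝 x, ∀ hy : y ∈ V, f ⟨y, hy⟩ = F (co n y) := by
      intro f hf
      induction hf using Algebra.adjoin_induction with
      | mem f hf =>
        obtain ⟨W, hW, m, s, V', G, hV', hG, hfe⟩ := hf
        choose F hF hFe using fun j => exists_differentiable_evZ W (s j) x (hW ⟨x, hxV⟩)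
        have hval : (fun j => F j (co n x)) = fun j => An.Pts.ev x W (hW ⟨x, hxV⟩) (s j) :=
          funext fun j => by rw [← (hFe j).self_of_nhds.2, evZ_of_mem]
        refine ⟨fun z => G (fun j => F j z), ?_, ?_⟩
        · refine DifferentiableAt.comp (g := G) _ ?_ (differentiableAt_pi.2 hF)
          refine hG.differentiableAt (hV'.mem_nhds ?_)
          rw [hval]
          exact (hfe ⟨x, hxV⟩).1
        · filter_upwards [eventually_all.2 hFe] with y hy hyV
          rw [(hfe ⟨y, hyV⟩).2]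
          congr 1
          funext j
          rw [← (hy j).2, evZ_of_mem]
      | algebraMap c => exact ⟨fun _ => c, differentiableAt_const c, Eventually.of_forall fun y hy => rfl⟩
      | add f f' _ _ hf hf' =>
        obtain ⟨F, hF, he⟩ := hf
        obtain ⟨F', hF', he'⟩ := hf'
        exact ⟨F + F', hF.add hF', (he.and he').mono fun y hy hyV => by simp [hy.1 hyV, hy.2 hyV]⟩
      | mul f f' _ _ hf hf' =>
        obtain ⟨F, hF, he⟩ := hf
        obtain ⟨F', hF', he'⟩ := hf'
        exact ⟨F * F', hF.mul hF', (he.and he').mono fun y hy hyV => by simp [hy.1 hyV, hy.2 hyV]⟩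
    obtain ⟨F, hF, he⟩ := key _ hV
    refine hF.congr_of_eventuallyEq ?_
    have hev : ∀ᶠ y in 𝓝 x, ∀ hy : y ∈ U, g ⟨y, hy⟩ = F (co n y) := by
      filter_upwards [he, V.isOpen.mem_nhds hxV] with y hy hyV hyU
      exact hy hyV
    have hsy : Tendsto e.symm (𝓝 (co n x)) (𝓝 x) := by
      have := e.symm.continuous.tendsto (co n x)
      rwa [show e.symm (co n x) = x from e.symm_apply_apply x] at this
    filter_upwards [hsy.eventually hev, hsy.eventually (U.isOpen.mem_nhds hx)] with w hw hwU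
    have hwU' : e.symm w ∈ U := hwU
    rw [dif_pos hwU', hw hwU']
    exact congrArg F (e.apply_symm_apply w)
  · rintro ⟨G, hG, hgG⟩
    refine An.holPred_of_chartAlg (Algebra.subset_adjoin ⟨⊤, fun _ => trivial, n,
      fun j => AffineSpace.coord An.SC j, co n '' (U : Set (An.Pts (𝔸(Fin n; An.SC)))), G,
      himage, hG, fun x => ⟨⟨x.1, x.2, rfl⟩, hgG x⟩⟩)

end GrothLib.AnPts
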