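import Groth.Prelude.Def_AnPts
import Mathlib.AlgebraicGeometry.AlgClosed.Basic
import Mathlib.AlgebraicGeometry.Morphisms.FiniteType
import Mathlib.RingTheory.FiniteType
import Mathlib.AlgebraicGeometry.Noetherian
import Mathlib.Analysis.Complex.Polynomial.Basic

/-!
# ℂ-points of schemes over ℂ: values, affine charts, closed points
-/

open AlgebraicGeometry CategoryTheory TopologicalSpace Opposite

namespace GrothLib.AnPts

variable {X : Scheme.{0}} [X.Over An.SC]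

/-- evaluation at a ℂ-point, as a ring homomorphism -/
noncomputable def evHom (x : An.Pts X) (U : X.Opens) (h : x.pt ∈ U) : Γ(X, U) →+* ℂ :=
  ((Scheme.ΓSpecIso (CommRingCat.of ℂ)).hom.hom).comp
    (x.1.appLE U ⊤ (An.Pts.top_le_preimage x h)).hom

lemma evHom_apply (x : An.Pts X) (U : X.Opens) (h : x.pt ∈ U) (f : Γ(X, U)) :
    evHom x U h f = x.ev U h f := rfl

lemma ev_res (x : An.Pts X) {U V : X.Opens} (hUV : V ≤ U) (h : x.pt ∈ V) (f : Γ(X, U)) :
    x.ev V h (X.presheaf.map (homOfLE hUV).op f) = x.ev U (hUV h) f := by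
  unfold An.Pts.ev
  rw [← CommRingCat.comp_apply (X.presheaf.map (homOfLE hUV).op) (x.1.appLE V ⊤ _),
    Scheme.Hom.map_appLE]

/-- the constants on an open subset -/
noncomputable def strU (U : X.Opens) : ℂ →+* Γ(X, U) :=
  (X.presheaf.map (homOfLE (le_top : U ≤ ⊤)).op).hom.comp (An.strHom X)

lemma ev_strU (x : An.Pts X) (U : X.Opens) (h : x.pt ∈ U) (c : ℂ) :
    x.ev U h (strU U c) = c := by
  change x.ev U h (X.presheaf.map (homOfLE (le_top : U ≤ ⊤)).op (An.strHom X c)) = c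
  rw [ev_res]
  have key : (X ↘ An.SC).appTop ≫ x.1.appLE ⊤ ⊤ (An.Pts.top_le_preimage x trivial) = 𝟙 _ := by
    rw [show x.1.appLE ⊤ ⊤ (An.Pts.top_le_preimage x trivial) = x.1.appTop from
      x.1.appLE_eq_app, ← Scheme.Hom.comp_appTop, x.2]
    rfl
  have := congrArg (fun k => (Scheme.ΓSpecIso (CommRingCat.of ℂ)).hom (k ((Scheme.ΓSpecIso (CommRingCat.of ℂ)).inv c))) key
  simp only [CommRingCat.comp_apply, CommRingCat.id_apply] at this
  exact this.trans ((Scheme.ΓSpecIso (CommRingCat.of ℂ)).inv_hom_id_apply c)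

lemma evHom_comp_strU (x : An.Pts X) (U : X.Opens) (h : x.pt ∈ U) :
    (evHom x U h).comp (strU U) = RingHom.id ℂ :=
  RingHom.ext fun c => ev_strU x U h c

lemma mem_basicOpen_iff (x : An.Pts X) (U : X.Opens) (h : x.pt ∈ U) (f : Γ(X, U)) :
    x.pt ∈ X.basicOpen f ↔ x.ev U h f ≠ 0 := by
  have h1 : x.pt ∈ X.basicOpen f ↔ An.cpt ∈ An.SC.basicOpen (x.1.app U f) := by
    change An.cpt ∈ x.1 ⁻¹ᵁ X.basicOpen f ↔ _
    rw [Scheme.preimage_basicOpen]
  have h2 : An.SC.basicOpen (x.1.appLE U ⊤ (An.Pts.top_le_preimage x h) f) =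
      An.SC.basicOpen (x.1.app U f) := by
    rw [Scheme.Hom.appLE, CommRingCat.comp_apply, Scheme.basicOpen_res, top_inf_eq]
  rw [h1, ← h2]
  constructor
  · intro hm hz
    have h0 : x.1.appLE U ⊤ (An.Pts.top_le_preimage x h) f = 0 :=
      (ConcreteCategory.bijective_of_isIso (Scheme.ΓSpecIso (CommRingCat.of ℂ)).hom).1
        (hz.trans (map_zero _).symm)
    rw [h0, Scheme.basicOpen_zero] at hm
    exact hm
  · intro hne
    have hu : IsUnit (x.1.appLE U ⊤ (An.Pts.top_le_preimage x h) f) :=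
      (isUnit_map_iff (Scheme.ΓSpecIso (CommRingCat.of ℂ)).commRingCatIsoToRingEquiv _).1
        (isUnit_iff_ne_zero.2 hne)
    rw [Scheme.basicOpen_of_isUnit _ hu]
    trivial

lemma eq_SpecMap_evHom (x : An.Pts X) {U : X.Opens} (hU : IsAffineOpen U) (h : x.pt ∈ U) :
    x.1 = Spec.map (CommRingCat.ofHom (evHom x U h)) ≫ hU.fromSpec := by
  have e : CommRingCat.ofHom (evHom x U h) =
      x.1.appLE U ⊤ (An.Pts.top_le_preimage x h) ≫ (Scheme.ΓSpecIso (CommRingCat.of ℂ)).hom := rfl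
  rw [e, Spec.map_comp, Category.assoc,
    IsAffineOpen.SpecMap_appLE_fromSpec x.1 hU (isAffineOpen_top _) _,
    IsAffineOpen.fromSpec_top, Scheme.isoSpec_Spec_inv, ← Category.assoc, ← Spec.map_comp,
    Iso.inv_hom_id, Spec.map_id, Category.id_comp]

lemma ext_ev {x y : An.Pts X} {U : X.Opens} (hU : IsAffineOpen U) (hx : x.pt ∈ U) (hy : y.pt ∈ U)
    (h : ∀ f, x.ev U hx f = y.ev U hy f) : x = y :=
  Subtype.ext (by rw [eq_SpecMap_evHom x hU hx, eq_SpecMap_evHom y hU hy,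
    show evHom x U hx = evHom y U hy from RingHom.ext h])

lemma exists_of_ringHom {U : X.Opens} (hU : IsAffineOpen U) (φ : Γ(X, U) →+* ℂ)
    (hφ : φ.comp (strU U) = RingHom.id ℂ) :
    ∃ (x : An.Pts X) (h : x.pt ∈ U), ∀ f, x.ev U h f = φ f := by
  let x₀ : An.SC ⟶ X := Spec.map (CommRingCat.ofHom φ) ≫ hU.fromSpec
  have hmem : ∀ p : ↥An.SC, x₀.base p ∈ U := fun p => by
    rw [show x₀.base p = hU.fromSpec.base ((Spec.map (CommRingCat.ofHom φ)).base p) from
      Scheme.Hom.comp_apply _ _ _, ← SetLike.mem_coe, ← hU.range_fromSpec]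
    exact ⟨_, rfl⟩
  have hle : (⊤ : An.SC.Opens) ≤ x₀ ⁻¹ᵁ U := fun p _ => hmem p
  have happ : x₀.appLE U ⊤ hle ≫ (Scheme.ΓSpecIso (CommRingCat.of ℂ)).hom = CommRingCat.ofHom φ := by
    apply Spec.map_injective
    rw [← cancel_mono hU.fromSpec, Spec.map_comp, Category.assoc,
      IsAffineOpen.SpecMap_appLE_fromSpec x₀ hU (isAffineOpen_top _) _,
      IsAffineOpen.fromSpec_top, Scheme.isoSpec_Spec_inv, ← Category.assoc, ← Spec.map_comp,
      Iso.inv_hom_id, Spec.map_id, Category.id_comp]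
  have hsec : x₀ ≫ (X ↘ An.SC) = 𝟙 An.SC := by
    apply ext_of_isAffine
    rw [Scheme.Hom.comp_appTop, ← cancel_mono (Scheme.ΓSpecIso (CommRingCat.of ℂ)).hom,
      ← cancel_epi (Scheme.ΓSpecIso (CommRingCat.of ℂ)).inv]
    have e1 : x₀.appTop = X.presheaf.map (homOfLE (le_top : U ≤ ⊤)).op ≫ x₀.appLE U ⊤ hle := by
      rw [Scheme.Hom.map_appLE]
      exact x₀.appLE_eq_app.symm
    rw [e1, Category.assoc, Category.assoc, happ]
    refine Eq.trans ?_ (by rw [show (𝟙 An.SC : An.SC ⟶ An.SC).appTop = 𝟙 _ from rfl,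
      Category.id_comp, Iso.inv_hom_id] : 𝟙 (CommRingCat.of ℂ) = _)
    ext c
    exact congrArg (fun k : ℂ →+* ℂ => k c) hφ
  refine ⟨⟨x₀, hsec⟩, hmem _, fun f => ?_⟩
  exact congrArg (fun k : _ ⟶ CommRingCat.of ℂ => k f) happ

lemma exists_generators [LocallyOfFiniteType (X ↘ An.SC)] {U : X.Opens} (hU : IsAffineOpen U) :
    ∃ (n : ℕ) (s : Fin n → Γ(X, U)), Function.Surjective (MvPolynomial.eval₂Hom (strU U) s) := by
  have hft := (X ↘ An.SC).finiteType_appLE (isAffineOpen_top _) hU (by simp)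
  have hft' : (strU U).FiniteType := by
    have := hft.comp (RingHom.FiniteType.of_surjective _
      (ConcreteCategory.bijective_of_isIso (Scheme.ΓSpecIso (CommRingCat.of ℂ)).inv).2)
    convert this using 1
    refine RingHom.ext fun c => ?_
    rw [Scheme.Hom.appLE]
    rfl
  algebraize [strU U]
  obtain ⟨n, g, hg⟩ := Algebra.FiniteType.iff_quotient_mvPolynomial''.1 ‹_›
  refine ⟨n, fun i => g (MvPolynomial.X i), ?_⟩
  have : g = MvPolynomial.aeval (fun i => g (MvPolynomial.X i)) := MvPolynomial.aeval_unique g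
  intro a
  obtain ⟨p, hp⟩ := hg a
  exact ⟨p, by rw [← hp]; conv_rhs => rw [this]
               rfl⟩

variable [LocallyOfFiniteType (X ↘ An.SC)]

lemma pt_isClosed (x : An.Pts X) : IsClosed {x.pt} := by
  have h := ((pointEquivClosedPoint (X ↘ An.SC)) ⟨x.1, x.2⟩).2
  rw [pointEquivClosedPoint_apply_coe, An.eq_cpt (IsLocalRing.closedPoint ℂ)] at h
  exact h

lemma pt_injective : Function.Injective (An.Pts.pt (X := X)) := fun x y h =>
  Subtype.ext (ext_of_apply_closedPoint_eq (X ↘ An.SC) x.2 y.2 (by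
    rw [An.eq_cpt (IsLocalRing.closedPoint ℂ)]
    exact h))

lemma exists_pt_eq (p : ↥X) (hp : IsClosed {p}) : ∃ x : An.Pts X, x.pt = p :=
  ⟨⟨pointOfClosedPoint (X ↘ An.SC) p hp, pointOfClosedPoint_comp _ _ _⟩,
    pointOfClosedPoint_apply _ _ _ _⟩

lemma range_pt : Set.range (An.Pts.pt (X := X)) = closedPoints X := by
  ext p
  exact ⟨by rintro ⟨x, rfl⟩; exact pt_isClosed x, exists_pt_eq p⟩

lemma jacobsonSpace : JacobsonSpace ↥X := LocallyOfFiniteType.jacobsonSpace (X ↘ An.SC)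

lemma isLocallyNoetherian : IsLocallyNoetherian X :=
  LocallyOfFiniteType.isLocallyNoetherian (X ↘ An.SC)

/-- a nonempty locally closed set contains a ℂ-point -/
lemma exists_pts_mem {Z : Set ↥X} (hZ : IsLocallyClosed Z) (hne : Z.Nonempty) :
    ∃ x : An.Pts X, x.pt ∈ Z := by
  have := jacobsonSpace (X := X)
  obtain ⟨p, hpZ, hp⟩ := nonempty_inter_closedPoints hne hZ
  obtain ⟨x, rfl⟩ := exists_pt_eq p hp
  exact ⟨x, hpZ⟩

end GrothLib.AnPts
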