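import Groth.Prelude.Def_AnCl
import Mathlib.CategoryTheory.Sites.DenseSubsite.SheafEquiv
import Mathlib.CategoryTheory.Sites.DenseSubsite.Basic
import Mathlib.Algebra.Category.Grp.Limits

/-!
# The opens of a space as a dense subsite of its site of local homeomorphisms
-/

open CategoryTheory TopologicalSpace Topology Opposite

universe u

namespace GrothLib.AnPts

variable (T : Type u) [TopologicalSpace T]

lemma opensToCl_eq {U V : Opens T} (f : (An.opensToCl T).obj U ⟶ (An.opensToCl T).obj V) :
    ∃ h : U ⟶ V, (An.opensToCl T).map h = f := by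
  refine ⟨homOfLE fun x hx => ?_, An.Cl.hom_ext (funext fun a => Subtype.ext (f.over a).symm)⟩
  have e := f.over ⟨x, hx⟩
  change (f.toFun ⟨x, hx⟩).1 = x at e
  exact e ▸ (f.toFun ⟨x, hx⟩).2

instance : (An.opensToCl T).Full := ⟨fun f => opensToCl_eq T f⟩

instance : (An.opensToCl T).Faithful := ⟨fun _ => Subsingleton.elim _ _⟩

instance : (An.opensToCl T).IsCoverDense (An.Cl.topology T) := by
  refine ⟨fun A a => ?_⟩
  obtain ⟨e, hae, he⟩ := A.lh a
  let V : Opens T := ⟨e.target, e.open_target⟩
  let g : (An.opensToCl T).obj V ⟶ A :=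
    ⟨fun v => e.symm v.1, e.continuousOn_symm.domRestrict, fun v => by
      rw [congrFun he]; exact e.right_inv v.2⟩
  refine ⟨_, g, Presieve.in_coverByImage _ g, ?_, ⟨⟨e a, e.map_source hae⟩, e.left_inv hae⟩⟩
  refine IsOpenEmbedding.of_continuous_injective_isOpenMap g.continuous ?_ ?_
  · intro v w hvw
    exact Subtype.ext (e.symm.injOn v.2 w.2 hvw)
  · intro O hO
    have : g.toFun '' O = e.symm '' (Subtype.val '' O) := by
      rw [Set.image_image]; rfl
    rw [this]
    exact e.symm.isOpen_image_of_subset_source (e.open_target.isOpenMap_subtype_val _ hO)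
      (by rintro _ ⟨v, -, rfl⟩; exact v.2)

instance : (An.opensToCl T).IsDenseSubsite (Opens.grothendieckTopology T) (An.Cl.topology T) where
  functorPushforward_mem_iff := by
    intro U S
    constructor
    · intro h
      rw [Opens.mem_grothendieckTopology]
      intro x hx
      obtain ⟨B, g, ⟨W, k, l, hk, hl⟩, -, b, hb⟩ := h ⟨x, hx⟩
      refine ⟨W, k, hk, ?_⟩
      have e : (((An.opensToCl T).map k).toFun (l.toFun b)) = (⟨x, hx⟩ : U) := by
        rw [← hb, hl]; rfl
      have e' : (l.toFun b).1 = x := congrArg Subtype.val e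
      exact e' ▸ (l.toFun b).2
    · intro h a
      obtain ⟨W, k, hk, hx⟩ := ((Opens.mem_grothendieckTopology T).1 h) a.1 a.2
      refine ⟨_, (An.opensToCl T).map k, Sieve.image_mem_functorPushforward _ _ hk, ?_,
        ⟨⟨a.1, hx⟩, rfl⟩⟩
      exact IsOpenEmbedding.inclusion k.le (W.2.preimage continuous_subtype_val)

theorem opCont : An.OpCont T := inferInstance

theorem resOpens_isEquivalence [An.OpCont T] : (An.resOpens T).IsEquivalence := inferInstance

end GrothLib.AnPts
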