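import Mathlib.RingTheory.NoetherNormalization
import Mathlib.RingTheory.Jacobson.Ring
import Mathlib.RingTheory.Polynomial.UniqueFactorization
import Mathlib.RingTheory.Polynomial.RationalRoot
import Mathlib.FieldTheory.Minpoly.IsIntegrallyClosed
import Mathlib.Analysis.Complex.Polynomial.Basic
import Mathlib.Analysis.SpecialFunctions.Pow.NNReal
import Mathlib.Topology.Algebra.MvPolynomial
import Mathlib.Algebra.MvPolynomial.Funext
import Mathlib.Topology.MetricSpace.ProperSpace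

/-!
# Complex points of finite integral extensions of polynomial rings
Lifting of points, root bounds, and density of principal opens in a domain.
-/

open Polynomial Topology Filter

namespace GrothLib.AnPts.Alg

/-- A monic polynomial of positive degree has a root near `z` if its value at `z` is small. -/
theorem exists_root_norm_sub_pow_le {P : ℂ[X]} (hP : P.Monic) (hd : P.natDegree ≠ 0) (z : ℂ) :
    ∃ r, P.IsRoot r ∧ ‖r - z‖ ^ P.natDegree ≤ ‖P.eval z‖ := by
  have hs : P.Splits := IsAlgClosed.splits P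
  have hcard : P.roots.card = P.natDegree := IsAlgClosed.card_roots_eq_natDegree
  have hne : P.roots ≠ 0 := fun h => hd (by rw [← hcard, h, Multiset.card_zero])
  obtain ⟨r, hr, hmin⟩ := Finset.exists_min_image P.roots.toFinset (fun r => ‖r - z‖₊)
    (by obtain ⟨a, ha⟩ := Multiset.exists_mem_of_ne_zero hne; exact ⟨a, Multiset.mem_toFinset.2 ha⟩)
  refine ⟨r, isRoot_of_mem_roots (Multiset.mem_toFinset.1 hr), ?_⟩
  have hev : P.eval z = (P.roots.map fun a => z - a).prod := by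
    conv_lhs => rw [hs.eq_prod_roots_of_monic hP]
    rw [eval_multiset_prod, Multiset.map_map]
    simp
  have h := Multiset.pow_card_le_prod (s := P.roots.map fun a => ‖z - a‖₊) (a := ‖r - z‖₊) (by
    intro x hx
    obtain ⟨a, ha, rfl⟩ := Multiset.mem_map.1 hx
    rw [← nnnorm_neg (z - a), neg_sub]
    exact hmin a (Multiset.mem_toFinset.2 ha))
  rw [Multiset.card_map, hcard] at h
  have hn : ‖P.eval z‖₊ = (P.roots.map fun a => ‖z - a‖₊).prod := by
    rw [hev]
    induction P.roots using Multiset.induction_on with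
    | empty => simp
    | cons a s ih => simp [ih]
  rw [← hn] at h
  exact_mod_cast h

/-- Root bound for a monic polynomial. -/
theorem norm_root_le {P : ℂ[X]} (hP : P.Monic) {r : ℂ} (hr : P.IsRoot r) :
    ‖r‖ ≤ 1 + ∑ i ∈ Finset.range P.natDegree, ‖P.coeff i‖ := by
  have hs : (0 : ℝ) ≤ ∑ i ∈ Finset.range P.natDegree, ‖P.coeff i‖ :=
    Finset.sum_nonneg fun _ _ => norm_nonneg _
  by_cases h1 : ‖r‖ ≤ 1
  · linarith
  push Not at h1
  have h0 : P.eval r = 0 := hr
  rw [eval_eq_sum_range, Finset.sum_range_succ, coeff_natDegree, hP.leadingCoeff, one_mul] at h0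
  rcases Nat.eq_zero_or_pos P.natDegree with hn | hn
  · rw [hn] at h0; simp at h0
  have h2 : ‖r‖ ^ P.natDegree ≤
      (∑ i ∈ Finset.range P.natDegree, ‖P.coeff i‖) * ‖r‖ ^ (P.natDegree - 1) := by
    rw [← norm_pow, eq_neg_of_add_eq_zero_right h0, norm_neg, Finset.sum_mul]
    refine (norm_sum_le _ _).trans (Finset.sum_le_sum fun i hi => ?_)
    rw [norm_mul, norm_pow]
    exact mul_le_mul_of_nonneg_left
      (pow_le_pow_right₀ h1.le (by have := Finset.mem_range.1 hi; omega)) (norm_nonneg _)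
  rw [← mul_pow_sub_one hn.ne' ‖r‖] at h2
  have := le_of_mul_le_mul_right h2 (pow_pos (by linarith) _)
  linarith

variable {d : ℕ}

local notation "ℛ" => MvPolynomial (Fin d) ℂ

variable {A : Type} [CommRing A] [Algebra (MvPolynomial (Fin d) ℂ) A]

/-- the fibre polynomial -/
noncomputable abbrev fibrePoly (P : ℛ[X]) (y : Fin d → ℂ) : ℂ[X] := P.map (MvPolynomial.eval y)

lemma continuous_coeff_fibrePoly (P : ℛ[X]) (i : ℕ) :
    Continuous fun y => (fibrePoly P y).coeff i := by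
  simp only [coeff_map]
  exact MvPolynomial.continuous_eval _

lemma continuous_eval_fibrePoly (P : ℛ[X]) :
    Continuous fun q : (Fin d → ℂ) × ℂ => (fibrePoly P q.1).eval q.2 := by
  simp only [eval_map, eval₂_eq_sum, Polynomial.sum]
  exact continuous_finsetSum _ fun i _ =>
    ((MvPolynomial.continuous_eval _).comp continuous_fst).mul (continuous_snd.pow i)

lemma isRoot_fibrePoly_of_aeval_eq_zero {P : ℛ[X]} {θ : A} (h : aeval θ P = 0) {φ : A →+* ℂ}
    {y : Fin d → ℂ} (hφ : ∀ p, φ (algebraMap ℛ A p) = MvPolynomial.eval y p) :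
    (fibrePoly P y).IsRoot (φ θ) := by
  have := congrArg φ h
  rw [map_zero, aeval_def, hom_eval₂] at this
  rw [IsRoot, eval_map]
  rw [show φ.comp (algebraMap ℛ A) = MvPolynomial.eval y from RingHom.ext hφ] at this
  exact this

/-- A root of the fibre of the minimal polynomial lifts to a point. -/
theorem exists_algHom_of_root [IsDomain A] [Algebra ℂ A] [IsScalarTower ℂ ℛ A]
    [Algebra.IsIntegral ℛ A] [Algebra.FiniteType ℂ A] [FaithfulSMul ℛ A] (θ : A) (y : Fin d → ℂ)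
    (r : ℂ) (hr : (fibrePoly (minpoly ℛ θ) y).IsRoot r) :
    ∃ φ : A →ₐ[ℂ] ℂ, (∀ p, φ (algebraMap ℛ A p) = MvPolynomial.eval y p) ∧ φ θ = r := by
  let f : ℛ[X] →+* A := (aeval θ).toRingHom
  let ev : ℛ[X] →+* ℂ := eval₂RingHom (MvPolynomial.eval y) r
  have hev : Function.Surjective ev := fun c => ⟨C (MvPolynomial.C c), by simp [ev]⟩
  letI : Algebra ℛ[X] A := f.toAlgebra
  haveI : IsScalarTower ℛ ℛ[X] A := IsScalarTower.of_algebraMap_eq fun p => by
    change algebraMap ℛ A p = aeval θ (C p)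
    rw [aeval_C]
  haveI : Algebra.IsIntegral ℛ[X] A :=
    ⟨fun a => (Algebra.IsIntegral.isIntegral (R := ℛ) a).tower_top⟩
  haveI : (RingHom.ker ev).IsMaximal := RingHom.ker_isMaximal_of_surjective ev hev
  obtain ⟨Q, hQ, hQc⟩ := Ideal.exists_ideal_over_maximal_of_isIntegral (S := A) (RingHom.ker ev) (by
    intro p hp
    have hp' : aeval θ p = 0 := hp
    obtain ⟨q, rfl⟩ := minpoly.isIntegrallyClosed_dvd (Algebra.IsIntegral.isIntegral θ) hp'
    rw [RingHom.mem_ker, coe_eval₂RingHom, eval₂_mul, ← eval_map, hr.eq_zero, zero_mul])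
  haveI : Module.Finite ℂ (A ⧸ Q) :=
    letI := Ideal.Quotient.field Q
    finite_of_finite_type_of_isJacobsonRing ℂ (A ⧸ Q)
  haveI : Algebra.IsIntegral ℂ (A ⧸ Q) := Algebra.IsIntegral.of_finite ℂ _
  let e : ℂ ≃ₐ[ℂ] A ⧸ Q := AlgEquiv.ofBijective (Algebra.ofId ℂ (A ⧸ Q))
    IsAlgClosed.algebraMap_bijective_of_isIntegral
  let φ : A →ₐ[ℂ] ℂ := e.symm.toAlgHom.comp (Ideal.Quotient.mkₐ ℂ Q)
  have key : ∀ p, φ (f p) = ev p := by
    intro p
    have hm : p - C (MvPolynomial.C (ev p)) ∈ RingHom.ker ev := by simp [ev]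
    rw [← hQc, Ideal.mem_comap, RingHom.algebraMap_toAlgebra, map_sub] at hm
    have hc : f (C (MvPolynomial.C (ev p))) = algebraMap ℂ A (ev p) := by
      change aeval θ (C (MvPolynomial.C (ev p))) = _
      rw [aeval_C, IsScalarTower.algebraMap_apply ℂ ℛ A, MvPolynomial.algebraMap_eq]
    rw [hc] at hm
    have h0 : φ (f p - algebraMap ℂ A (ev p)) = 0 := by
      change e.symm (Ideal.Quotient.mkₐ ℂ Q _) = 0
      rw [Ideal.Quotient.mkₐ_eq_mk, Ideal.Quotient.eq_zero_iff_mem.2 hm, map_zero]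
    rw [map_sub, AlgHom.commutes, sub_eq_zero] at h0
    exact h0
  refine ⟨φ, fun p => ?_, ?_⟩
  · have := key (C p)
    simpa [f, ev] using this
  · have := key X
    simpa [f, ev] using this

/-- values on fibres are locally bounded -/
theorem exists_continuous_bound [Algebra.IsIntegral ℛ A] (a : A) :
    ∃ B : (Fin d → ℂ) → ℝ, Continuous B ∧ ∀ (y : Fin d → ℂ) (φ : A →+* ℂ),
      (∀ p, φ (algebraMap ℛ A p) = MvPolynomial.eval y p) → ‖φ a‖ ≤ B y := by
  obtain ⟨P, hP, ha⟩ := Algebra.IsIntegral.isIntegral (R := ℛ) a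
  refine ⟨fun y => 1 + ∑ i ∈ Finset.range P.natDegree, ‖(fibrePoly P y).coeff i‖,
    continuous_const.add (continuous_finsetSum _ fun i _ => (continuous_coeff_fibrePoly P i).norm),
    fun y φ hφ => ?_⟩
  have := norm_root_le (hP.map (MvPolynomial.eval y))
    (isRoot_fibrePoly_of_aeval_eq_zero (by rwa [aeval_def]) hφ)
  rwa [hP.natDegree_map] at this

variable [Algebra ℂ A]

/-- fibres are finite -/
theorem finite_fibre [Algebra.IsIntegral ℛ A] [Algebra.FiniteType ℂ A] (y : Fin d → ℂ) :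
    {φ : A →ₐ[ℂ] ℂ | ∀ p, φ (algebraMap ℛ A p) = MvPolynomial.eval y p}.Finite := by
  obtain ⟨n, g, hg⟩ := Algebra.FiniteType.iff_quotient_mvPolynomial''.1
    (‹_› : Algebra.FiniteType ℂ A)
  let E : (A →ₐ[ℂ] ℂ) → (Fin n → ℂ) := fun φ i => φ (g (MvPolynomial.X i))
  have hE : Function.Injective E := fun φ ψ h => by
    refine AlgHom.ext fun a => ?_
    obtain ⟨p, rfl⟩ := hg a
    have : φ.comp g = ψ.comp g := MvPolynomial.algHom_ext fun i => congrFun h i
    exact congrArg (fun χ : MvPolynomial (Fin n) ℂ →ₐ[ℂ] ℂ => χ p) this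
  choose P hP hPa using fun i => Algebra.IsIntegral.isIntegral (R := ℛ) (g (MvPolynomial.X i))
  refine Set.Finite.of_finite_image (f := E) ?_ hE.injOn
  refine (Set.Finite.pi (t := fun i => {r | (fibrePoly (P i) y).IsRoot r}) fun i => ?_).subset ?_
  · exact finite_setOf_isRoot ((hP i).map _).ne_zero
  · rintro _ ⟨φ, hφ, rfl⟩ i -
    exact isRoot_fibrePoly_of_aeval_eq_zero (φ := φ.toRingHom) (by rw [aeval_def]; exact hPa i) hφ

/-- Points avoiding a nonzero function are dense. -/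
theorem exists_algHom_ne_zero_near {A : Type} [CommRing A] [IsDomain A] [Algebra ℂ A] {h : A}
    (hh : h ≠ 0) (φ₀ : A →ₐ[ℂ] ℂ) {n : ℕ} (g : MvPolynomial (Fin n) ℂ →ₐ[ℂ] A)
    (hg : Function.Surjective g) {ε : ℝ} (hε : 0 < ε) :
    ∃ φ : A →ₐ[ℂ] ℂ, φ h ≠ 0 ∧
      dist (fun i => φ (g (MvPolynomial.X i))) (fun i => φ₀ (g (MvPolynomial.X i))) < ε := by
  haveI : Algebra.FiniteType ℂ A := Algebra.FiniteType.of_surjective g hg
  obtain ⟨d, ι, hι, hint⟩ := exists_integral_inj_algHom_of_fg ℂ A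
  letI : Algebra (MvPolynomial (Fin d) ℂ) A := ι.toRingHom.toAlgebra
  haveI : IsScalarTower ℂ (MvPolynomial (Fin d) ℂ) A :=
    IsScalarTower.of_algebraMap_eq fun c => (ι.commutes c).symm
  haveI : Algebra.IsIntegral (MvPolynomial (Fin d) ℂ) A := ⟨hint⟩
  haveI : FaithfulSMul (MvPolynomial (Fin d) ℂ) A := (faithfulSMul_iff_algebraMap_injective _ _).2 hι
  let E : (A →ₐ[ℂ] ℂ) → (Fin n → ℂ) := fun φ i => φ (g (MvPolynomial.X i))
  have hE : ∀ φ p, φ (g p) = MvPolynomial.eval (E φ) p := fun φ p => by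
    have : (φ.comp g) = MvPolynomial.aeval (E φ) :=
      MvPolynomial.algHom_ext fun i => by simp [E]
    simpa [MvPolynomial.aeval_eq_eval] using
      congrArg (fun χ : MvPolynomial (Fin n) ℂ →ₐ[ℂ] ℂ => χ p) this
  by_contra! H
  have hy₀ : ∀ p, φ₀ (algebraMap (MvPolynomial (Fin d) ℂ) A p) =
      MvPolynomial.eval (fun i => φ₀ (ι (MvPolynomial.X i))) p := fun p => by
    have : φ₀.comp ι = MvPolynomial.aeval fun i => φ₀ (ι (MvPolynomial.X i)) :=
      MvPolynomial.aeval_unique _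
    change φ₀ (ι p) = _
    simpa [MvPolynomial.aeval_eq_eval] using
      congrArg (fun χ : MvPolynomial (Fin d) ℂ →ₐ[ℂ] ℂ => χ p) this
  set y₀ := fun i => φ₀ (ι (MvPolynomial.X i)) with hy₀_def
  -- separate φ₀ in its fibre
  have hsep : ∀ φ : A →ₐ[ℂ] ℂ, ∃ e : A, φ₀ e = 1 ∧ (φ ≠ φ₀ → φ e = 0) := by
    intro φ
    by_cases hφ : φ = φ₀
    · exact ⟨1, map_one _, fun h' => absurd hφ h'⟩
    obtain ⟨a, ha⟩ := DFunLike.ne_iff.1 hφ
    refine ⟨(a - algebraMap ℂ A (φ a)) * algebraMap ℂ A (φ₀ a - φ a)⁻¹, ?_, fun _ => ?_⟩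
    · rw [map_mul, map_sub, AlgHom.commutes, AlgHom.commutes]
      exact mul_inv_cancel₀ (sub_ne_zero.2 (Ne.symm ha))
    · simp
  choose e he₀ he using hsep
  let θ : A := 1 - ∏ φ ∈ (finite_fibre (A := A) y₀).toFinset, e φ
  have hθ₀ : φ₀ θ = 0 := by simp [θ, map_prod, he₀]
  have hθ : ∀ φ : A →ₐ[ℂ] ℂ, (∀ p, φ (algebraMap (MvPolynomial (Fin d) ℂ) A p) = MvPolynomial.eval y₀ p) →
      φ θ = 0 → φ = φ₀ := by
    intro φ hφ h0
    by_contra hne
    have : φ (∏ ψ ∈ (finite_fibre (A := A) y₀).toFinset, e ψ) = 0 := by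
      rw [map_prod]
      exact Finset.prod_eq_zero ((finite_fibre (A := A) y₀).mem_toFinset.2 hφ) (he φ hne)
    simp [θ, this] at h0
  obtain ⟨c, hc0, hch⟩ : ∃ c : MvPolynomial (Fin d) ℂ, c ≠ 0 ∧
      h ∣ algebraMap (MvPolynomial (Fin d) ℂ) A c := by
    have := Ideal.comap_ne_bot_of_integral_mem (I := Ideal.span {h}) hh (Ideal.mem_span_singleton_self h)
      (Algebra.IsIntegral.isIntegral (R := MvPolynomial (Fin d) ℂ) h)
    obtain ⟨c, hc, hc0⟩ := Submodule.exists_mem_ne_zero_of_ne_bot this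
    exact ⟨c, hc0, Ideal.mem_span_singleton.1 hc⟩
  have hy : ∀ k : ℕ, ∃ y, dist y y₀ < 1 / ((k : ℝ) + 1) ∧ MvPolynomial.eval y c ≠ 0 := by
    intro k
    by_contra! hk
    refine hc0 (MvPolynomial.funext_set (fun i => Metric.ball (y₀ i) (1 / ((k : ℝ) + 1)))
      (fun i => infinite_of_mem_nhds (y₀ i) (Metric.ball_mem_nhds _ (by positivity))) fun y hy => ?_)
    rw [map_zero]
    refine hk y ((dist_pi_lt_iff (by positivity)).2 fun i => hy i trivial)
  choose y hyd hyc using hy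
  let P := minpoly (MvPolynomial (Fin d) ℂ) θ
  have hPm : P.Monic := minpoly.monic (Algebra.IsIntegral.isIntegral θ)
  have hPd : P.natDegree ≠ 0 := (minpoly.natDegree_pos (Algebra.IsIntegral.isIntegral θ)).ne'
  have hr : ∀ k, ∃ r, (fibrePoly P (y k)).IsRoot r ∧ ‖r‖ ^ P.natDegree ≤ ‖(fibrePoly P (y k)).eval 0‖ := by
    intro k
    obtain ⟨r, hr, hle⟩ := exists_root_norm_sub_pow_le (hPm.map (MvPolynomial.eval (y k)))
      (by rwa [hPm.natDegree_map]) 0
    rw [sub_zero, hPm.natDegree_map] at hle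
    exact ⟨r, hr, hle⟩
  choose r hr hrle using hr
  choose φ hφy hφθ using fun k => exists_algHom_of_root θ (y k) (r k) (hr k)
  have hφh : ∀ k, φ k h ≠ 0 := fun k hk => by
    obtain ⟨a, ha⟩ := hch
    exact hyc k (by rw [← hφy k, ha, map_mul, hk, zero_mul])
  have hyl : Tendsto y atTop (𝓝 y₀) := by
    rw [tendsto_iff_dist_tendsto_zero]
    exact squeeze_zero (fun k => dist_nonneg) (fun k => (hyd k).le)
      tendsto_one_div_add_atTop_nhds_zero_nat
  -- boundedness
  choose B hB hBle using fun i : Fin n => exists_continuous_bound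
    (d := d) (g (MvPolynomial.X i))
  obtain ⟨M, hM⟩ : ∃ M, ∀ k, E (φ k) ∈ Metric.closedBall 0 M := by
    have hc : Continuous fun y => ∑ i, |B i y| := continuous_finsetSum _ fun i _ => (hB i).abs
    obtain ⟨M, hM⟩ := ((hc.tendsto y₀).comp hyl).bddAbove_range
    refine ⟨M, fun k => mem_closedBall_zero_iff.2 ((pi_norm_le_iff_of_nonneg
      ((Finset.sum_nonneg fun i _ => abs_nonneg _).trans (hM ⟨k, rfl⟩))).2 fun i => ?_)⟩
    exact ((hBle i (y k) (φ k).toRingHom (hφy k)).trans (le_abs_self _)).trans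
      ((Finset.single_le_sum (fun j _ => abs_nonneg (B j (y k))) (Finset.mem_univ i)).trans (hM ⟨k, rfl⟩))
  obtain ⟨z, -, ψ, hψ, hz⟩ := (isCompact_closedBall (0 : Fin n → ℂ) M).tendsto_subseq hM
  have hlim : ∀ p, Tendsto (fun k => φ (ψ k) (g p)) atTop (𝓝 (MvPolynomial.eval z p)) := fun p => by
    simp only [hE]
    exact ((MvPolynomial.continuous_eval p).tendsto z).comp hz
  have hker : RingHom.ker g.toRingHom ≤ RingHom.ker (MvPolynomial.eval z) := fun p hp => by
    have hp' : g p = 0 := hp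
    refine tendsto_nhds_unique (hlim p) ?_
    simp [hp']
  let χ : A →+* ℂ := RingHom.liftOfSurjective g.toRingHom hg ⟨MvPolynomial.eval z, hker⟩
  have hχ : ∀ p, χ (g p) = MvPolynomial.eval z p := fun p =>
    RingHom.liftOfRightInverse_comp_apply _ _ _ _ _
  have hχl : ∀ a, Tendsto (fun k => φ (ψ k) a) atTop (𝓝 (χ a)) := fun a => by
    obtain ⟨p, rfl⟩ := hg a
    rw [hχ]; exact hlim p
  let χ' : A →ₐ[ℂ] ℂ := ⟨χ, fun c => tendsto_nhds_unique (hχl _) (by simp)⟩
  have hχy : ∀ p, χ' (algebraMap (MvPolynomial (Fin d) ℂ) A p) = MvPolynomial.eval y₀ p := fun p => by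
    refine tendsto_nhds_unique (hχl _) ?_
    simp only [hφy]
    exact ((MvPolynomial.continuous_eval p).tendsto y₀).comp (hyl.comp hψ.tendsto_atTop)
  have hχθ : χ' θ = 0 := by
    refine tendsto_nhds_unique (hχl θ) ?_
    have h0 : (fibrePoly P y₀).eval 0 = 0 := by
      have := (isRoot_fibrePoly_of_aeval_eq_zero (φ := φ₀.toRingHom) (minpoly.aeval _ θ) hy₀).eq_zero
      simpa [hθ₀] using this
    have h1 : Tendsto (fun k => ‖(fibrePoly P (y (ψ k))).eval 0‖) atTop (𝓝 0) := by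
      have := ((continuous_eval_fibrePoly P).tendsto (y₀, 0)).comp
        ((hyl.comp hψ.tendsto_atTop).prodMk_nhds (tendsto_const_nhds (x := (0 : ℂ))))
      simpa [Function.comp_def, h0] using this.norm
    simp only [hφθ]
    rw [Metric.tendsto_nhds]
    intro δ hδ
    filter_upwards [h1.eventually_lt_const (pow_pos hδ P.natDegree)] with k hk
    rw [dist_zero_right]
    exact lt_of_pow_lt_pow_left₀ _ hδ.le ((hrle _).trans_lt hk)
  have hχ₀ : χ' = φ₀ := hθ χ' hχy hχθ
  have : Tendsto (fun k => E (φ (ψ k))) atTop (𝓝 (E φ₀)) := by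
    rw [tendsto_pi_nhds]
    intro i
    have := hχl (g (MvPolynomial.X i))
    rwa [show χ (g (MvPolynomial.X i)) = φ₀ (g (MvPolynomial.X i)) from
      congrArg (fun q : A →ₐ[ℂ] ℂ => q (g (MvPolynomial.X i))) hχ₀] at this
  obtain ⟨k, hk⟩ := (Metric.tendsto_nhds.1 this ε hε).exists
  exact (not_lt.2 (H (φ (ψ k)) (hφh _))) hk

end GrothLib.AnPts.Alg
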