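import Groth.Agent.Lib.AnPts.Top
import Groth.Agent.Lib.AnPts.Normalization
import Mathlib.AlgebraicGeometry.ResidueField
import Mathlib.AlgebraicGeometry.Morphisms.FinitePresentation
import Mathlib.Topology.NoetherianSpace

/-!
# Closures of constructible sets on ℂ-points
-/

open AlgebraicGeometry CategoryTheory TopologicalSpace Opposite Topology Filter

namespace GrothLib.AnPts

/-- a point adherent to a constructible set is a specialisation of a point around which the set
contains an open piece of the closure -/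
theorem exists_generic_of_mem_closure {α : Type*} [TopologicalSpace α] [NoetherianSpace α]
    [QuasiSober α] {T : Set α} (hT : IsConstructible T) {x : α} (hx : x ∈ closure T) :
    ∃ (η : α) (O : Set α), IsOpen O ∧ η ∈ O ∧ η ⤳ x ∧ closure {η} ∩ O ⊆ T := by
  revert x
  refine BooleanSubalgebra.closure_sdiff_sup_induction (p := fun T _ => ∀ {x}, x ∈ closure T →
    ∃ (η : α) (O : Set α), IsOpen O ∧ η ∈ O ∧ η ⤳ x ∧ closure {η} ∩ O ⊆ T) ?_ ?_ ?_ ?_ ?_ T hT
  · exact ⟨fun _ ha _ hb => ⟨ha.1.union hb.1, ha.2.union hb.2⟩,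
      fun _ ha _ hb => ⟨ha.1.inter hb.1, ha.2.inter_isOpen hb.2 hb.1⟩⟩
  · exact ⟨isOpen_empty, .empty⟩
  · exact ⟨isOpen_univ, .univ⟩
  · rintro U ⟨hU, -⟩ V ⟨hV, -⟩ x hx
    obtain ⟨S, hSf, hSc, hSi, hS⟩ :=
      NoetherianSpace.exists_finite_set_isClosed_irreducible (isClosed_closure (s := U \ V))
    have hZ : U \ V ⊆ ⋃₀ {C ∈ S | (C ∩ (U \ V)).Nonempty} := fun z hz => by
      obtain ⟨C, hC, hzC⟩ := Set.mem_sUnion.1 (hS ▸ subset_closure hz)
      exact Set.mem_sUnion.2 ⟨C, ⟨hC, z, hzC, hz⟩, hzC⟩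
    have hcl : IsClosed (⋃₀ {C ∈ S | (C ∩ (U \ V)).Nonempty}) := by
      rw [Set.sUnion_eq_biUnion]
      exact (hSf.subset (Set.sep_subset _ _)).isClosed_biUnion fun C hC => hSc C hC.1
    obtain ⟨C, ⟨hC, z, hzC, hz⟩, hxC⟩ := Set.mem_sUnion.1 (closure_minimal hZ hcl hx)
    obtain ⟨η, hη⟩ := QuasiSober.sober (hSi C hC) (hSc C hC)
    have hηC : η ∈ C := hη.mem
    have hsub : C ⊆ Vᶜ := fun c hc =>
      closure_minimal (fun w (hw : w ∈ U \ V) => hw.2) hV.isClosed_compl
        (hS ▸ Set.mem_sUnion.2 ⟨C, hC, hc⟩ : c ∈ closure (U \ V))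
    refine ⟨η, U, hU, (hη.specializes hzC).mem_open hU hz.1, hη.specializes hxC, ?_⟩
    rintro w ⟨hw, hwU⟩
    exact ⟨hwU, hsub (hη ▸ hw)⟩
  · intro A _ B _ hA hB x hx
    change x ∈ closure (A ∪ B) at hx
    rw [closure_union] at hx
    rcases hx with h | h
    · obtain ⟨η, O, h1, h2, h3, h4⟩ := hA h
      exact ⟨η, O, h1, h2, h3, h4.trans Set.subset_union_left⟩
    · obtain ⟨η, O, h1, h2, h3, h4⟩ := hB h
      exact ⟨η, O, h1, h2, h3, h4.trans Set.subset_union_right⟩

variable {X : Scheme.{0}} [X.Over An.SC] [LocallyOfFiniteType (X ↘ An.SC)]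

lemma noetherianSpace_of_isAffineOpen {W : X.Opens} (hW : IsAffineOpen W) :
    NoetherianSpace ↥(W : Set X) := by
  have := isLocallyNoetherian (X := X)
  have : IsNoetherianRing Γ(X, W) := IsLocallyNoetherian.component_noetherian ⟨W, hW⟩
  exact AlgebraicGeometry.noetherianSpace_of_isAffineOpen W hW

/-- ℂ-points of the closure of an integral piece: density of principal opens -/
theorem mem_closure_pts_of_specializes {W : X.Opens} (hW : IsAffineOpen W) (x : An.Pts X)
    (hxW : x.pt ∈ W) {η : ↥X} (hη : η ⤳ x.pt) {O : X.Opens} (hηO : η ∈ O) :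
    x ∈ closure (An.Pts.pt ⁻¹' (closure {η} ∩ (O : Set X))) := by
  have hηW : η ∈ W := hη.mem_open W.2 hxW
  obtain ⟨g, hgO, hηg⟩ := hW.exists_basicOpen_le (⟨η, hηO⟩ : O) hηW
  let p : Ideal Γ(X, W) := RingHom.ker (X.evaluation W η hηW).hom
  have : p.IsPrime := RingHom.ker_isPrime _
  have hp : ∀ a, a ∈ p ↔ η ∉ X.basicOpen a := fun a =>
    X.evaluation_eq_zero_iff_notMem_basicOpen η hηW a
  letI : Algebra ℂ Γ(X, W) := (strU W).toAlgebra
  obtain ⟨n, s, hs⟩ := exists_generators hW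
  let π : Γ(X, W) →ₐ[ℂ] Γ(X, W) ⧸ p := Ideal.Quotient.mkₐ ℂ p
  let G : MvPolynomial (Fin n) ℂ →ₐ[ℂ] Γ(X, W) ⧸ p := π.comp (MvPolynomial.aeval s)
  have hG : Function.Surjective G := (Ideal.Quotient.mkₐ_surjective ℂ p).comp hs
  let φ₀ : Γ(X, W) →ₐ[ℂ] ℂ := ⟨evHom x W hxW, fun c => ev_strU x W hxW c⟩
  have hφ₀ : ∀ a ∈ p, φ₀ a = 0 := fun a ha => by
    by_contra h
    exact (hp a).1 ha (hη.mem_open (X.basicOpen a).2 ((mem_basicOpen_iff x W hxW a).2 h))
  let φq : Γ(X, W) ⧸ p →ₐ[ℂ] ℂ := Ideal.Quotient.liftₐ p φ₀ hφ₀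
  have hg0 : π g ≠ 0 := fun h => (hp g).1 (Ideal.Quotient.eq_zero_iff_mem.1 h) hηg
  rw [mem_closure_iff_nhds]
  intro N hN
  have hN' : Subtype.val ⁻¹' N ∈ 𝓝 (⟨x, hxW⟩ : (An.Pts.pt ⁻¹' (W : Set X) : Set (An.Pts X))) :=
    continuous_subtype_val.continuousAt.preimage_mem_nhds hN
  rw [(isClosedEmbedding_coordMap hW s hs).isInducing.nhds_eq_comap, mem_comap] at hN'
  obtain ⟨B, hB, hBN⟩ := hN'
  obtain ⟨ε, hε, hεB⟩ := Metric.mem_nhds_iff.1 hB
  obtain ⟨φ, hφg, hφd⟩ := Alg.exists_algHom_ne_zero_near hg0 φq G hG hε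
  obtain ⟨y, hyW, hy⟩ := exists_of_ringHom hW (φ.comp π).toRingHom
    (RingHom.ext fun c => (φ.comp π).commutes c)
  refine ⟨y, hBN (a := ⟨y, hyW⟩) (hεB ?_), ?_, hgO ?_⟩
  · rw [Metric.mem_ball]
    convert hφd using 2
    · funext i
      change y.ev W hyW (s i) = φ (G (MvPolynomial.X i))
      rw [hy]; simp [G]
    · funext i
      change x.ev W hxW (s i) = φq (G (MvPolynomial.X i))
      simp [G, φq, π, φ₀, evHom_apply]
  · change y.pt ∈ closure {η}
    rw [← specializes_iff_mem_closure, specializes_iff_forall_open]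
    intro U hU hyU
    obtain ⟨a, haU, hya⟩ := hW.exists_basicOpen_le (⟨y.pt, hyU⟩ : (⟨U, hU⟩ : X.Opens)) hyW
    refine haU ?_
    by_contra h
    refine (mem_basicOpen_iff y W hyW a).1 hya ?_
    rw [hy]
    change φ (π a) = 0
    rw [show π a = 0 from Ideal.Quotient.eq_zero_iff_mem.2 ((hp a).2 h), map_zero]
  · exact (mem_basicOpen_iff y W hyW g).2 (by rw [hy]; exact hφg)

/-- the closure of a locally constructible set commutes with taking ℂ-points -/
theorem preimage_closure (T : Set ↥X) (hT : IsLocallyConstructible T) :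
    (An.Pts.pt ⁻¹' closure T : Set (An.Pts X)) = closure (An.Pts.pt ⁻¹' T) := by
  refine subset_antisymm (fun x hx => ?_) (An.Pts.continuous_pt.closure_preimage_subset T)
  obtain ⟨W, hW, hxW, -⟩ := exists_isAffineOpen_mem_and_subset (Opens.mem_top x.pt)
  have := noetherianSpace_of_isAffineOpen hW
  have : QuasiSober ↥(W : Set X) := W.isOpen.isOpenEmbedding_subtypeVal.quasiSober
  have hTW : IsConstructible (Subtype.val ⁻¹' T : Set ↥(W : Set X)) :=
    (hT.preimage_of_isOpenEmbedding W.isOpen.isOpenEmbedding_subtypeVal).isConstructible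
  have hxc : (⟨x.pt, hxW⟩ : ↥(W : Set X)) ∈ closure (Subtype.val ⁻¹' T : Set ↥(W : Set X)) := by
    rw [← W.isOpen.isOpenMap_subtype_val.preimage_closure_eq_closure_preimage continuous_subtype_val T]
    exact hx
  obtain ⟨η, O, hO, hηO, hηx, hsub⟩ := exists_generic_of_mem_closure hTW hxc
  have hηx' : η.1 ⤳ x.pt := hηx.map continuous_subtype_val
  let O' : X.Opens := ⟨Subtype.val '' O, W.isOpen.isOpenMap_subtype_val O hO⟩
  refine closure_mono ?_ (mem_closure_pts_of_specializes hW x hxW hηx' (O := O') ⟨η, hηO, rfl⟩)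
  rintro y ⟨hy, ⟨⟨w, hw⟩, hwO, rfl : w = y.pt⟩⟩
  refine hsub ⟨?_, hwO⟩
  rw [← specializes_iff_mem_closure, ← IsInducing.subtypeVal.specializes_iff]
  exact specializes_iff_mem_closure.2 hy

/-- locally constructible sets with the same ℂ-points are equal -/
theorem eq_of_preimage_pt_eq {S T : Set ↥X} (hS : IsLocallyConstructible S)
    (hT : IsLocallyConstructible T)
    (h : (An.Pts.pt ⁻¹' S : Set (An.Pts X)) = An.Pts.pt ⁻¹' T) : S = T := by
  by_contra hne
  obtain ⟨p, hp⟩ : ∃ p, ¬ (p ∈ S ↔ p ∈ T) := by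
    by_contra! H; exact hne (Set.ext H)
  obtain ⟨W, hW, hpW, -⟩ := exists_isAffineOpen_mem_and_subset (Opens.mem_top p)
  have := noetherianSpace_of_isAffineOpen hW
  have : QuasiSober ↥(W : Set X) := W.isOpen.isOpenEmbedding_subtypeVal.quasiSober
  have hS' := (hS.preimage_of_isOpenEmbedding W.isOpen.isOpenEmbedding_subtypeVal).isConstructible
  have hT' := (hT.preimage_of_isOpenEmbedding W.isOpen.isOpenEmbedding_subtypeVal).isConstructible
  obtain ⟨η, O, hO, hηO, -, hsub⟩ := exists_generic_of_mem_closure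
    ((hS'.sdiff hT').union (hT'.sdiff hS')) (x := (⟨p, hpW⟩ : ↥(W : Set X))) (subset_closure (by
      simp only [Set.mem_union, Set.mem_sdiff, Set.mem_preimage]; tauto))
  have hlc : IsLocallyClosed (Subtype.val '' (closure {η} ∩ O) : Set ↥X) :=
    ((isClosed_closure.isLocallyClosed).inter hO.isLocallyClosed).image
      IsInducing.subtypeVal (by rw [Subtype.range_val]; exact W.isOpen.isLocallyClosed)
  obtain ⟨y, ⟨w, hw, hwy⟩⟩ := exists_pts_mem (X := X) hlc
    ⟨η, η, ⟨subset_closure rfl, hηO⟩, rfl⟩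
  have h1 : y.pt ∈ S ↔ y.pt ∈ T := Set.ext_iff.1 h y
  have h2 := hsub hw
  simp only [Set.mem_union, Set.mem_sdiff, Set.mem_preimage, hwy] at h2
  tauto

/-- closed sets are locally constructible -/
lemma isLocallyConstructible_of_isClosed {Z : Set ↥X} (hZ : IsClosed Z) :
    IsLocallyConstructible Z := by
  intro p
  obtain ⟨W, hW, hpW, -⟩ := exists_isAffineOpen_mem_and_subset (Opens.mem_top p)
  have := noetherianSpace_of_isAffineOpen hW
  have : QuasiSober ↥(W : Set X) := W.isOpen.isOpenEmbedding_subtypeVal.quasiSober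
  refine ⟨W, W.isOpen.mem_nhds hpW, W.2, ?_⟩
  rw [← isConstructible_compl]
  exact (NoetherianSpace.isCompact (α := ↥(W : Set X)) _).isConstructible
    (hZ.preimage continuous_subtype_val).isOpen_compl

lemma isLocallyConstructible_of_isOpen {U : Set ↥X} (hU : IsOpen U) :
    IsLocallyConstructible U := by
  intro p
  obtain ⟨W, hW, hpW, -⟩ := exists_isAffineOpen_mem_and_subset (Opens.mem_top p)
  have := noetherianSpace_of_isAffineOpen hW
  have : QuasiSober ↥(W : Set X) := W.isOpen.isOpenEmbedding_subtypeVal.quasiSober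
  exact ⟨W, W.isOpen.mem_nhds hpW, W.2,
    (NoetherianSpace.isCompact (α := ↥(W : Set X)) _).isConstructible (hU.preimage continuous_subtype_val)⟩

lemma isLocallyConstructible_of_isLocallyClosed {Z : Set ↥X} (hZ : IsLocallyClosed Z) :
    IsLocallyConstructible Z := by
  obtain ⟨U, C, hU, hC, rfl⟩ := hZ
  exact (isLocallyConstructible_of_isOpen hU).inter (isLocallyConstructible_of_isClosed hC)

lemma isLocallyConstructible_compl {T : Set ↥X} (hT : IsLocallyConstructible T) :
    IsLocallyConstructible Tᶜ := fun p => by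
  obtain ⟨U, h1, h2, h3⟩ := hT p
  exact ⟨U, h1, h2, h3.compl⟩

theorem isClosed_iff_pts {T : Set ↥X} (hT : IsLocallyConstructible T) :
    IsClosed T ↔ IsClosed (An.Pts.pt ⁻¹' T : Set (An.Pts X)) := by
  refine ⟨fun h => h.preimage An.Pts.continuous_pt, fun h => closure_eq_iff_isClosed.1 ?_⟩
  exact eq_of_preimage_pt_eq (isLocallyConstructible_of_isClosed isClosed_closure) hT
    (by rw [preimage_closure T hT, h.closure_eq])

theorem isOpen_iff_pts {T : Set ↥X} (hT : IsLocallyConstructible T) :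
    IsOpen T ↔ IsOpen (An.Pts.pt ⁻¹' T : Set (An.Pts X)) := by
  rw [← isClosed_compl_iff, ← isClosed_compl_iff (s := An.Pts.pt ⁻¹' T),
    isClosed_iff_pts (isLocallyConstructible_compl hT), Set.preimage_compl]

theorem dense_iff_pts {T : Set ↥X} (hT : IsLocallyConstructible T) :
    Dense T ↔ Dense (An.Pts.pt ⁻¹' T : Set (An.Pts X)) := by
  rw [dense_iff_closure_eq, dense_iff_closure_eq, ← preimage_closure T hT]
  refine ⟨fun h => by rw [h, Set.preimage_univ], fun h => ?_⟩
  exact eq_of_preimage_pt_eq (isLocallyConstructible_of_isClosed isClosed_closure) .univ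
    (by rw [h, Set.preimage_univ])

variable {Y : Scheme.{0}} [Y.Over An.SC] [LocallyOfFiniteType (Y ↘ An.SC)]

omit [LocallyOfFiniteType (X ↘ An.SC)] in
lemma locallyOfFiniteType_of_isOver [LocallyOfFiniteType (X ↘ An.SC)] (f : X ⟶ Y)
    [f.IsOver An.SC] : LocallyOfFiniteType f := by
  have : LocallyOfFiniteType (f ≫ (Y ↘ An.SC)) := by rwa [comp_over f]
  exact locallyOfFiniteType_of_comp f (Y ↘ An.SC)

lemma locallyOfFinitePresentation_of_isOver (f : X ⟶ Y) [f.IsOver An.SC] :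
    LocallyOfFinitePresentation f := by
  have := isLocallyNoetherian (X := Y)
  have := locallyOfFiniteType_of_isOver f
  infer_instance

/-- Chevalley over ℂ -/
theorem isLocallyConstructible_image (f : X ⟶ Y) [f.IsOver An.SC] [QuasiCompact f] {S : Set ↥X}
    (hS : IsLocallyConstructible S) : IsLocallyConstructible (f.base '' S) := by
  have := locallyOfFinitePresentation_of_isOver f
  exact f.isLocallyConstructible_image hS

end GrothLib.AnPts
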