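import Groth.Agent.Lib.AnPts.DomainCover
import Groth.Agent.Lib.AnPts.Constr
import Mathlib.Analysis.Complex.CoveringMap
import Mathlib.Topology.Homotopy.Lifting
import Mathlib.Topology.Connected.TotallyDisconnected

/-!
# Connectedness of complex points; nullhomotopic units
-/

open AlgebraicGeometry CategoryTheory TopologicalSpace Opposite Topology Filter

namespace GrothLib.AnPts

variable {X : Scheme.{0}} [X.Over An.SC] [LocallyOfFiniteType (X ↘ An.SC)]

/-- the ℂ-points of a closed integral piece -/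
def piece (η : ↥X) : Set (An.Pts X) := An.Pts.pt ⁻¹' closure {η}

lemma piece_nonempty (η : ↥X) : (piece η).Nonempty :=
  exists_pts_mem isClosed_closure.isLocallyClosed ⟨η, subset_closure rfl⟩

lemma mem_piece_iff {W : X.Opens} (hW : IsAffineOpen W) {η : ↥X} (hη : η ∈ W) {y : An.Pts X}
    (hy : y.pt ∈ W) :
    y ∈ piece η ↔ ∀ a ∈ RingHom.ker (X.evaluation W η hη).hom, y.ev W hy a = 0 := by
  rw [piece, Set.mem_preimage, ← specializes_iff_mem_closure]
  constructor
  · intro h a ha
    by_contra hne
    exact (X.evaluation_eq_zero_iff_notMem_basicOpen η hη a).1 ha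
      (h.mem_open (X.basicOpen a).2 ((mem_basicOpen_iff y W hy a).2 hne))
  · intro h
    rw [specializes_iff_forall_open]
    intro U hU hyU
    obtain ⟨a, haU, hya⟩ := hW.exists_basicOpen_le (⟨y.pt, hyU⟩ : (⟨U, hU⟩ : X.Opens)) hy
    refine haU ?_
    by_contra hn
    exact (mem_basicOpen_iff y W hy a).1 hya
      (h a ((X.evaluation_eq_zero_iff_notMem_basicOpen η hη a).2 hn))

/-- The piece is the closure of a connected set, on which units with continuous roots are constant. -/
theorem exists_dense_cover (η : ↥X) :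
    ∃ T : Set (An.Pts X), IsPreconnected T ∧ piece η = closure T ∧
      ∀ (u : Γ(X, ⊤)) (w : ℕ → An.Pts X → ℂ), (∀ m, Continuous (w m)) →
        (∀ m, m ≠ 0 → ∀ x, w m x ^ m = x.evTop u) → (∀ x : An.Pts X, x.evTop u ≠ 0) →
        ∀ x ∈ T, ∀ y ∈ T, x.evTop u = y.evTop u := by
  obtain ⟨W, hW, hηW, -⟩ := exists_isAffineOpen_mem_and_subset (Opens.mem_top η)
  let p : Ideal Γ(X, W) := RingHom.ker (X.evaluation W η hηW).hom
  haveI : p.IsPrime := RingHom.ker_isPrime _
  letI : Algebra ℂ Γ(X, W) := (strU W).toAlgebra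
  obtain ⟨n, s, hs⟩ := exists_generators hW
  let π : Γ(X, W) →ₐ[ℂ] Γ(X, W) ⧸ p := Ideal.Quotient.mkₐ ℂ p
  let G : MvPolynomial (Fin n) ℂ →ₐ[ℂ] Γ(X, W) ⧸ p := π.comp (MvPolynomial.aeval s)
  have hG : Function.Surjective G := (Ideal.Quotient.mkₐ_surjective ℂ p).comp hs
  obtain ⟨d, P, h, Ψ, hgood, hirr, hΨc, hpts, ⟨hA, hA0, hback⟩, hdiff, hgrow⟩ :=
    exists_domain_cover G hG
  have hval : ∀ q ∈ RootCover.cover P h, ∃ (y : An.Pts X) (hy : y.pt ∈ W),
      y ∈ piece η ∧ ∀ i, y.ev W hy (s i) = Ψ q i := by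
    intro q hq
    obtain ⟨φ, hφ⟩ := hpts q hq
    obtain ⟨y, hy, he⟩ := exists_of_ringHom hW (φ.comp π).toRingHom
      (RingHom.ext fun c => (φ.comp π).commutes c)
    refine ⟨y, hy, (mem_piece_iff hW hηW hy).2 fun a ha => ?_, fun i => ?_⟩
    · rw [he]
      change φ (π a) = 0
      rw [show π a = 0 from Ideal.Quotient.eq_zero_iff_mem.2 ha, map_zero]
    · rw [he, ← hφ]
      simp [G]
  haveI : Nonempty (An.Pts X) := (piece_nonempty η).nonempty
  choose! pq hpqW hpqη hpqΨ using hval
  let T := pq '' RootCover.cover P h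
  have hcont : ContinuousOn pq (RootCover.cover P h) := by
    rw [continuousOn_iff_continuous_domRestrict]
    let O : Set (An.Pts X) := An.Pts.pt ⁻¹' (W : Set X)
    let pq' : RootCover.cover P h → O := fun q => ⟨pq q, hpqW q q.2⟩
    have : Continuous pq' := by
      rw [(isClosedEmbedding_coordMap hW s hs).isInducing.continuous_iff]
      exact hΨc.domRestrict.congr fun q => funext fun i => (hpqΨ q q.2 i).symm
    exact continuous_subtype_val.comp this
  refine ⟨T, (RootCover.isPreconnected_cover hgood hirr).image pq hcont, ?_, ?_⟩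
  · refine subset_antisymm (fun x hx => ?_)
      (closure_minimal (Set.image_subset_iff.2 hpqη) (isClosed_closure.preimage An.Pts.continuous_pt))
    have hW' : piece η ∩ An.Pts.pt ⁻¹' (W : Set X) ⊆ closure T := by
      rintro z ⟨hz, hzW⟩
      let φ₀ : Γ(X, W) →ₐ[ℂ] ℂ := ⟨evHom z W hzW, fun c => ev_strU z W hzW c⟩
      let φq : Γ(X, W) ⧸ p →ₐ[ℂ] ℂ :=
        Ideal.Quotient.liftₐ p φ₀ fun a ha => (mem_piece_iff hW hηW hzW).1 hz a ha
      rw [mem_closure_iff_nhds]
      intro N hN
      have hN' : Subtype.val ⁻¹' N ∈ 𝓝 (⟨z, hzW⟩ : (An.Pts.pt ⁻¹' (W : Set X) : Set (An.Pts X))) :=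
        continuous_subtype_val.continuousAt.preimage_mem_nhds hN
      rw [(isClosedEmbedding_coordMap hW s hs).isInducing.nhds_eq_comap, mem_comap] at hN'
      obtain ⟨B, hB, hBN⟩ := hN'
      obtain ⟨ε, hε, hεB⟩ := Metric.mem_nhds_iff.1 hB
      obtain ⟨φ, hφA, hφd⟩ := Alg.exists_algHom_ne_zero_near hA0 φq G hG hε
      obtain ⟨q, hq, hqe⟩ := hback φ hφA
      refine ⟨pq q, hBN (a := ⟨pq q, hpqW q hq⟩) (hεB ?_), q, hq, rfl⟩
      rw [Metric.mem_ball]
      convert hφd using 2
      · funext i
        rw [congrFun hqe i]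
        exact hpqΨ q hq i
      · funext i
        change z.ev W hzW (s i) = φq (G (MvPolynomial.X i))
        simp [G, φq, π, φ₀, evHom_apply]
    obtain ⟨W', hW'a, hxW', -⟩ := exists_isAffineOpen_mem_and_subset (Opens.mem_top x.pt)
    refine closure_minimal ?_ isClosed_closure
      (mem_closure_pts_of_specializes hW'a x hxW' (specializes_iff_mem_closure.2 hx) hηW)
    exact fun y hy => hW' hy
  · intro u w hwc hwm hu0
    obtain ⟨pu, hpu⟩ := hs (X.presheaf.map (homOfLE (le_top : W ≤ ⊤)).op u)
    have hue : ∀ q ∈ RootCover.cover P h, (pq q).evTop u = MvPolynomial.eval (Ψ q) pu := by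
      intro q hq
      rw [An.Pts.evTop, ← ev_res (pq q) le_top (hpqW q hq) u, ← hpu, ev_eval₂Hom]
      congr 1
      exact congrArg MvPolynomial.eval (funext (hpqΨ q hq))
    obtain ⟨C₀, D, hC, hb⟩ := hgrow pu
    have key := RootCover.eq_of_continuous_roots hgood hirr
      (u := fun q => MvPolynomial.eval (Ψ q) pu) (w := fun m q => w m (pq q)) hC hb
      (fun q hq => by rw [← hue q hq]; exact hu0 _) (hdiff pu)
      (fun m => (hwc m).comp_continuousOn hcont)
      (fun m hm q hq => by rw [hwm m hm]; exact hue q hq)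
    rintro _ ⟨q, hq, rfl⟩ _ ⟨q', hq', rfl⟩
    rw [hue q hq, hue q' hq']
    exact key q hq q' hq'

theorem isPreconnected_piece (η : ↥X) : IsPreconnected (piece η) := by
  obtain ⟨T, hT, he, -⟩ := exists_dense_cover η
  rw [he]
  exact hT.closure

omit [X.Over An.SC] [LocallyOfFiniteType (X ↘ An.SC)] in
lemma isOpen_of_stable {α : Type*} [TopologicalSpace α] [NoetherianSpace α] [QuasiSober α]
    {G : Set α} (hG : ∀ a b : α, a ⤳ b → (a ∈ G ↔ b ∈ G)) : IsOpen G := by
  let C := {Z ∈ irreducibleComponents α | Disjoint Z G}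
  have hC : C.Finite :=
    (NoetherianSpace.finite_irreducibleComponents (α := α)).subset fun Z hZ => hZ.1
  have : Gᶜ = ⋃₀ C := by
    ext q
    constructor
    · intro hq
      refine ⟨irreducibleComponent q, ⟨irreducibleComponent_mem_irreducibleComponents q, ?_⟩,
        mem_irreducibleComponent⟩
      rw [Set.disjoint_left]
      intro z hz hzG
      obtain ⟨γ, hγ⟩ := QuasiSober.sober (isIrreducible_irreducibleComponent (x := q))
        isClosed_irreducibleComponent
      exact hq ((hG γ q (hγ.specializes mem_irreducibleComponent)).1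
        ((hG γ z (hγ.specializes hz)).2 hzG))
    · rintro ⟨Z, ⟨-, hd⟩, hqZ⟩ hqG
      exact Set.disjoint_left.1 hd hqZ hqG
  rw [← isClosed_compl_iff, this, Set.sUnion_eq_biUnion]
  exact hC.isClosed_biUnion fun Z hZ => isClosed_of_mem_irreducibleComponents Z hZ.1

/-- A set of points which is a union of pieces is a union of components. -/
theorem mem_of_mem_component {K : Set (An.Pts X)}
    (hK : ∀ η : ↥X, (piece η ∩ K).Nonempty → piece η ⊆ K) {x y : An.Pts X} (hx : x ∈ K)
    (h : y.pt ∈ connectedComponent x.pt) : y ∈ K := by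
  let G : Set ↥X := {η | piece η ⊆ K}
  have hstab : ∀ a b : ↥X, a ⤳ b → (a ∈ G ↔ b ∈ G) := by
    intro a b hab
    have hsub : piece b ⊆ piece a :=
      Set.preimage_mono (closure_minimal (Set.singleton_subset_iff.2
        (specializes_iff_mem_closure.1 hab)) isClosed_closure)
    refine ⟨fun ha => hsub.trans ha, fun hb => hK a ?_⟩
    obtain ⟨z, hz⟩ := piece_nonempty b
    exact ⟨z, hsub hz, hb hz⟩
  have hopen : ∀ S : Set ↥X, (∀ a b : ↥X, a ⤳ b → (a ∈ S ↔ b ∈ S)) → IsOpen S := by
    intro S hS
    rw [isOpen_iff_mem_nhds]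
    intro q hq
    obtain ⟨W, hW, hqW, -⟩ := exists_isAffineOpen_mem_and_subset (Opens.mem_top q)
    have := noetherianSpace_of_isAffineOpen hW
    have : QuasiSober ↥(W : Set X) := W.isOpen.isOpenEmbedding_subtypeVal.quasiSober
    have ho : IsOpen (Subtype.val ⁻¹' S : Set ↥(W : Set X)) :=
      isOpen_of_stable fun a b hab => hS _ _ (hab.map continuous_subtype_val)
    exact mem_of_superset ((W.isOpen.isOpenMap_subtype_val _ ho).mem_nhds ⟨⟨q, hqW⟩, hq, rfl⟩)
      (Set.image_preimage_subset _ _)
  have hG : IsClopen G := ⟨isOpen_compl_iff.1 (hopen Gᶜ fun a b hab => not_congr (hstab a b hab)),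
    hopen G hstab⟩
  have hx' : x.pt ∈ G := hK _ ⟨x, subset_closure rfl, hx⟩
  exact (hG.connectedComponent_subset hx' h) (subset_closure rfl : y ∈ piece y.pt)

theorem connectedComponentsMap_bijective :
    Function.Bijective (An.Pts.continuous_pt (X := X)).connectedComponentsMap := by
  constructor
  · intro a b hab
    obtain ⟨x, rfl⟩ := ConnectedComponents.surjective_coe a
    obtain ⟨y, rfl⟩ := ConnectedComponents.surjective_coe b
    rw [Continuous.connectedComponentsMap_mk, Continuous.connectedComponentsMap_mk] at hab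
    refine (ConnectedComponents.coe_eq_coe'.2 (mem_of_mem_component (K := connectedComponent x)
      (fun η ⟨z, hz, hzx⟩ => ?_) mem_connectedComponent ?_)).symm
    · rw [connectedComponent_eq hzx]
      exact (isPreconnected_piece η).subset_connectedComponent hz
    · exact ConnectedComponents.coe_eq_coe'.1 hab.symm
  · intro c
    obtain ⟨p, rfl⟩ := ConnectedComponents.surjective_coe c
    obtain ⟨x, hx⟩ := exists_pts_mem (X := X) (isClosed_connectedComponent (x := p)).isLocallyClosed
      ⟨p, mem_connectedComponent⟩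
    exact ⟨ConnectedComponents.mk x, by
      rw [Continuous.connectedComponentsMap_mk]; exact ConnectedComponents.coe_eq_coe'.2 hx⟩

theorem connectedSpace_iff : ConnectedSpace ↥X ↔ ConnectedSpace (An.Pts X) := by
  obtain ⟨hinj, hsurj⟩ := connectedComponentsMap_bijective (X := X)
  constructor
  · intro _
    haveI : Nonempty (An.Pts X) := by
      obtain ⟨p⟩ := (inferInstance : Nonempty ↥X)
      exact (exists_pts_mem (X := X) isOpen_univ.isLocallyClosed ⟨p, trivial⟩).nonempty
    haveI : PreconnectedSpace (An.Pts X) := by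
      rw [preconnectedSpace_iff_connectedComponent]
      intro x
      refine Set.eq_univ_of_forall fun y => ?_
      refine ConnectedComponents.coe_eq_coe'.1 (hinj ?_)
      rw [Continuous.connectedComponentsMap_mk, Continuous.connectedComponentsMap_mk,
        ConnectedComponents.coe_eq_coe', PreconnectedSpace.connectedComponent_eq_univ]
      trivial
    exact ⟨inferInstance⟩
  · intro _
    haveI : Nonempty ↥X := ⟨(Classical.arbitrary (An.Pts X)).pt⟩
    haveI : PreconnectedSpace ↥X := by
      rw [preconnectedSpace_iff_connectedComponent]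
      intro p
      refine Set.eq_univ_of_forall fun q => ?_
      obtain ⟨a, ha⟩ := hsurj (ConnectedComponents.mk p)
      obtain ⟨b, hb⟩ := hsurj (ConnectedComponents.mk q)
      obtain ⟨x, rfl⟩ := ConnectedComponents.surjective_coe a
      obtain ⟨y, rfl⟩ := ConnectedComponents.surjective_coe b
      refine ConnectedComponents.coe_eq_coe'.1 ?_
      rw [← hb, ← ha]
      congr 1
      rw [ConnectedComponents.coe_eq_coe', PreconnectedSpace.connectedComponent_eq_univ]
      trivial
    exact ⟨inferInstance⟩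

theorem evTop_eq_of_nullhomotopic [ConnectedSpace ↥X] (u : Γ(X, ⊤))
    (φ : C(An.Pts X, {z : ℂ // z ≠ 0})) (hφ : ∀ x : An.Pts X, (φ x).1 = x.evTop u)
    (z₀ : {z : ℂ // z ≠ 0}) (hnull : φ.Homotopic (ContinuousMap.const (An.Pts X) z₀)) :
    ∀ x y : An.Pts X, x.evTop u = y.evTop u := by
  obtain ⟨F⟩ := hnull
  let cov := Complex.isCoveringMap_exp
  let f₀ : C(An.Pts X, ℂ) := ContinuousMap.const _ (Complex.log z₀.1)
  have H0 : ∀ a, F.symm (0, a) = (⟨Complex.exp (f₀ a), Complex.exp_ne_zero _⟩ : {z : ℂ // z ≠ 0}) := by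
    intro a
    rw [ContinuousMap.Homotopy.apply_zero]
    exact Subtype.ext (Complex.exp_log z₀.2).symm
  let g := cov.liftHomotopy F.symm.toContinuousMap f₀ H0
  have hg : ∀ x, Complex.exp (g (1, x)) = x.evTop u := by
    intro x
    rw [← hφ x, ← F.symm.apply_one x]
    exact congrArg Subtype.val (congrFun (cov.liftHomotopy_lifts F.symm.toContinuousMap f₀ H0) (1, x))
  have hpiece : ∀ (η : ↥X), ∀ x ∈ piece η, ∀ y ∈ piece η, x.evTop u = y.evTop u := by
    intro η
    obtain ⟨T, -, he, hT⟩ := exists_dense_cover η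
    have hconst := hT u (fun m x => Complex.exp (g (1, x) / m))
      (fun m => Complex.continuous_exp.comp
        (((map_continuous g).comp (continuous_const.prodMk continuous_id)).div_const _))
      (fun m hm x => by
        rw [← Complex.exp_nat_mul, mul_div_cancel₀ _ (Nat.cast_ne_zero.2 hm), hg])
      (fun x => by rw [← hφ x]; exact (φ x).2)
    have hc : Continuous fun x : An.Pts X => x.evTop u :=
      (continuous_subtype_val.comp (map_continuous φ)).congr hφ
    rw [he]
    intro x hx y hy
    have h1 : ∀ a ∈ T, ∀ z ∈ closure T, a.evTop u = z.evTop u := fun a ha z hz =>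
      closure_minimal (s := T) (t := {z | a.evTop u = z.evTop u}) (fun b hb => hconst a ha b hb)
        (isClosed_eq continuous_const hc) hz
    exact closure_minimal (s := T) (t := {z | z.evTop u = y.evTop u}) (fun b hb => h1 b hb y hy)
      (isClosed_eq hc continuous_const) hx
  intro x y
  exact (mem_of_mem_component (K := {z | x.evTop u = z.evTop u})
    (fun η ⟨z, hz, hzx⟩ w hw => hzx.trans (hpiece η z hz w hw)) rfl
    (by rw [PreconnectedSpace.connectedComponent_eq_univ]; trivial) : _)

end GrothLib.AnPts
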