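import Groth.Agent.Lib.AnPts.Top
import Groth.Agent.Lib.AnPts.Constr
import Mathlib.AlgebraicGeometry.ValuativeCriterion
import Mathlib.Order.Filter.FilterProduct
import Mathlib.RingTheory.Valuation.ValuationSubring

/-!
# Limits of ultrafilters of ℂ-points via the valuative criterion

The bounded germs along an ultrafilter form a valuation subring of the field of germs, with
residue map the standard part.
-/

open AlgebraicGeometry CategoryTheory TopologicalSpace Opposite Topology Filter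

namespace GrothLib.AnPts

variable {ι : Type} (l : Ultrafilter ι)

local notation "𝕂" => Filter.Germ (l : Filter ι) ℂ

/-- germs having a limit -/
noncomputable def bounded : ValuationSubring 𝕂 where
  carrier := {g | ∃ c : ℂ, g.Tendsto (𝓝 c)}
  one_mem' := ⟨1, (Germ.coe_tendsto (f := fun _ => (1 : ℂ))).2 tendsto_const_nhds⟩
  zero_mem' := ⟨0, (Germ.coe_tendsto (f := fun _ => (0 : ℂ))).2 tendsto_const_nhds⟩
  mul_mem' := by
    rintro a b ⟨c, hc⟩ ⟨d, hd⟩
    induction a using Germ.inductionOn with | _ f =>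
    induction b using Germ.inductionOn with | _ g =>
    exact ⟨c * d, Germ.coe_tendsto.2 ((Germ.coe_tendsto.1 hc).mul (Germ.coe_tendsto.1 hd))⟩
  add_mem' := by
    rintro a b ⟨c, hc⟩ ⟨d, hd⟩
    induction a using Germ.inductionOn with | _ f =>
    induction b using Germ.inductionOn with | _ g =>
    exact ⟨c + d, Germ.coe_tendsto.2 ((Germ.coe_tendsto.1 hc).add (Germ.coe_tendsto.1 hd))⟩
  neg_mem' := by
    rintro a ⟨c, hc⟩
    induction a using Germ.inductionOn with | _ f =>
    exact ⟨-c, Germ.coe_tendsto.2 (Germ.coe_tendsto.1 hc).neg⟩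
  mem_or_inv_mem' := by
    intro a
    induction a using Germ.inductionOn with | _ f =>
    by_cases h : ∃ C : ℝ, ∀ᶠ x in l, ‖f x‖ ≤ C
    · obtain ⟨C, hC⟩ := h
      obtain ⟨c, -, hc⟩ := (isCompact_closedBall (0 : ℂ) C).ultrafilter_le_nhds (l.map f) (by
        rw [Ultrafilter.coe_map, le_principal_iff, mem_map]
        exact hC.mono fun x hx => mem_closedBall_zero_iff.2 hx)
      exact Or.inl ⟨c, Germ.coe_tendsto.2 hc⟩
    · push Not at h
      refine Or.inr ⟨0, ?_⟩
      change ((fun x => (f x)⁻¹ : ι → ℂ) : 𝕂).Tendsto (𝓝 0)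
      rw [Germ.coe_tendsto, tendsto_zero_iff_norm_tendsto_zero]
      have hf : Tendsto (fun x => ‖f x‖) (l : Filter ι) atTop := tendsto_atTop.2 fun C =>
        (h C).mono fun x hx => hx.le
      exact hf.inv_tendsto_atTop.congr fun x => (norm_inv (f x)).symm

lemma exists_lim (g : bounded l) : ∃ c : ℂ, (g : 𝕂).Tendsto (𝓝 c) := g.2

lemma lim_unique {g : 𝕂} {c d : ℂ} (hc : g.Tendsto (𝓝 c)) (hd : g.Tendsto (𝓝 d)) : c = d := by
  induction g using Germ.inductionOn with | _ f =>
  exact tendsto_nhds_unique (Germ.coe_tendsto.1 hc) (Germ.coe_tendsto.1 hd)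

/-- standard part -/
noncomputable def st : bounded l →+* ℂ where
  toFun g := (exists_lim l g).choose
  map_one' := lim_unique l (exists_lim l 1).choose_spec
    ((Germ.coe_tendsto (f := fun _ => (1 : ℂ))).2 tendsto_const_nhds)
  map_zero' := lim_unique l (exists_lim l 0).choose_spec
    ((Germ.coe_tendsto (f := fun _ => (0 : ℂ))).2 tendsto_const_nhds)
  map_add' := by
    rintro ⟨a, ha⟩ ⟨b, hb⟩
    refine lim_unique l (exists_lim l _).choose_spec ?_
    have h1 := (exists_lim l ⟨a, ha⟩).choose_spec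
    have h2 := (exists_lim l ⟨b, hb⟩).choose_spec
    change (a + b).Tendsto _
    generalize (exists_lim l ⟨a, ha⟩).choose = c at h1 ⊢
    generalize (exists_lim l ⟨b, hb⟩).choose = d at h2 ⊢
    induction a using Germ.inductionOn with | _ f =>
    induction b using Germ.inductionOn with | _ g =>
    exact Germ.coe_tendsto.2 ((Germ.coe_tendsto.1 h1).add (Germ.coe_tendsto.1 h2))
  map_mul' := by
    rintro ⟨a, ha⟩ ⟨b, hb⟩
    refine lim_unique l (exists_lim l _).choose_spec ?_
    have h1 := (exists_lim l ⟨a, ha⟩).choose_spec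
    have h2 := (exists_lim l ⟨b, hb⟩).choose_spec
    change (a * b).Tendsto _
    generalize (exists_lim l ⟨a, ha⟩).choose = c at h1 ⊢
    generalize (exists_lim l ⟨b, hb⟩).choose = d at h2 ⊢
    induction a using Germ.inductionOn with | _ f =>
    induction b using Germ.inductionOn with | _ g =>
    exact Germ.coe_tendsto.2 ((Germ.coe_tendsto.1 h1).mul (Germ.coe_tendsto.1 h2))

lemma tendsto_st {f : ι → ℂ} {g : bounded l} (h : (g : 𝕂) = (f : 𝕂)) :
    Tendsto f l (𝓝 (st l g)) :=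
  Germ.coe_tendsto.1 (h ▸ (exists_lim l g).choose_spec)

lemma st_eq {f : ι → ℂ} {g : bounded l} {c : ℂ} (h : (g : 𝕂) = (f : 𝕂))
    (hf : Tendsto f l (𝓝 c)) : st l g = c :=
  tendsto_nhds_unique (tendsto_st l h) hf

section points

variable {X Y : Scheme.{0}} [X.Over An.SC] [Y.Over An.SC] (u : Ultrafilter (An.Pts X))

local notation "𝕃" => Filter.Germ (u : Filter (An.Pts X)) ℂ

/-- values along the ultrafilter -/
noncomputable def germHom (U : X.Opens) (hU : ∀ᶠ x in (u : Filter (An.Pts X)), x.pt ∈ U) :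
    Γ(X, U) →+* 𝕃 where
  toFun a := (evZ U a : 𝕃)
  map_one' := Germ.coe_eq.2 (hU.mono fun x hx => by
    rw [evZ_of_mem _ hx, ← evHom_apply, map_one])
  map_zero' := Germ.coe_eq.2 (hU.mono fun x hx => by
    rw [evZ_of_mem _ hx, ← evHom_apply, map_zero])
  map_add' a b := Germ.coe_eq.2 (hU.mono fun x hx => by
    simp only [Pi.add_apply, evZ_of_mem _ hx, ← evHom_apply, map_add])
  map_mul' a b := Germ.coe_eq.2 (hU.mono fun x hx => by
    simp only [Pi.mul_apply, evZ_of_mem _ hx, ← evHom_apply, map_mul])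

/-- the generic point of the ultrafilter in an affine chart -/
noncomputable def gen {U : X.Opens} (hU : IsAffineOpen U)
    (h : ∀ᶠ x in (u : Filter (An.Pts X)), x.pt ∈ U) : Spec (CommRingCat.of 𝕃) ⟶ X :=
  Spec.map (CommRingCat.ofHom (germHom u U h)) ≫ hU.fromSpec

lemma gen_eq_of_le {D U : X.Opens} (hD : IsAffineOpen D) (hU : IsAffineOpen U) (hDU : D ≤ U)
    (h : ∀ᶠ x in (u : Filter (An.Pts X)), x.pt ∈ D) :
    gen u hD h = gen u hU (h.mono fun _ hx => hDU hx) := by
  rw [gen, gen, ← hU.map_fromSpec hD (homOfLE hDU).op, ← Category.assoc, ← Spec.map_comp]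
  congr 2
  refine CommRingCat.hom_ext (RingHom.ext fun a => Germ.coe_eq.2 (h.mono fun x hx => ?_))
  rw [evZ_of_mem _ hx, evZ_of_mem _ (hDU hx)]
  exact ev_res x hDU hx a

/-- An ultrafilter whose image converges has a limit in the fibre, for universally closed maps. -/
theorem exists_le_nhds [LocallyOfFiniteType (X ↘ An.SC)] (f : X ⟶ Y) [f.IsOver An.SC]
    [UniversallyClosed f] {y₀ : An.Pts Y} (hy : Tendsto (An.Pts.map f) u (𝓝 y₀)) :
    ∃ x₀, An.Pts.map f x₀ = y₀ ∧ (u : Filter (An.Pts X)) ≤ 𝓝 x₀ := by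
  obtain ⟨V, hV, hyV, -⟩ := exists_isAffineOpen_mem_and_subset (Opens.mem_top y₀.pt)
  have hevV : ∀ᶠ x in (u : Filter (An.Pts X)), (An.Pts.map f x).pt ∈ V :=
    hy.eventually (eventually_mem_nhds hyV)
  have hpre : ∀ᶠ x in (u : Filter (An.Pts X)), x.pt ∈ f ⁻¹ᵁ V :=
    hevV.mono fun x hx => by rw [An.Pts.pt_map] at hx; exact hx
  obtain ⟨W, hW, hWV, hevW⟩ : ∃ W : X.Opens, IsAffineOpen W ∧ W ≤ f ⁻¹ᵁ V ∧
      ∀ᶠ x in (u : Filter (An.Pts X)), x.pt ∈ W := by
    choose W hW hxW hWV using fun p : ↥(f ⁻¹ᵁ V) =>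
      exists_isAffineOpen_mem_and_subset p.2
    obtain ⟨t, ht⟩ := (f.isCompact_preimage (U := V) hV.isCompact).elim_finite_subcover
      (fun p => ((W p : X.Opens) : Set X)) (fun p => (W p).isOpen)
      (fun p hp => Set.mem_iUnion.2 ⟨⟨p, hp⟩, hxW _⟩)
    have : ∀ᶠ x in (u : Filter (An.Pts X)), ∃ p ∈ t, x.pt ∈ W p := hpre.mono fun x hx => by
      simpa using ht hx
    obtain ⟨p, -, hp⟩ := (u.eventually_exists_mem_iff t.finite_toSet).1 this
    exact ⟨W p, hW p, hWV p, hp⟩
  have hbnd : ∀ a, Tendsto (fun x => evZ V a (An.Pts.map f x)) u (𝓝 (y₀.ev V hyV a)) := fun a => by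
    rw [← evZ_of_mem a hyV]
    exact (tendsto_evZ_nhds a hyV).comp hy
  let φ : Γ(Y, V) →+* bounded u :=
    RingHom.codRestrict ((germHom u W hevW).comp (f.appLE V W hWV).hom) (bounded u).toSubring
      fun a => ⟨y₀.ev V hyV a, Germ.coe_tendsto.2 ((hbnd a).congr' (hevW.mono fun x hx => by
        have hx' : (An.Pts.map f x).pt ∈ V := by rw [An.Pts.pt_map]; exact hWV hx
        change evZ V a (An.Pts.map f x) = evZ W (f.appLE V W hWV a) x
        rw [evZ_of_mem _ hx, evZ_of_mem _ hx', An.Pts.ev_map, Scheme.Hom.appLE,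
          CommRingCat.comp_apply]
        exact (ev_res x hWV hx _).symm))⟩
  have hstφ : ∀ a, st u (φ a) = y₀.ev V hyV a := fun a => by
    refine st_eq u (f := evZ W (f.appLE V W hWV a)) rfl ((hbnd a).congr' (hevW.mono fun x hx => ?_))
    have hx' : (An.Pts.map f x).pt ∈ V := by rw [An.Pts.pt_map]; exact hWV hx
    rw [evZ_of_mem _ hx, evZ_of_mem _ hx', An.Pts.ev_map, Scheme.Hom.appLE,
      CommRingCat.comp_apply]
    exact (ev_res x hWV hx _).symm
  let i₂ : Spec (CommRingCat.of (bounded u)) ⟶ Y := Spec.map (CommRingCat.ofHom φ) ≫ hV.fromSpec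
  let S : ValuativeCommSq f :=
    { R := bounded u
      K := 𝕃
      i₁ := gen u hW hevW
      i₂ := i₂
      commSq := ⟨by
        rw [gen, Category.assoc, ← IsAffineOpen.SpecMap_appLE_fromSpec f hV hW hWV,
          ← Category.assoc, ← Spec.map_comp, ← Category.assoc, ← Spec.map_comp]
        rfl⟩ }
  have hex : ValuativeCriterion.Existence f := by
    have h : UniversallyClosed f := inferInstance
    rw [UniversallyClosed.eq_valuativeCriterion] at h
    exact h.1
  obtain ⟨ℓ, hℓ₁, hℓ₂⟩ := (hex S).exists_lift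
  dsimp only [S] at hℓ₁ hℓ₂
  obtain ⟨W', hW', hcW', -⟩ :=
    exists_isAffineOpen_mem_and_subset (Opens.mem_top (ℓ.base (IsLocalRing.closedPoint (bounded u))))
  have hrange : Set.range ℓ.base ⊆ Set.range hW'.fromSpec.base := by
    rw [hW'.range_fromSpec]
    rintro _ ⟨p, rfl⟩
    exact ((IsLocalRing.specializes_closedPoint p).map ℓ.continuous).mem_open W'.isOpen hcW'
  obtain ⟨ψ, hψ⟩ : ∃ ψ : Γ(X, W') ⟶ CommRingCat.of (bounded u), Spec.map ψ ≫ hW'.fromSpec = ℓ :=
    ⟨Spec.preimage (IsOpenImmersion.lift hW'.fromSpec ℓ hrange), by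
      rw [Spec.map_preimage, IsOpenImmersion.lift_fac]⟩
  let q : ↥X := (gen u hW hevW).base (IsLocalRing.closedPoint 𝕃)
  have hqW' : q ∈ W' := by
    have : q ∈ Set.range ℓ.base := by
      refine ⟨(Spec.map (CommRingCat.ofHom (algebraMap (bounded u) 𝕃))).base
        (IsLocalRing.closedPoint 𝕃), ?_⟩
      rw [← Scheme.Hom.comp_apply, hℓ₁]
    have := hrange this
    rwa [hW'.range_fromSpec] at this
  have hqW : q ∈ W := by
    rw [← SetLike.mem_coe, ← hW.range_fromSpec]
    exact ⟨_, (Scheme.Hom.comp_apply _ _ _).symm⟩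
  obtain ⟨g, hgW', hqg⟩ := hW.exists_basicOpen_le (⟨q, hqW'⟩ : W') hqW
  have hg : germHom u W hevW g ≠ 0 := by
    intro h0
    have : (Spec.map (CommRingCat.ofHom (germHom u W hevW))).base (IsLocalRing.closedPoint 𝕃) ∈
        hW.fromSpec ⁻¹ᵁ X.basicOpen g := by
      change hW.fromSpec.base _ ∈ X.basicOpen g
      rw [← Scheme.Hom.comp_apply]
      exact hqg
    rw [hW.fromSpec_preimage_basicOpen] at this
    apply this
    change germHom u W hevW g ∈ (IsLocalRing.closedPoint 𝕃).asIdeal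
    rw [h0]
    exact zero_mem _
  have hevg : ∀ᶠ x in (u : Filter (An.Pts X)), x.pt ∈ X.basicOpen g := by
    have h1 : ∀ᶠ x in (u : Filter (An.Pts X)), evZ W g x ≠ 0 :=
      Ultrafilter.eventually_not.2 fun h => hg (Germ.coe_eq.2 h)
    filter_upwards [h1, hevW] with x hx hxW
    rw [evZ_of_mem g hxW] at hx
    exact (mem_basicOpen_iff x W hxW g).2 hx
  have hevW' : ∀ᶠ x in (u : Filter (An.Pts X)), x.pt ∈ W' := hevg.mono fun x hx => hgW' hx
  have hgen : gen u hW hevW = gen u hW' hevW' :=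
    (gen_eq_of_le u (hW.basicOpen g) hW (X.basicOpen_le g) hevg).symm.trans
      (gen_eq_of_le u (hW.basicOpen g) hW' hgW' hevg)
  have hψgerm : ψ ≫ CommRingCat.ofHom (algebraMap (bounded u) 𝕃) =
      CommRingCat.ofHom (germHom u W' hevW') := by
    apply Spec.map_injective
    rw [← cancel_mono hW'.fromSpec, Spec.map_comp, Category.assoc, hψ, hℓ₁, hgen]
    rfl
  have hψ' : ∀ a, ((ψ a : bounded u) : 𝕃) = (evZ W' a : 𝕃) := fun a =>
    congrArg (fun k : Γ(X, W') ⟶ CommRingCat.of 𝕃 => k a) hψgerm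
  obtain ⟨x₀, hx₀, he⟩ := exists_of_ringHom hW' ((st u).comp ψ.hom) (RingHom.ext fun c => by
    refine st_eq u (hψ' _) ((tendsto_const_nhds (x := c)).congr' (hevW'.mono fun x hx => ?_))
    rw [evZ_of_mem _ hx, ev_strU])
  refine ⟨x₀, ?_, ?_⟩
  · refine Subtype.ext ?_
    rw [An.Pts.map_val, eq_SpecMap_evHom x₀ hW' hx₀, eq_SpecMap_evHom y₀ hV hyV,
      show evHom x₀ W' hx₀ = (st u).comp ψ.hom from RingHom.ext he,
      show evHom y₀ V hyV = (st u).comp φ from RingHom.ext fun a => (hstφ a).symm,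
      CommRingCat.ofHom_comp, Spec.map_comp, Category.assoc, Category.assoc]
    change Spec.map (CommRingCat.ofHom (st u)) ≫ Spec.map ψ ≫ hW'.fromSpec ≫ f = _
    rw [← Category.assoc (Spec.map ψ) hW'.fromSpec f, hψ, hℓ₂]
    simp only [i₂, CommRingCat.ofHom_comp, Spec.map_comp, Category.assoc]
  · refine le_nhds_of_generators hW' hx₀ hevW' Set.univ (by simp) fun a _ => ?_
    rw [evZ_of_mem a hx₀, he]
    exact tendsto_st u (hψ' a)

end points

end GrothLib.AnPts
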