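import Groth.Agent.Lib.AnPts.Maps
import Groth.Agent.Lib.AnPts.Ultra
import Groth.Agent.S9205
import Mathlib.AlgebraicGeometry.ZariskisMainTheorem
import Mathlib.Topology.Maps.Proper.Basic

/-!
# Properness on ℂ-points
-/

open AlgebraicGeometry CategoryTheory TopologicalSpace Opposite Topology Filter Limits

namespace GrothLib.AnPts

variable {X Y : Scheme.{0}} [X.Over An.SC] [LocallyOfFiniteType (X ↘ An.SC)]
  [Y.Over An.SC] [LocallyOfFiniteType (Y ↘ An.SC)] (f : X ⟶ Y) [f.IsOver An.SC]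

omit [LocallyOfFiniteType (Y ↘ An.SC)] in
theorem isProperMap_map [UniversallyClosed f] : IsProperMap (An.Pts.map f) :=
  isProperMap_iff_ultrafilter.2 ⟨An.Pts.continuous_map f, fun u _ hu => exists_le_nhds u f hu⟩

theorem universallyClosed_of_isProperMap [QuasiCompact f] (h : IsProperMap (An.Pts.map f)) :
    UniversallyClosed f := by
  refine ((Groth.Agent.S9205.result f).2).2 fun n => ?_
  let T : Scheme.{0} := 𝔸(ULift.{0} (Fin n); Y)
  let g : T ⟶ Y := 𝔸(ULift.{0} (Fin n); Y) ↘ Y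
  letI : T.Over An.SC := ⟨g ≫ (Y ↘ An.SC)⟩
  haveI : g.IsOver An.SC := ⟨rfl⟩
  haveI : LocallyOfFiniteType g := by dsimp [g]; infer_instance
  haveI : LocallyOfFiniteType (T ↘ An.SC) :=
    inferInstanceAs (LocallyOfFiniteType (g ≫ (Y ↘ An.SC)))
  have hprop : IsProperMap (An.Pts.map (pullback.snd f g)) := by
    refine isProperMap_iff_ultrafilter.2 ⟨An.Pts.continuous_map _, fun u t hu => ?_⟩
    have hfst : Tendsto (fun z => An.Pts.map f (An.Pts.map (pullback.fst f g) z))
        (u : Filter (An.Pts (pullback f g))) (𝓝 (An.Pts.map g t)) := by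
      simp only [An.Pts.map_pullback_condition f g]
      exact ((An.Pts.continuous_map g).tendsto t).comp hu
    obtain ⟨x, hx, hux⟩ := (isProperMap_iff_ultrafilter.1 h).2 (𝒰 := u.map (An.Pts.map (pullback.fst f g)))
      (y := An.Pts.map g t) (by rw [Ultrafilter.coe_map, tendsto_map'_iff]; exact hfst)
    obtain ⟨z, hz⟩ := (isHomeomorph_prodMap f g).surjective ⟨(x, t), hx⟩
    refine ⟨z, congrArg (fun q => q.1.2) hz, ?_⟩
    rw [(isHomeomorph_prodMap f g).isInducing.nhds_eq_comap, hz, nhds_subtype, comap_comap,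
      ← tendsto_iff_comap, nhds_prod_eq]
    exact (tendsto_map'_iff.1 (tendsto_id'.2 hux)).prodMk hu
  intro Z hZ
  have hlc : IsLocallyConstructible ((pullback.snd f g).base '' Z) :=
    isLocallyConstructible_image _ (isLocallyConstructible_of_isClosed hZ)
  rw [isClosed_iff_pts hlc]
  have e : (An.Pts.pt ⁻¹' ((pullback.snd f g).base '' Z) : Set (An.Pts T)) =
      An.Pts.map (pullback.snd f g) '' (An.Pts.pt ⁻¹' Z) := by
    ext t
    constructor
    · rintro ⟨p, hp, hpt⟩
      obtain ⟨z, hz, hzt⟩ := exists_pts_mem (X := pullback f g)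
        (hZ.inter ((pt_isClosed t).preimage (pullback.snd f g).continuous)).isLocallyClosed
        ⟨p, hp, hpt⟩
      exact ⟨z, hz, pt_injective ((An.Pts.pt_map _ _).trans hzt)⟩
    · rintro ⟨z, hz, rfl⟩
      exact ⟨z.pt, hz, (An.Pts.pt_map _ _).symm⟩
  rw [e]
  exact hprop.isClosedMap _ (hZ.preimage An.Pts.continuous_pt)

theorem isProper_iff [QuasiCompact f] :
    IsProper f ↔ IsProperMap (An.Pts.map f) ∧ IsSeparatedMap (An.Pts.map f) := by
  have := locallyOfFiniteType_of_isOver f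
  refine ⟨fun _ => ⟨isProperMap_map f, (isSeparated_iff f).1 inferInstance⟩, fun ⟨h1, h2⟩ => ?_⟩
  have := universallyClosed_of_isProperMap f h1
  have := (isSeparated_iff f).2 h2
  exact {}

theorem finite_fibre_of_locallyQuasiFinite [QuasiCompact f] [LocallyQuasiFinite f]
    (y : An.Pts Y) : (An.Pts.map f ⁻¹' {y}).Finite :=
  ((f.finite_preimage_singleton y.pt).preimage pt_injective.injOn).subset fun x hx => by
    change f.base x.pt ∈ ({y.pt} : Set ↥Y)
    rw [← An.Pts.pt_map, show An.Pts.map f x = y from hx]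
    rfl

theorem locallyQuasiFinite_of_finite_fibres
    (h : ∀ y : An.Pts Y, (An.Pts.map f ⁻¹' {y}).Finite) : LocallyQuasiFinite f := by
  have := locallyOfFiniteType_of_isOver f
  rw [← f.quasiFiniteLocus_eq_top_iff]
  refine TopologicalSpace.Opens.ext ?_
  refine eq_of_preimage_pt_eq (isLocallyConstructible_of_isOpen f.quasiFiniteLocus.isOpen) .univ ?_
  rw [TopologicalSpace.Opens.coe_top, Set.preimage_univ, Set.eq_univ_iff_forall]
  intro x
  change f.QuasiFiniteAt x.pt
  rw [Scheme.Hom.quasiFiniteAt_iff_isOpen_singleton_asFiber]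
  have hF : IsClosed (f.base ⁻¹' {f.base x.pt}) := by
    rw [← An.Pts.pt_map]
    exact (pt_isClosed _).preimage f.continuous
  let Q : Set ↥X := An.Pts.pt '' (An.Pts.map f ⁻¹' {An.Pts.map f x})
  have hQ : Q.Finite := (h _).image _
  have hQc : IsClosed Q := by
    rw [← Set.biUnion_of_singleton Q]
    exact hQ.isClosed_biUnion fun q hq => by obtain ⟨z, -, rfl⟩ := hq; exact pt_isClosed z
  have hfib : f.base ⁻¹' {f.base x.pt} ⊆ Q := by
    intro p hp
    by_contra hpQ
    obtain ⟨z, hz, hzQ⟩ := exists_pts_mem (X := X)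
      (hF.isLocallyClosed.inter hQc.isOpen_compl.isLocallyClosed) ⟨p, hp, hpQ⟩
    exact hzQ ⟨z, pt_injective ((An.Pts.pt_map f z).trans (hz.trans (An.Pts.pt_map f x).symm)), rfl⟩
  haveI : Finite (f.base ⁻¹' {f.base x.pt}) := (hQ.subset hfib).to_subtype
  haveI : T1Space (f.base ⁻¹' {f.base x.pt}) := ⟨fun q => by
    obtain ⟨z, -, hz⟩ := hfib q.2
    have : ({q} : Set (f.base ⁻¹' {f.base x.pt})) = Subtype.val ⁻¹' {z.pt} := by
      ext r; simp [hz, Subtype.ext_iff]
    rw [this]
    exact (pt_isClosed z).preimage continuous_subtype_val⟩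
  rw [← (f.fiberHomeo (f x.pt)).isOpen_image]
  exact isOpen_discrete _

theorem isFinite_iff [QuasiCompact f] :
    IsFinite f ↔ IsProperMap (An.Pts.map f) ∧ IsSeparatedMap (An.Pts.map f) ∧
      ∀ y : An.Pts Y, (An.Pts.map f ⁻¹' {y}).Finite := by
  rw [IsFinite.iff_isProper_and_locallyQuasiFinite, isProper_iff, and_assoc]
  exact and_congr_right fun _ => and_congr_right fun _ =>
    ⟨fun _ => finite_fibre_of_locallyQuasiFinite f, locallyQuasiFinite_of_finite_fibres f⟩

theorem isProper_iff_compactSpace (X : Scheme.{0}) [X.Over An.SC]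
    [LocallyOfFiniteType (X ↘ An.SC)] [QuasiCompact (X ↘ An.SC)] :
    IsProper (X ↘ An.SC) ↔ CompactSpace (An.Pts X) ∧ T2Space (An.Pts X) := by
  letI : An.SC.Over An.SC := ⟨𝟙 An.SC⟩
  haveI : LocallyOfFiniteType (An.SC ↘ An.SC) := inferInstanceAs (LocallyOfFiniteType (𝟙 An.SC))
  haveI : Scheme.Hom.IsOver (X := X) (Y := An.SC) (X ↘ An.SC) An.SC := ⟨Category.comp_id _⟩
  haveI : Subsingleton (An.Pts An.SC) := ⟨fun a b => Subtype.ext
    ((Category.comp_id _).symm.trans (a.2.trans (b.2.symm.trans (Category.comp_id _))))⟩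
  rw [isProper_iff (X ↘ An.SC)]
  refine and_congr ⟨fun h => ?_, fun h => ?_⟩ ⟨fun h => ?_, fun h => ?_⟩
  · rw [← isCompact_univ_iff, ← Set.preimage_univ (f := An.Pts.map (X ↘ An.SC))]
    exact h.isCompact_preimage Set.finite_univ.isCompact
  · refine isProperMap_iff_ultrafilter.2 ⟨An.Pts.continuous_map _, fun u y _ => ?_⟩
    obtain ⟨x, -, hx⟩ := isCompact_univ.ultrafilter_le_nhds u (by simp)
    exact ⟨x, Subsingleton.elim _ _, hx⟩
  · exact ⟨fun x y hxy => h x y (Subsingleton.elim _ _) hxy⟩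
  · exact fun x y _ hxy => t2_separation hxy

end GrothLib.AnPts
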