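import Groth.Agent.Lib.AnPts.Etale
import Groth.Agent.Lib.AnPts.Proper
import Mathlib.Topology.Covering.Basic

/-!
# Finite etale morphisms give covering maps
-/

open AlgebraicGeometry CategoryTheory TopologicalSpace Opposite Topology Filter

namespace GrothLib.AnPts

variable {X Y : Scheme.{0}} [X.Over An.SC] [Y.Over An.SC] [LocallyOfFiniteType (X ↘ An.SC)]
  [LocallyOfFiniteType (Y ↘ An.SC)]

omit [Y.Over An.SC] [LocallyOfFiniteType (Y ↘ An.SC)] in
lemma t2Space_affineChart {U : X.Opens} (hU : IsAffineOpen U) :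
    T2Space ↥(An.Pts.pt ⁻¹' (U : Set X) : Set (An.Pts X)) := by
  obtain ⟨n, s, hs⟩ := exists_generators hU
  exact (isClosedEmbedding_coordMap hU s hs).isEmbedding.t2Space

theorem isCoveringMap_map (f : X ⟶ Y) [f.IsOver An.SC] [IsFinite f] [Etale f] :
    IsCoveringMap (An.Pts.map f) ∧ ∀ y : An.Pts Y, (An.Pts.map f ⁻¹' {y}).Finite := by
  obtain ⟨hp, -, hfin⟩ := (isFinite_iff f).1 inferInstance
  refine ⟨?_, hfin⟩
  have hlh := isLocalHomeomorph_map_of_etale f
  intro y
  obtain ⟨V, hV, hyV, -⟩ := exists_isAffineOpen_mem_and_subset (Opens.mem_top y.pt)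
  let s : Set (An.Pts Y) := An.Pts.pt ⁻¹' (V : Set Y)
  have hso : IsOpen s := An.Pts.isOpen_preimage_pt V
  have hpre : An.Pts.map f ⁻¹' s = An.Pts.pt ⁻¹' ((f ⁻¹ᵁ V : X.Opens) : Set X) := by
    ext x
    change (An.Pts.map f x).pt ∈ V ↔ f.base x.pt ∈ V
    rw [An.Pts.pt_map]
  haveI : T2Space ↥(An.Pts.map f ⁻¹' s) := by
    have := t2Space_affineChart (hV.preimage f)
    exact (Homeomorph.setCongr hpre).isEmbedding.t2Space
  let g := s.restrictPreimage (An.Pts.map f)
  have hg : IsLocalHomeomorphOn g (g ⁻¹' Set.univ) := fun e _ => by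
    have : IsLocalHomeomorph g := IsLocalHomeomorph.of_comp
      ((hlh.comp (hso.preimage (An.Pts.continuous_map f)).isOpenEmbedding_subtypeVal.isLocalHomeomorph :
        IsLocalHomeomorph (Subtype.val ∘ g)))
      hso.isOpenEmbedding_subtypeVal.isLocalHomeomorph
      (An.Pts.continuous_map f).restrictPreimage
    exact isLocalHomeomorph_iff_isLocalHomeomorphOn_univ.1 this e trivial
  have hcov : IsCoveringMap g := isCoveringMap_iff_isCoveringMapOn_univ.2
    ((hp.restrictPreimage s).isClosedMap.isCoveringMapOn_of_isLocalHomeomorphOn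
      (fun x _ => by
        have hmaps : g ⁻¹' {x} = Subtype.val ⁻¹' (An.Pts.map f ⁻¹' {x.1}) := by
          ext e; simp [g, Subtype.ext_iff]
        rw [hmaps]
        exact (hfin x.1).preimage Subtype.val_injective.injOn) hg)
  exact ((IsCoveringMapOn.of_isCoveringMap_restrictPreimage _ hso
    (hso.preimage (An.Pts.continuous_map f)) hcov) y hyV).to_isEvenlyCovered_preimage

end GrothLib.AnPts
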