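import Groth.Agent.Lib.AnPts.RootCover
import Mathlib.FieldTheory.PrimitiveElement
import Mathlib.FieldTheory.Separable
import Mathlib.RingTheory.Localization.Integral
import Mathlib.RingTheory.FiniteType

/-!
# A finitely generated domain over ℂ as a root cover
-/

open Polynomial Topology Filter

namespace GrothLib.AnPts

open scoped IntermediateField in
/-- an element generating the fraction field, with denominators cleared -/
theorem exists_primitive {d : ℕ} {A : Type} [CommRing A] [IsDomain A] [Algebra ℂ A]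
    [Algebra.FiniteType ℂ A] [Algebra (MvPolynomial (Fin d) ℂ) A]
    [IsScalarTower ℂ (MvPolynomial (Fin d) ℂ) A] [Algebra.IsIntegral (MvPolynomial (Fin d) ℂ) A]
    [FaithfulSMul (MvPolynomial (Fin d) ℂ) A] {n : ℕ} (gen : Fin n → A) :
    ∃ (θ : A) (c₀ h : MvPolynomial (Fin d) ℂ) (Q : Fin n → Polynomial (MvPolynomial (Fin d) ℂ)),
      RootCover.Good (minpoly (MvPolynomial (Fin d) ℂ) θ) h ∧
      Irreducible (minpoly (MvPolynomial (Fin d) ℂ) θ) ∧ c₀ ∣ h ∧
      ∀ i, algebraMap _ A c₀ * gen i = aeval θ (Q i) := by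
  let R := MvPolynomial (Fin d) ℂ
  let K := FractionRing R
  let L := FractionRing A
  haveI : Algebra.FiniteType R A := Algebra.FiniteType.of_restrictScalars_finiteType ℂ R A
  haveI : Module.Finite R A := Algebra.IsIntegral.finite
  haveI : FaithfulSMul R L := (faithfulSMul_iff_algebraMap_injective R L).2 (by
    rw [IsScalarTower.algebraMap_eq R A L]
    exact (IsFractionRing.injective A L).comp (FaithfulSMul.algebraMap_injective R A))
  letI : Algebra K L := FractionRing.liftAlgebra R L
  haveI : IsScalarTower R K L := FractionRing.isScalarTower_liftAlgebra R L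
  have hint : ∀ a : A, IsIntegral R a := fun a => Algebra.IsIntegral.isIntegral a
  have hdvd : ∀ b : A, b ≠ 0 → ∃ c : R, c ≠ 0 ∧ b ∣ algebraMap R A c := fun b hb => by
    obtain ⟨c, hc, hc0⟩ := Submodule.exists_mem_ne_zero_of_ne_bot
      (Ideal.comap_ne_bot_of_integral_mem (I := Ideal.span {b}) hb (Ideal.mem_span_singleton_self b) (hint b))
    exact ⟨c, hc0, Ideal.mem_span_singleton.1 hc⟩
  have hKne : ∀ {c : R}, c ≠ 0 → algebraMap R L c ≠ 0 := fun hc =>
    (map_ne_zero_iff _ (FaithfulSMul.algebraMap_injective R L)).2 hc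
  have hfrac : ∀ l : L, ∃ (c : R) (a : A), c ≠ 0 ∧ algebraMap R L c * l = algebraMap A L a := by
    intro l
    obtain ⟨a, b, hb, rfl⟩ := IsFractionRing.div_surjective A l
    obtain ⟨c, hc, t, ht⟩ := hdvd b (nonZeroDivisors.ne_zero hb)
    refine ⟨c, a * t, hc, ?_⟩
    rw [IsScalarTower.algebraMap_apply R A L, ht, map_mul, map_mul]
    have hbne : algebraMap A L b ≠ 0 := IsFractionRing.to_map_ne_zero_of_mem_nonZeroDivisors hb
    rw [mul_comm _ (algebraMap A L t), mul_assoc, mul_div_cancel₀ _ hbne, mul_comm]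
  haveI : FiniteDimensional K L := by
    obtain ⟨s, hs⟩ := Module.finite_def.1 (inferInstance : Module.Finite R A)
    refine Module.finite_def.2 ?_
    classical
    refine ⟨s.image (algebraMap A L), ?_⟩
    rw [eq_top_iff]
    rintro l -
    obtain ⟨c, a, hc, hl⟩ := hfrac l
    have ha : ∀ a : A,
        algebraMap A L a ∈ Submodule.span K (((s.image (algebraMap A L)) : Finset L) : Set L) := by
      intro a'
      have : a' ∈ Submodule.span R (s : Set A) := by rw [hs]; trivial
      clear hl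
      induction this using Submodule.span_induction with
      | mem x hx => exact Submodule.subset_span (Finset.mem_coe.2 (Finset.mem_image.2 ⟨x, Finset.mem_coe.1 hx, rfl⟩))
      | zero => simp
      | add x y _ _ hx hy => rw [map_add]; exact add_mem hx hy
      | smul r x _ hx =>
        rw [Algebra.smul_def, map_mul, ← IsScalarTower.algebraMap_apply,
          IsScalarTower.algebraMap_apply R K L, ← Algebra.smul_def]
        exact Submodule.smul_mem _ _ hx
    have : l = (algebraMap R K c)⁻¹ • algebraMap A L a := by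
      rw [← hl, Algebra.smul_def, map_inv₀, ← IsScalarTower.algebraMap_apply, inv_mul_cancel_left₀ (hKne hc)]
    rw [this]
    exact Submodule.smul_mem _ _ (ha a)
  obtain ⟨α, hα⟩ := Field.exists_primitive_element K L
  obtain ⟨c, θ, hc, hcθ⟩ := hfrac α
  have hθtop : K⟮algebraMap A L θ⟯ = ⊤ := by
    rw [eq_top_iff, ← hα, IntermediateField.adjoin_simple_le_iff]
    have : α = (algebraMap K L (algebraMap R K c))⁻¹ * algebraMap A L θ := by
      rw [← IsScalarTower.algebraMap_apply, ← hcθ, inv_mul_cancel_left₀ (hKne hc)]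
    rw [this]
    exact mul_mem (inv_mem (IntermediateField.algebraMap_mem _ _))
      (IntermediateField.mem_adjoin_simple_self _ _)
  have hθi : IsIntegral R θ := hint θ
  have hθK : IsAlgebraic K (algebraMap A L θ) := Algebra.IsAlgebraic.isAlgebraic _
  have hgen : ∀ a : A, ∃ (c : R) (Q : R[X]), c ≠ 0 ∧ algebraMap R A c * a = aeval θ Q := by
    intro a
    have hmem : algebraMap A L a ∈ K⟮algebraMap A L θ⟯.toSubalgebra := by
      rw [hθtop]; trivial
    rw [IntermediateField.adjoin_simple_toSubalgebra_of_isAlgebraic hθK,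
      Algebra.adjoin_singleton_eq_range_aeval] at hmem
    obtain ⟨Q, hQ⟩ := hmem
    obtain ⟨b, hb⟩ := IsLocalization.integerNormalization_map_to_map (nonZeroDivisors R) Q
    refine ⟨b, IsLocalization.integerNormalization (nonZeroDivisors R) Q,
      nonZeroDivisors.ne_zero b.2, IsFractionRing.injective A L ?_⟩
    rw [map_mul, ← IsScalarTower.algebraMap_apply, ← aeval_algebraMap_apply,
      ← aeval_map_algebraMap K, hb, ← hQ, Algebra.smul_def, map_mul,
      Polynomial.algebraMap_apply, aeval_C, ← IsScalarTower.algebraMap_apply]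
    rfl
  choose ci Qi hci hQi using fun i => hgen (gen i)
  let c₀ : R := ∏ i, ci i
  have hc₀ : c₀ ≠ 0 := Finset.prod_ne_zero_iff.2 fun i _ => hci i
  let P := minpoly R θ
  have hPK : minpoly K (algebraMap A L θ) = P.map (algebraMap R K) :=
    minpoly.isIntegrallyClosed_eq_field_fractions K L hθi
  have hsep : (P.map (algebraMap R K)).Separable := by
    rw [← hPK]
    exact (minpoly.irreducible (Algebra.IsIntegral.isIntegral _)).separable
  obtain ⟨u, v, huv⟩ := hsep
  obtain ⟨bu, hbu⟩ := IsLocalization.integerNormalization_map_to_map (nonZeroDivisors R) u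
  obtain ⟨bv, hbv⟩ := IsLocalization.integerNormalization_map_to_map (nonZeroDivisors R) v
  set U := IsLocalization.integerNormalization (nonZeroDivisors R) u
  set V := IsLocalization.integerNormalization (nonZeroDivisors R) v
  have hbez : C ((bu : R) * bv) = C (bv : R) * U * P + C (bu : R) * V * derivative P := by
    apply Polynomial.map_injective (algebraMap R K) (IsFractionRing.injective R K)
    simp only [Polynomial.map_add, Polynomial.map_mul, Polynomial.map_C, ← derivative_map, hbu, hbv,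
      Algebra.smul_def, Polynomial.algebraMap_apply, map_mul]
    linear_combination (-(C (algebraMap R K bu) * C (algebraMap R K bv))) * huv
  refine ⟨θ, c₀, c₀ * ((bu : R) * bv), fun i => C (∏ j ∈ Finset.univ.erase i, ci j) * Qi i,
    ⟨minpoly.monic hθi, (minpoly.natDegree_pos hθi).ne',
      mul_ne_zero hc₀ (mul_ne_zero (nonZeroDivisors.ne_zero bu.2) (nonZeroDivisors.ne_zero bv.2)), ?_⟩,
    minpoly.irreducible hθi, dvd_mul_right _ _, fun i => ?_⟩
  · intro y hy r hr hd
    have hy' : MvPolynomial.eval y ((bu : R) * bv) ≠ 0 := fun h0 => hy (by rw [map_mul, h0, mul_zero])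
    apply hy'
    have := congrArg (fun q : R[X] => (q.map (MvPolynomial.eval y)).eval r) hbez
    simp only [Polynomial.map_add, Polynomial.map_mul, Polynomial.map_C, ← derivative_map, eval_add,
      eval_mul, eval_C] at this
    rw [this, hr.eq_zero, hd, mul_zero, mul_zero, add_zero]
  · rw [map_mul (aeval θ), aeval_C, ← hQi, ← mul_assoc, ← map_mul (algebraMap R A),
      Finset.prod_erase_mul _ _ (Finset.mem_univ i)]

/-- Every finitely generated domain over ℂ is, on a dense open set, an irreducible root cover. -/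
theorem exists_domain_cover {A : Type} [CommRing A] [IsDomain A] [Algebra ℂ A] {n : ℕ}
    (g : MvPolynomial (Fin n) ℂ →ₐ[ℂ] A) (hg : Function.Surjective g) :
    ∃ (d : ℕ) (P : Polynomial (MvPolynomial (Fin d) ℂ)) (h : MvPolynomial (Fin d) ℂ)
      (Ψ : (Fin d → ℂ) × ℂ → Fin n → ℂ),
      RootCover.Good P h ∧ Irreducible P ∧
      ContinuousOn Ψ (RootCover.cover P h) ∧
      (∀ q ∈ RootCover.cover P h, ∃ φ : A →ₐ[ℂ] ℂ, (fun i => φ (g (MvPolynomial.X i))) = Ψ q) ∧
      (∃ hA : A, hA ≠ 0 ∧ ∀ φ : A →ₐ[ℂ] ℂ, φ hA ≠ 0 →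
        ∃ q ∈ RootCover.cover P h, (fun i => φ (g (MvPolynomial.X i))) = Ψ q) ∧
      (∀ (p : MvPolynomial (Fin n) ℂ) (a b : Fin d → ℂ) (z₀ : ℂ) (r : ℂ → ℂ), DifferentiableAt ℂ r z₀ →
        (∀ᶠ z in 𝓝 z₀, (a + z • b, r z) ∈ RootCover.cover P h) →
        DifferentiableAt ℂ (fun z => MvPolynomial.eval (Ψ (a + z • b, r z)) p) z₀) ∧
      (∀ p : MvPolynomial (Fin n) ℂ, ∃ (C₀ : ℝ) (D : ℕ), 0 ≤ C₀ ∧ ∀ q ∈ RootCover.cover P h,
        ‖MvPolynomial.eval (Ψ q) p‖ ≤ C₀ * (1 + ‖q.1‖) ^ D) := by
  haveI : Algebra.FiniteType ℂ A := Algebra.FiniteType.of_surjective g hg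
  obtain ⟨d, ι, hι, hint⟩ := exists_integral_inj_algHom_of_fg ℂ A
  letI : Algebra (MvPolynomial (Fin d) ℂ) A := ι.toRingHom.toAlgebra
  haveI : IsScalarTower ℂ (MvPolynomial (Fin d) ℂ) A :=
    IsScalarTower.of_algebraMap_eq fun c => (ι.commutes c).symm
  haveI : Algebra.IsIntegral (MvPolynomial (Fin d) ℂ) A := ⟨hint⟩
  haveI : FaithfulSMul (MvPolynomial (Fin d) ℂ) A := (faithfulSMul_iff_algebraMap_injective _ _).2 hι
  obtain ⟨θ, c₀, h, Q, hgood, hirr, hc₀, hQ⟩ :=
    exists_primitive (d := d) (A := A) (fun i => g (MvPolynomial.X i))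
  let P := minpoly (MvPolynomial (Fin d) ℂ) θ
  let Ψ : (Fin d → ℂ) × ℂ → Fin n → ℂ := fun q i =>
    ((Q i).map (MvPolynomial.eval q.1)).eval q.2 / MvPolynomial.eval q.1 c₀
  have hne : ∀ y ∈ RootCover.base h, MvPolynomial.eval y c₀ ≠ 0 := fun y hy h0 => by
    obtain ⟨t, rfl⟩ := hc₀
    exact hy (by rw [map_mul, h0, zero_mul])
  have hφΨ : ∀ (φ : A →ₐ[ℂ] ℂ) (y : Fin d → ℂ),
      (∀ p, φ (algebraMap (MvPolynomial (Fin d) ℂ) A p) = MvPolynomial.eval y p) →
      y ∈ RootCover.base h → (fun i => φ (g (MvPolynomial.X i))) = Ψ (y, φ θ) := by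
    intro φ y hφ hy
    funext i
    have := congrArg φ (hQ i)
    rw [map_mul, hφ, aeval_def, ← AlgHom.coe_toRingHom, hom_eval₂] at this
    rw [show (φ : A →+* ℂ).comp (algebraMap (MvPolynomial (Fin d) ℂ) A) = MvPolynomial.eval y from
      RingHom.ext hφ] at this
    change φ (g (MvPolynomial.X i)) = _ / _
    rw [eq_div_iff (hne y hy), mul_comm, eval_map]
    exact this
  have hpts : ∀ q ∈ RootCover.cover P h, ∃ φ : A →ₐ[ℂ] ℂ,
      (∀ p, φ (algebraMap (MvPolynomial (Fin d) ℂ) A p) = MvPolynomial.eval q.1 p) ∧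
      (fun i => φ (g (MvPolynomial.X i))) = Ψ q := by
    rintro ⟨y, r⟩ ⟨hy, hr⟩
    obtain ⟨φ, hφ, rfl⟩ := Alg.exists_algHom_of_root θ y r hr
    exact ⟨φ, hφ, hφΨ φ y hφ hy⟩
  refine ⟨d, P, h, Ψ, hgood, hirr, ?_, fun q hq => let ⟨φ, _, e⟩ := hpts q hq; ⟨φ, e⟩,
    ⟨algebraMap _ A h, (map_ne_zero_iff _ hι).2 hgood.h_ne, fun φ hφ => ?_⟩, ?_, ?_⟩
  · refine continuousOn_pi.2 fun i => ?_
    exact (Alg.continuous_eval_fibrePoly (Q i)).continuousOn.div
      ((MvPolynomial.continuous_eval c₀).comp continuous_fst).continuousOn fun q hq => hne _ hq.1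
  · let y : Fin d → ℂ := fun i => φ (ι (MvPolynomial.X i))
    have hy : ∀ p, φ (algebraMap (MvPolynomial (Fin d) ℂ) A p) = MvPolynomial.eval y p := fun p => by
      have : φ.comp ι = MvPolynomial.aeval y := MvPolynomial.aeval_unique _
      change φ (ι p) = _
      simpa [MvPolynomial.aeval_eq_eval] using
        congrArg (fun χ : MvPolynomial (Fin d) ℂ →ₐ[ℂ] ℂ => χ p) this
    have hyb : y ∈ RootCover.base h := fun h0 => hφ (by rw [hy, h0])
    exact ⟨(y, φ θ), ⟨hyb, Alg.isRoot_fibrePoly_of_aeval_eq_zero (φ := φ.toRingHom) (minpoly.aeval _ _) hy⟩,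
      hφΨ φ y hy hyb⟩
  · intro p a b z₀ r hr hev
    have hcoord : ∀ i, DifferentiableAt ℂ (fun z => Ψ (a + z • b, r z) i) z₀ := by
      intro i
      have hev' : ∀ q : MvPolynomial (Fin d) ℂ,
          DifferentiableAt ℂ (fun z : ℂ => MvPolynomial.eval (a + z • b) q) z₀ := by
        intro q
        induction q using MvPolynomial.induction_on with
        | C c => simp only [MvPolynomial.eval_C]; fun_prop
        | add p q hp hq => simp only [map_add]; exact hp.add hq
        | mul_X p j hp =>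
          simp only [map_mul, MvPolynomial.eval_X, Pi.add_apply, Pi.smul_apply, smul_eq_mul]
          exact hp.mul (by fun_prop)
      refine DifferentiableAt.div ?_ (hev' c₀) (hne _ hev.self_of_nhds.1)
      simp only [eval_map, eval₂_eq_sum, Polynomial.sum]
      exact DifferentiableAt.fun_sum fun j _ => (hev' _).mul (hr.pow j)
    induction p using MvPolynomial.induction_on with
    | C c => simp only [MvPolynomial.eval_C]; fun_prop
    | add p q hp hq => simp only [map_add]; exact hp.add hq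
    | mul_X p j hp => simp only [map_mul, MvPolynomial.eval_X]; exact hp.mul (hcoord j)
  · intro p
    obtain ⟨T, hT, hTa⟩ := Algebra.IsIntegral.isIntegral (R := MvPolynomial (Fin d) ℂ) (g p)
    obtain ⟨C₀, D, hC, hb⟩ := RootCover.growth_root hT
    refine ⟨C₀, D, hC, fun q hq => ?_⟩
    obtain ⟨φ, hφ, he⟩ := hpts q hq
    have h1 : φ (g p) = MvPolynomial.eval (Ψ q) p := by
      have : φ.comp g = MvPolynomial.aeval (Ψ q) := MvPolynomial.algHom_ext fun i => by simp [← he]
      simpa [MvPolynomial.aeval_eq_eval] using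
        congrArg (fun χ : MvPolynomial (Fin n) ℂ →ₐ[ℂ] ℂ => χ p) this
    rw [← h1]
    exact hb q.1 _ (Alg.isRoot_fibrePoly_of_aeval_eq_zero (φ := φ.toRingHom)
      (by rw [aeval_def]; exact hTa) hφ)

end GrothLib.AnPts
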