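import Groth.Agent.Lib.AnPts.Normalization
import Mathlib.Analysis.Calculus.Deriv.Slope
import Mathlib.Analysis.Calculus.Deriv.Add
import Mathlib.Algebra.Polynomial.Derivative

/-!
# Roots of monic polynomials with varying coefficients
-/

open Polynomial Topology Filter

namespace GrothLib.AnPts

/-- divided difference of a polynomial of degree at most `n` -/
noncomputable def dd (P : ℂ[X]) (n : ℕ) (r r' : ℂ) : ℂ :=
  ∑ i ∈ Finset.range (n + 1), P.coeff i * ∑ j ∈ Finset.range i, r ^ j * r' ^ (i - 1 - j)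

lemma eval_sub_eval {P : ℂ[X]} {n : ℕ} (hn : P.natDegree ≤ n) (r r' : ℂ) :
    P.eval r - P.eval r' = dd P n r r' * (r - r') := by
  rw [eval_eq_sum_range' (Nat.lt_succ_of_le hn), eval_eq_sum_range' (Nat.lt_succ_of_le hn), dd,
    Finset.sum_mul, ← Finset.sum_sub_distrib]
  refine Finset.sum_congr rfl fun i _ => ?_
  rw [mul_assoc, geom_sum₂_mul, mul_sub]

lemma dd_self {P : ℂ[X]} {n : ℕ} (hn : P.natDegree ≤ n) (r : ℂ) :
    dd P n r r = P.derivative.eval r := by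
  rw [dd, derivative_eval, P.sum_over_range' (fun i => by simp) (n + 1) (Nat.lt_succ_of_le hn)]
  refine Finset.sum_congr rfl fun i _ => ?_
  rw [geom_sum₂_self]
  ring

variable {T : Type*} [TopologicalSpace T] {P : T → ℂ[X]} {n : ℕ} {t₀ : T} {r₀ : ℂ}

lemma continuousAt_eval (hdeg : ∀ᶠ t in 𝓝 t₀, (P t).natDegree ≤ n)
    (hc : ∀ i, ContinuousAt (fun t => (P t).coeff i) t₀) (r : ℂ) :
    ContinuousAt (fun t => (P t).eval r) t₀ := by
  have h : (fun t => ∑ i ∈ Finset.range (n + 1), (P t).coeff i * r ^ i) =ᶠ[𝓝 t₀]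
      fun t => (P t).eval r :=
    hdeg.mono fun t ht => (eval_eq_sum_range' (Nat.lt_succ_of_le ht) r).symm
  refine ContinuousAt.congr ?_ h
  exact tendsto_finsetSum _ fun i _ => (hc i).mul continuousAt_const

lemma tendsto_dd {ι : Type*} {l : Filter ι} {s : ι → T} {a b : ι → ℂ} {r r' : ℂ}
    (hc : ∀ i, ContinuousAt (fun t => (P t).coeff i) t₀) (hs : Tendsto s l (𝓝 t₀))
    (ha : Tendsto a l (𝓝 r)) (hb : Tendsto b l (𝓝 r')) :
    Tendsto (fun x => dd (P (s x)) n (a x) (b x)) l (𝓝 (dd (P t₀) n r r')) :=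
  tendsto_finsetSum _ fun i _ => ((hc i).tendsto.comp hs).mul
    (tendsto_finsetSum _ fun j _ => (ha.pow j).mul (hb.pow _))

/-- roots persist -/
theorem eventually_exists_root (hn : n ≠ 0)
    (hP : ∀ᶠ t in 𝓝 t₀, (P t).Monic ∧ (P t).natDegree = n)
    (hc : ∀ i, ContinuousAt (fun t => (P t).coeff i) t₀) (hr : (P t₀).IsRoot r₀) {ε : ℝ}
    (hε : 0 < ε) : ∀ᶠ t in 𝓝 t₀, ∃ r, (P t).IsRoot r ∧ dist r r₀ < ε := by
  have h := (continuousAt_eval (hP.mono fun t ht => ht.2.le) hc r₀).norm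
  rw [ContinuousAt, hr.eq_zero, norm_zero] at h
  filter_upwards [hP, h.eventually_lt_const (pow_pos hε n)] with t ht hlt
  obtain ⟨r, h1, h2⟩ := Alg.exists_root_norm_sub_pow_le ht.1 (ht.2 ▸ hn) r₀
  rw [ht.2] at h2
  exact ⟨r, h1, by rw [dist_eq_norm]; exact lt_of_pow_lt_pow_left₀ n hε.le (h2.trans_lt hlt)⟩

/-- a simple root is locally unique -/
theorem eventually_unique_root (hdeg : ∀ᶠ t in 𝓝 t₀, (P t).natDegree ≤ n)
    (hc : ∀ i, ContinuousAt (fun t => (P t).coeff i) t₀)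
    (hd : (P t₀).derivative.eval r₀ ≠ 0) :
    ∃ ε > 0, ∀ᶠ t in 𝓝 t₀, ∀ r r', (P t).IsRoot r → (P t).IsRoot r' →
      dist r r₀ < ε → dist r' r₀ < ε → r = r' := by
  have hd' : dd (P t₀) n r₀ r₀ ≠ 0 := by rwa [dd_self hdeg.self_of_nhds]
  have h : ∀ᶠ q in 𝓝 t₀ ×ˢ (𝓝 r₀ ×ˢ 𝓝 r₀), dd (P q.1) n q.2.1 q.2.2 ≠ 0 :=
    (tendsto_dd hc tendsto_fst (tendsto_fst.comp tendsto_snd)
      (tendsto_snd.comp tendsto_snd)).eventually_ne hd'
  obtain ⟨pa, ha, pb, hb, hab⟩ := eventually_prod_iff.1 h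
  rw [← nhds_prod_eq, Metric.eventually_nhds_iff] at hb
  obtain ⟨ε, hε, hb⟩ := hb
  refine ⟨ε, hε, ?_⟩
  filter_upwards [ha, hdeg] with t ht ht' r r' hr hr' h1 h2
  have h3 := hab ht (hb (y := (r, r')) (by rw [Prod.dist_eq]; exact max_lt h1 h2))
  have h4 := eval_sub_eval ht' r r'
  rw [hr.eq_zero, hr'.eq_zero, sub_zero] at h4
  exact sub_eq_zero.1 ((mul_eq_zero.1 h4.symm).resolve_left h3)

/-- a continuous simple root is differentiable -/
theorem differentiableAt_root {P : ℂ → ℂ[X]} {z₀ : ℂ} (hdeg : ∀ᶠ z in 𝓝 z₀, (P z).natDegree ≤ n)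
    (hc : ∀ i, DifferentiableAt ℂ (fun z => (P z).coeff i) z₀) {r : ℂ → ℂ}
    (hr : ∀ᶠ z in 𝓝 z₀, (P z).IsRoot (r z)) (hcont : ContinuousAt r z₀)
    (hd : (P z₀).derivative.eval (r z₀) ≠ 0) : DifferentiableAt ℂ r z₀ := by
  let h : ℂ → ℂ := fun z => ∑ i ∈ Finset.range (n + 1), (P z).coeff i * r z₀ ^ i
  have hh : DifferentiableAt ℂ h z₀ :=
    DifferentiableAt.fun_sum fun i _ => (hc i).mul_const _
  have hd' : dd (P z₀) n (r z₀) (r z₀) ≠ 0 := by rwa [dd_self hdeg.self_of_nhds]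
  have hD : Tendsto (fun z => dd (P z) n (r z) (r z₀)) (𝓝 z₀) (𝓝 (dd (P z₀) n (r z₀) (r z₀))) :=
    tendsto_dd (fun i => (hc i).continuousAt) tendsto_id hcont tendsto_const_nhds
  refine HasDerivAt.differentiableAt (f' := -deriv h z₀ / dd (P z₀) n (r z₀) (r z₀)) ?_
  rw [hasDerivAt_iff_tendsto_slope]
  refine Tendsto.congr' ?_ ((hasDerivAt_iff_tendsto_slope.1 hh.hasDerivAt).neg.div
    (hD.mono_left nhdsWithin_le_nhds) hd')
  filter_upwards [nhdsWithin_le_nhds hdeg, nhdsWithin_le_nhds hr,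
    nhdsWithin_le_nhds (hD.eventually_ne hd'), self_mem_nhdsWithin] with z hz hzr hne hzz
  have hzz' : z - z₀ ≠ 0 := sub_ne_zero.2 hzz
  have e := eval_sub_eval hz (r z) (r z₀)
  rw [hzr.eq_zero, eval_eq_sum_range' (Nat.lt_succ_of_le hz) (r z₀)] at e
  have e0 : h z₀ = 0 := by
    simp only [h]
    rw [← eval_eq_sum_range' (Nat.lt_succ_of_le hdeg.self_of_nhds) (r z₀)]
    exact hr.self_of_nhds
  change -slope h z₀ z / dd (P z) n (r z) (r z₀) = slope r z₀ z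
  rw [slope_def_field, slope_def_field, e0, sub_zero, div_eq_iff hne, neg_div',
    div_mul_eq_mul_div, div_left_inj' hzz']
  change 0 - h z = _ at e
  linear_combination e

end GrothLib.AnPts
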