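import Groth.Agent.Lib.AnPts.Constr
import Groth.Agent.Lib.AnPts.Roots
import Groth.Prelude.Def_AnEps
import Mathlib.AlgebraicGeometry.Morphisms.Etale
import Mathlib.RingTheory.Unramified.LocalStructure

/-!
# Etale morphisms give local homeomorphisms
-/

open AlgebraicGeometry CategoryTheory TopologicalSpace Opposite Topology Filter Polynomial

namespace GrothLib.AnPts

variable {X Y : Scheme.{0}} [X.Over An.SC] [Y.Over An.SC]

/-- a standard etale chart -/
theorem exists_standardEtale_chart (g : X ⟶ Y) [Etale g] (p : ↥X) :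
    ∃ (V : Y.Opens) (U : X.Opens) (e : U ≤ g ⁻¹ᵁ V), IsAffineOpen V ∧ IsAffineOpen U ∧ p ∈ U ∧
      letI := (g.appLE V U e).hom.toAlgebra
      Algebra.IsStandardEtale Γ(Y, V) Γ(X, U) := by
  obtain ⟨V, hV, hpV, -⟩ := exists_isAffineOpen_mem_and_subset (Opens.mem_top (g.base p))
  obtain ⟨U, hU, hpU, hUV⟩ := exists_isAffineOpen_mem_and_subset (U := g ⁻¹ᵁ V) (x := p) hpV
  letI : Algebra Γ(Y, V) Γ(X, U) := (g.appLE V U hUV).hom.toAlgebra
  haveI : Algebra.Etale Γ(Y, V) Γ(X, U) := g.etale_appLE hV hU hUV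
  let Q : Ideal Γ(X, U) := RingHom.ker (X.evaluation U p hpU).hom
  haveI : Q.IsPrime := RingHom.ker_isPrime _
  obtain ⟨f, hfQ, hf⟩ := Algebra.IsEtaleAt.exists_isStandardEtale (R := Γ(Y, V)) Q
  have hpD : p ∈ X.basicOpen f := by
    by_contra h
    exact hfQ ((X.evaluation_eq_zero_iff_notMem_basicOpen p hpU f).2 h)
  have e : X.basicOpen f ≤ g ⁻¹ᵁ V := (X.basicOpen_le f).trans hUV
  refine ⟨V, X.basicOpen f, e, hV, hU.basicOpen f, hpD, ?_⟩
  letI : Algebra Γ(Y, V) Γ(X, X.basicOpen f) := (g.appLE V (X.basicOpen f) e).hom.toAlgebra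
  haveI : IsScalarTower Γ(Y, V) Γ(X, U) Γ(X, X.basicOpen f) := by
    refine IsScalarTower.of_algebraMap_eq fun a => ?_
    change g.appLE V (X.basicOpen f) e a =
      X.presheaf.map (homOfLE (X.basicOpen_le f)).op (g.appLE V U hUV a)
    rw [← CommRingCat.comp_apply, Scheme.Hom.appLE_map]
  haveI := hU.isLocalization_basicOpen f
  exact Algebra.IsStandardEtale.of_equiv
    ((IsLocalization.algEquiv (Submonoid.powers f) (Localization.Away f)
      Γ(X, X.basicOpen f)).restrictScalars Γ(Y, V))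

theorem isLocalHomeomorph_map_of_etale [LocallyOfFiniteType (Y ↘ An.SC)] (g : X ⟶ Y)
    [g.IsOver An.SC] [Etale g] : IsLocalHomeomorph (An.Pts.map g) := by
  haveI : LocallyOfFiniteType g := inferInstance
  haveI : LocallyOfFiniteType (X ↘ An.SC) := by rw [← comp_over g]; infer_instance
  rw [isLocalHomeomorph_iff_isOpenEmbedding_restrict]
  intro x
  obtain ⟨V, U, e, hV, hU, hxU, hse⟩ := exists_standardEtale_chart g x.pt
  letI : Algebra Γ(Y, V) Γ(X, U) := (g.appLE V U e).hom.toAlgebra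
  obtain ⟨⟨P, θ, hθ, hbij⟩⟩ := hse.nonempty_standardEtalePresentation
  have hgy : ∀ {z : An.Pts X}, z.pt ∈ U → (An.Pts.map g z).pt ∈ V := fun hz => by
    rw [An.Pts.pt_map]; exact e hz
  have hev : ∀ (z : An.Pts X) (hz : z.pt ∈ U) (a : Γ(Y, V)),
      evHom z U hz (algebraMap Γ(Y, V) Γ(X, U) a) = evHom (An.Pts.map g z) V (hgy hz) a := by
    intro z hz a
    rw [evHom_apply, evHom_apply, An.Pts.ev_map]
    change z.ev U hz (X.presheaf.map (homOfLE e).op (g.app V a)) = _
    exact ev_res z e hz _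
  -- the fibre polynomials
  let F : An.Pts Y → Γ(Y, V)[X] → ℂ[X] := fun y q =>
    ∑ i ∈ Finset.range (q.natDegree + 1), monomial i (evZ V (q.coeff i) y)
  have hF : ∀ (y : An.Pts Y) (hy : y.pt ∈ V) (q : Γ(Y, V)[X]), F y q = q.map (evHom y V hy) := by
    intro y hy q
    conv_rhs => rw [q.as_sum_range, Polynomial.map_sum]
    simp only [F, evZ_of_mem _ hy, Polynomial.map_monomial, evHom_apply]
  have hFev : ∀ (z : An.Pts X) (hz : z.pt ∈ U) (q : Γ(Y, V)[X]),
      evHom z U hz (aeval θ q) = (F (An.Pts.map g z) q).eval (evHom z U hz θ) := by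
    intro z hz q
    rw [hF _ (hgy hz), eval_map, aeval_def, hom_eval₂]
    congr 1
    exact RingHom.ext (hev z hz)
  have hFc : ∀ (q : Γ(Y, V)[X]) {y : An.Pts Y}, y.pt ∈ V → ∀ i,
      ContinuousAt (fun y => (F y q).coeff i) y := by
    intro q y hy i
    simp only [F, finsetSum_coeff, coeff_monomial]
    refine tendsto_finsetSum _ fun j _ => ?_
    by_cases hji : j = i
    · simp only [hji, if_true]
      exact tendsto_evZ_nhds _ hy
    · simp only [if_neg hji]
      exact tendsto_const_nhds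
  have hroot : ∀ (z : An.Pts X) (hz : z.pt ∈ U),
      (F (An.Pts.map g z) P.f).IsRoot (evZ U θ z) := fun z hz => by
    rw [evZ_of_mem θ hz, ← evHom_apply, IsRoot, ← hFev z hz, hθ.1, map_zero]
  have hFf : ∀ (y : An.Pts Y), y.pt ∈ V →
      (F y P.f).Monic ∧ (F y P.f).natDegree = P.f.natDegree := fun y hy => by
    rw [hF y hy]; exact ⟨P.monic_f.map _, P.monic_f.natDegree_map _⟩
  have hdeg : P.f.natDegree ≠ 0 := by
    intro h0
    have h1 := hθ.1
    rw [P.monic_f.natDegree_eq_zero.1 h0, map_one] at h1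
    have := congrArg (evHom x U hxU) h1
    rw [map_one, map_zero] at this
    exact one_ne_zero this
  let f' := P.lift θ hθ
  -- points are determined by the image and the root
  have hinj : ∀ (z z' : An.Pts X) (hz : z.pt ∈ U) (hz' : z'.pt ∈ U),
      An.Pts.map g z = An.Pts.map g z' → evZ U θ z = evZ U θ z' → z = z' := by
    intro z z' hz hz' h1 h2
    refine ext_ev hU hz hz' fun a => ?_
    obtain ⟨a, rfl⟩ := hbij.2 a
    letI := (evHom (An.Pts.map g z) V (hgy hz)).toAlgebra
    let φ : P.Ring →ₐ[Γ(Y, V)] ℂ :=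
      { (evHom z U hz).comp f'.toRingHom with
        commutes' := fun c => by
          change evHom z U hz (f' (algebraMap _ _ c)) = _
          rw [AlgHom.commutes, hev z hz]; rfl }
    let φ' : P.Ring →ₐ[Γ(Y, V)] ℂ :=
      { (evHom z' U hz').comp f'.toRingHom with
        commutes' := fun c => by
          change evHom z' U hz' (f' (algebraMap _ _ c)) = _
          rw [AlgHom.commutes, hev z' hz']
          simp only [RingHom.algebraMap_toAlgebra, h1]
          }
    have : φ = φ' := StandardEtalePair.hom_ext (by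
      change evHom z U hz (f' P.X) = evHom z' U hz' (f' P.X)
      simp only [f', StandardEtalePair.lift_X]
      rw [evZ_of_mem θ hz, evZ_of_mem θ hz'] at h2
      exact h2)
    exact congrArg (fun k : P.Ring →ₐ[Γ(Y, V)] ℂ => k a) this
  -- openness at every point of the chart
  have hopen : ∀ z : An.Pts X, z.pt ∈ U → 𝓝 (An.Pts.map g z) ≤ (𝓝 z).map (An.Pts.map g) := by
    intro z hz
    rw [le_map_iff]
    intro N hN
    let y₀ := An.Pts.map g z
    -- the set of nearby (image, root) pairs is a neighbourhood of z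
    have hl : (comap (fun w : An.Pts X => (An.Pts.map g w, evZ U θ w))
        (𝓝 (y₀, evZ U θ z)) ⊓ 𝓟 {w | w.pt ∈ U}) ≤ 𝓝 z := by
      refine le_nhds_of_generators hU hz (mem_inf_of_right (mem_principal_self _)) Set.univ
        (by simp) fun a _ => ?_
      obtain ⟨a, rfl⟩ := hbij.2 a
      obtain ⟨b, rfl⟩ := Ideal.Quotient.mk_surjective a
      set l := (comap (fun w : An.Pts X => (An.Pts.map g w, evZ U θ w))
        (𝓝 (y₀, evZ U θ z)) ⊓ 𝓟 {w | w.pt ∈ U})
      have hlU : ∀ᶠ w in l, w.pt ∈ U := mem_inf_of_right (mem_principal_self _)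
      have t1 : Tendsto (An.Pts.map g) l (𝓝 y₀) :=
        (continuous_fst.tendsto _).comp (tendsto_comap.mono_left inf_le_left)
      have t2 : Tendsto (evZ U θ) l (𝓝 (evZ U θ z)) :=
        (continuous_snd.tendsto (y₀, evZ U θ z)).comp (tendsto_comap.mono_left inf_le_left)
      have t3 : ∀ q : Γ(Y, V)[X], Tendsto (fun w => evZ U (aeval θ q) w) l
          (𝓝 (evZ U (aeval θ q) z)) := by
        intro q
        have he : ∀ (w : An.Pts X), w.pt ∈ U → evZ U (aeval θ q) w =
            ∑ i ∈ Finset.range (q.natDegree + 1),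
              (F (An.Pts.map g w) q).coeff i * evZ U θ w ^ i := fun w hw => by
          rw [evZ_of_mem _ hw, ← evHom_apply, hFev w hw, evZ_of_mem θ hw, evHom_apply]
          refine eval_eq_sum_range' (Nat.lt_succ_of_le ?_) _
          rw [hF _ (hgy hw)]
          exact natDegree_map_le
        rw [he z hz]
        exact (tendsto_finsetSum _ fun i _ => ((hFc q (hgy hz) i).tendsto.comp t1).mul (t2.pow i)).congr'
          (hlU.mono fun w hw => (he w hw).symm)
      have hgz : evZ U (aeval θ P.g) z ≠ 0 := by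
        rw [evZ_of_mem _ hz, ← evHom_apply]
        exact (hθ.2.map (evHom z U hz)).ne_zero
      have he : ∀ w : An.Pts X, w.pt ∈ U → evZ U (f' (Ideal.Quotient.mk _ b)) w =
          ∑ j ∈ Finset.range (b.natDegree + 1),
            evZ U (aeval θ (b.coeff j)) w * (evZ U (aeval θ P.g) w)⁻¹ ^ j := fun w hw => by
        have : f' (Ideal.Quotient.mk _ b) = aevalAeval θ (↑(hθ.2.unit⁻¹) : Γ(X, U)) b := rfl
        conv_lhs => rw [this, b.as_sum_range_C_mul_X_pow]
        simp only [map_sum, map_mul, map_pow, evZ_of_mem _ hw, ← evHom_apply]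
        refine Finset.sum_congr rfl fun j _ => ?_
        congr 1
        · simp [aevalAeval]
        · congr 1
          rw [show (aevalAeval θ (↑(hθ.2.unit⁻¹) : Γ(X, U)) (Polynomial.X : Γ(Y, V)[X][X])) =
              (↑(hθ.2.unit⁻¹) : Γ(X, U)) by simp [aevalAeval]]
          refine eq_inv_of_mul_eq_one_left ?_
          rw [← map_mul, IsUnit.val_inv_mul, map_one]
      rw [he z hz]
      exact (tendsto_finsetSum _ fun j _ => (t3 _).mul (((t3 P.g).inv₀ hgz).pow j)).congr'
        (hlU.mono fun w hw => (he w hw).symm)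
    obtain ⟨B, hB, C, hC, hBC⟩ := mem_inf_iff_superset.1 (hl hN)
    obtain ⟨D, hD, hDB⟩ := mem_comap.1 hB
    rw [mem_principal] at hC
    rw [nhds_prod_eq, mem_prod_iff] at hD
    obtain ⟨A, hA, R, hR, hAR⟩ := hD
    obtain ⟨ε, hε, hεR⟩ := Metric.mem_nhds_iff.1 hR
    have hVn : ∀ᶠ y in 𝓝 y₀, y.pt ∈ V := eventually_mem_nhds (hgy hz)
    have hgn : ∀ᶠ q in 𝓝 (y₀, evZ U θ z), (F q.1 P.g).eval q.2 ≠ 0 := by
      have hgz : (F y₀ P.g).eval (evZ U θ z) ≠ 0 := by
        rw [evZ_of_mem θ hz, ← evHom_apply, ← hFev z hz]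
        exact (hθ.2.map (evHom z U hz)).ne_zero
      have hsum : ∀ q : An.Pts Y × ℂ, q.1.pt ∈ V → (F q.1 P.g).eval q.2 =
          ∑ i ∈ Finset.range (P.g.natDegree + 1), (F q.1 P.g).coeff i * q.2 ^ i := fun q hq =>
        eval_eq_sum_range' (Nat.lt_succ_of_le (by rw [hF q.1 hq]; exact natDegree_map_le)) _
      have ht : Tendsto (fun q : An.Pts Y × ℂ => ∑ i ∈ Finset.range (P.g.natDegree + 1),
          (F q.1 P.g).coeff i * q.2 ^ i) (𝓝 (y₀, evZ U θ z))
          (𝓝 (∑ i ∈ Finset.range (P.g.natDegree + 1),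
            (F y₀ P.g).coeff i * evZ U θ z ^ i)) :=
        tendsto_finsetSum _ fun i _ => ((hFc P.g (hgy hz) i).tendsto.comp (continuous_fst.tendsto _)).mul
          ((continuous_snd.tendsto _).pow i)
      rw [← hsum (y₀, evZ U θ z) (hgy hz)] at ht
      filter_upwards [ht.eventually_ne hgz, (continuous_fst.tendsto _).eventually hVn] with q hq hqV
      rwa [hsum q hqV]
    rw [nhds_prod_eq, eventually_prod_iff] at hgn
    obtain ⟨pa, hpa, pb, hpb, hpab⟩ := hgn
    obtain ⟨ε', hε', hpb'⟩ := Metric.eventually_nhds_iff.1 hpb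
    filter_upwards [hA, hVn, hpa, eventually_exists_root (P := fun y => F y P.f) hdeg
      (hVn.mono hFf) (fun i => hFc P.f (hgy hz) i) (hroot z hz) (lt_min hε hε')] with y hyA hyV hypa hyr
    obtain ⟨r, hr, hrd⟩ := hyr
    letI := (evHom y V hyV).toAlgebra
    have hmap : P.HasMap r := by
      constructor
      · rw [aeval_def, ← eval_map, RingHom.algebraMap_toAlgebra, ← hF y hyV]
        exact hr
      · rw [isUnit_iff_ne_zero, aeval_def, ← eval_map, RingHom.algebraMap_toAlgebra, ← hF y hyV]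
        exact hpab hypa (hpb' (hrd.trans_le (min_le_right _ _)))
    let E : P.Ring ≃ₐ[Γ(Y, V)] Γ(X, U) := AlgEquiv.ofBijective f' hbij
    let φ : Γ(X, U) →ₐ[Γ(Y, V)] ℂ := (P.lift r hmap).comp E.symm.toAlgHom
    have hφ : ∀ a, φ (algebraMap Γ(Y, V) Γ(X, U) a) = evHom y V hyV a := fun a => φ.commutes a
    have hstr : (φ : Γ(X, U) →+* ℂ).comp (strU U) = RingHom.id ℂ := RingHom.ext fun c => by
      have : strU (X := X) U c = algebraMap Γ(Y, V) Γ(X, U) (strU V c) := by
        change X.presheaf.map (homOfLE le_top).op (An.strHom X c) =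
          (g.appLE V U e) (Y.presheaf.map (homOfLE le_top).op (An.strHom Y c))
        rw [← CommRingCat.comp_apply (Y.presheaf.map _), Scheme.Hom.map_appLE]
        simp only [An.strHom, RingHom.comp_apply]
        rw [show (X ↘ An.SC).appTop = (Y ↘ An.SC).appTop ≫ g.appTop by
          rw [← comp_over g (S := An.SC)]; rfl]
        rfl
      change φ (strU U c) = c
      rw [this, hφ, evHom_apply, ev_strU]
    obtain ⟨w, hw, he⟩ := exists_of_ringHom hU (φ : Γ(X, U) →+* ℂ) hstr
    have hwy : An.Pts.map g w = y := ext_ev hV (hgy hw) hyV fun a => by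
      rw [← evHom_apply, ← hev w hw, evHom_apply, he]
      exact hφ a
    have hwθ : evZ U θ w = r := by
      rw [evZ_of_mem θ hw, he]
      change (P.lift r hmap) (E.symm θ) = r
      have hEθ : E P.X = θ := StandardEtalePair.lift_X P θ hθ
      rw [show E.symm θ = P.X by rw [← hEθ]; exact E.symm_apply_apply _]
      exact StandardEtalePair.lift_X _ _ _
    refine ⟨w, hBC ⟨hDB ?_, hC hw⟩, hwy⟩
    refine hAR ?_
    simp only [hwy, hwθ]
    exact ⟨hyA, hεR (hrd.trans_le (min_le_left _ _))⟩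
  -- injectivity near x
  have hsimple : (F (An.Pts.map g x) P.f).derivative.eval (evZ U θ x) ≠ 0 := by
    rw [hF _ (hgy hxU), Polynomial.derivative_map, ← hF _ (hgy hxU), evZ_of_mem θ hxU, ← evHom_apply,
      ← hFev x hxU]
    exact (hθ.isUnit_derivative_f.map (evHom x U hxU)).ne_zero
  obtain ⟨ε, hε, huniq⟩ := eventually_unique_root (P := fun y => F y P.f) (n := P.f.natDegree)
    ((eventually_mem_nhds (hgy hxU)).mono fun y hy => (hFf y hy).2.le)
    (fun i => hFc P.f (hgy hxU) i) hsimple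
  have hN : ∀ᶠ w in 𝓝 x, w.pt ∈ U ∧ dist (evZ U θ w) (evZ U θ x) < ε ∧
      ∀ r r', (F (An.Pts.map g w) P.f).IsRoot r → (F (An.Pts.map g w) P.f).IsRoot r' →
        dist r (evZ U θ x) < ε → dist r' (evZ U θ x) < ε → r = r' :=
    (eventually_mem_nhds hxU).and ((((tendsto_evZ_nhds θ hxU).eventually
      (Metric.ball_mem_nhds _ hε))).and (((An.Pts.continuous_map g).tendsto x).eventually huniq))
  obtain ⟨N, hNsub, hNo, hxN⟩ := mem_nhds_iff.1 hN
  refine ⟨N, hNo.mem_nhds hxN, IsOpenEmbedding.of_continuous_injective_isOpenMap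
    ((An.Pts.continuous_map g).comp continuous_subtype_val) ?_ ?_⟩
  · intro a b hab
    obtain ⟨ha, ha', hau⟩ := hNsub a.2
    obtain ⟨hb, hb', -⟩ := hNsub b.2
    have hab' : An.Pts.map g a.1 = An.Pts.map g b.1 := hab
    exact Subtype.ext (hinj _ _ ha hb hab' (hau _ _ (hroot _ ha) (hab' ▸ hroot _ hb) ha' hb'))
  · refine isOpenMap_iff_nhds_le.2 fun a => ?_
    rw [show N.domRestrict (An.Pts.map g) = An.Pts.map g ∘ Subtype.val from rfl, ← Filter.map_map,
      map_nhds_subtype_coe_eq_nhds a.2 (hNo.mem_nhds a.2)]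
    exact hopen a.1 (hNsub a.2).1

end GrothLib.AnPts
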