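import Groth.Agent.Lib.AnPts.Pullback
import Groth.Agent.Lib.AnPts.Constr
import Groth.Agent.Lib.AnPts.Etale
import Groth.Agent.Lib.EtSite.Points
import Groth.Prelude.Def_AnEps
import Mathlib.CategoryTheory.Sites.CoverPreserving
import Mathlib.CategoryTheory.Functor.Flat
import Mathlib.Algebra.Category.Grp.AB

/-!
# The morphism of sites from the classical to the etale site
-/

open AlgebraicGeometry CategoryTheory CategoryTheory.Limits TopologicalSpace Opposite Topology

namespace GrothLib.AnPts

/-- ℂ-points of a cartesian square over ℂ -/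
theorem isHomeomorph_of_isPullback {P X Y S : Scheme.{0}} [P.Over An.SC] [X.Over An.SC]
    [Y.Over An.SC] [S.Over An.SC] {fst : P ⟶ X} {snd : P ⟶ Y} {f : X ⟶ S} {g : Y ⟶ S}
    [fst.IsOver An.SC] [snd.IsOver An.SC] [f.IsOver An.SC] [g.IsOver An.SC]
    (h : IsPullback fst snd f g)
    (w : ∀ z : An.Pts P, An.Pts.map f (An.Pts.map fst z) = An.Pts.map g (An.Pts.map snd z)) :
    IsHomeomorph (fun z : An.Pts P => (⟨(An.Pts.map fst z, An.Pts.map snd z), w z⟩ :
      {q : An.Pts X × An.Pts Y // An.Pts.map f q.1 = An.Pts.map g q.2})) := by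
  haveI : h.isoPullback.hom.IsOver An.SC := ⟨by
    change h.isoPullback.hom ≫ pullback.fst f g ≫ (X ↘ An.SC) = _
    rw [IsPullback.isoPullback_hom_fst_assoc, comp_over fst]⟩
  haveI : h.isoPullback.inv.IsOver An.SC := ⟨by
    rw [Iso.inv_comp_eq, comp_over h.isoPullback.hom]⟩
  let e : An.Pts P ≃ₜ An.Pts (pullback f g) :=
    { toFun := An.Pts.map h.isoPullback.hom
      invFun := An.Pts.map h.isoPullback.inv
      left_inv := fun z => Subtype.ext (by simp)
      right_inv := fun z => Subtype.ext (by simp)
      continuous_toFun := An.Pts.continuous_map _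
      continuous_invFun := An.Pts.continuous_map _ }
  have : (fun z : An.Pts P => (⟨(An.Pts.map fst z, An.Pts.map snd z), w z⟩ :
      {q : An.Pts X × An.Pts Y // An.Pts.map f q.1 = An.Pts.map g q.2})) = prodMap f g ∘ e := by
    funext z
    refine Subtype.ext (Prod.ext (Subtype.ext ?_) (Subtype.ext ?_))
    · change z.1 ≫ fst = (z.1 ≫ h.isoPullback.hom) ≫ pullback.fst f g
      rw [Category.assoc, IsPullback.isoPullback_hom_fst]
    · change z.1 ≫ snd = (z.1 ≫ h.isoPullback.hom) ≫ pullback.snd f g
      rw [Category.assoc, IsPullback.isoPullback_hom_snd]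
  rw [this]
  exact (isHomeomorph_prodMap f g).comp e.isHomeomorph

variable (X : Scheme.{0}) [X.Over An.SC] [LocallyOfFiniteType (X ↘ An.SC)] [Fact An.EtaleLH]

/-- a sufficient condition for a limit in the classical site -/
noncomputable def isTerminalEpsTop : IsTerminal ((An.eps X).obj (EtCoh.top X)) :=
  IsTerminal.ofIso (An.Cl.selfIsTerminal (An.Pts X)) (An.epsTopIso X).symm

theorem eps_preserves_pullback {U V W : X.Etale} (f : U ⟶ W) (g : V ⟶ W) :
    PreservesLimit (cospan f g) (An.eps X) := by
  have hP : IsPullback (pullback.fst f g) (pullback.snd f g) f g := IsPullback.of_hasPullback f g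
  apply +allowSynthFailures preservesLimit_of_preserves_limit_cone hP.isLimit
  have hS : IsPullback (pullback.fst f g).left (pullback.snd f g).left f.left g.left :=
    hP.map (MorphismProperty.Over.forget _ ⊤ X ⋙ CategoryTheory.Over.forget X)
  have wz : ∀ z : An.Pts (pullback f g : X.Etale).left,
      An.Pts.map f.left (An.Pts.map (pullback.fst f g).left z) =
        An.Pts.map g.left (An.Pts.map (pullback.snd f g).left z) := fun z => Subtype.ext (by
    change (z.1 ≫ (pullback.fst f g).left) ≫ f.left = (z.1 ≫ (pullback.snd f g).left) ≫ g.left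
    rw [Category.assoc, Category.assoc, hS.w])
  have hh := isHomeomorph_of_isPullback hS wz
  refine (isLimitMapConePullbackConeEquiv (An.eps X) hP.w).symm ?_
  refine PullbackCone.IsLimit.mk _ (fun s => ?_) (fun s => ?_) (fun s => ?_) (fun s m h1 h2 => ?_)
  · refine ⟨fun a => hh.homeomorph.symm ⟨(s.fst.toFun a, s.snd.toFun a), ?_⟩, ?_, fun a => ?_⟩
    · exact congrArg (fun k : s.pt ⟶ (An.eps X).obj W => k.toFun a) s.condition
    · exact hh.homeomorph.symm.continuous.comp
        ((s.fst.continuous.prodMk s.snd.continuous).subtype_mk _)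
    · have e := hh.homeomorph.apply_symm_apply ⟨(s.fst.toFun a, s.snd.toFun a),
        congrArg (fun k : s.pt ⟶ (An.eps X).obj W => k.toFun a) s.condition⟩
      rw [← ((An.eps X).map (pullback.fst f g)).over]
      have e1 := congrArg (fun q => q.1.1) e
      exact (congrArg ((An.eps X).obj U).p e1).trans (s.fst.over a)
  · refine An.Cl.hom_ext (funext fun a => ?_)
    exact congrArg (fun q => q.1.1) (hh.homeomorph.apply_symm_apply _)
  · refine An.Cl.hom_ext (funext fun a => ?_)
    exact congrArg (fun q => q.1.2) (hh.homeomorph.apply_symm_apply _)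
  · refine An.Cl.hom_ext (funext fun a => ?_)
    refine hh.homeomorph.eq_symm_apply.2 ?_
    exact Subtype.ext (Prod.ext (congrArg (fun k : s.pt ⟶ _ => k.toFun a) h1)
      (congrArg (fun k : s.pt ⟶ _ => k.toFun a) h2))

theorem eps_preservesFiniteLimits : PreservesFiniteLimits (An.eps X) := by
  haveI : PreservesLimitsOfShape WalkingCospan (An.eps X) := ⟨fun {K} => by
    haveI := eps_preserves_pullback X (K.map WalkingCospan.Hom.inl) (K.map WalkingCospan.Hom.inr)
    exact preservesLimit_of_iso_diagram (An.eps X) (diagramIsoCospan K).symm⟩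
  haveI : PreservesLimit (Functor.empty.{0} X.Etale) (An.eps X) :=
    preservesLimit_of_preserves_limit_cone (EtCore.topIsTerminal X)
      ((isLimitMapConeEmptyConeEquiv _ _).symm (isTerminalEpsTop X))
  haveI := preservesLimitsOfShape_pempty_of_preservesTerminal (An.eps X)
  exact preservesFiniteLimits_of_preservesTerminal_and_pullbacks (An.eps X)

theorem eps_coverPreserving :
    CoverPreserving X.smallEtaleTopology (An.Cl.topology (An.Pts X)) (An.eps X) := by
  refine ⟨fun {U} S hS a => ?_⟩
  obtain ⟨V, g, v, hg, hv⟩ := (GrothLib.EtSite.mem_topology_iff S).1 hS a.pt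
  haveI : LocallyOfFiniteType (U.left ↘ An.SC) := by
    haveI : Etale (U.left ↘ X) := U.prop
    exact inferInstanceAs (LocallyOfFiniteType ((U.left ↘ X) ≫ (X ↘ An.SC)))
  haveI : LocallyOfFiniteType (V.left ↘ An.SC) := by
    haveI : Etale (V.left ↘ X) := V.prop
    exact inferInstanceAs (LocallyOfFiniteType ((V.left ↘ X) ≫ (X ↘ An.SC)))
  obtain ⟨b, hb⟩ : a ∈ Set.range (An.Pts.map g.left) := by
    rw [range_map_of_range_closedPoints]
    exact ⟨v, hv⟩
  haveI : Etale g.left := inferInstance
  have hl : IsLocalHomeomorph (An.Pts.map g.left) := (Fact.out : An.EtaleLH) V.left U.left g.left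
  obtain ⟨N, hN, hNe⟩ := isLocalHomeomorph_iff_isOpenEmbedding_restrict.1 hl b
  obtain ⟨N', hN'N, hN'o, hbN'⟩ := mem_nhds_iff.1 hN
  let A := (An.eps X).obj V
  refine ⟨A.restrictOpen N' hN'o, A.restrictOpenι N' hN'o ≫ (An.eps X).map g,
    Sieve.downward_closed _ (Sieve.image_mem_functorPushforward _ _ hg) _, ?_, ⟨b, hbN'⟩, hb⟩
  exact hNe.comp (IsOpenEmbedding.inclusion hN'N (hN'o.preimage continuous_subtype_val))

theorem eps_representablyFlat : RepresentablyFlat (An.eps X) :=
  haveI := eps_preservesFiniteLimits X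
  flat_of_preservesFiniteLimits _

theorem epsCont : An.EpsCont X :=
  haveI := eps_representablyFlat X
  Functor.isContinuous_of_coverPreserving (compatiblePreservingOfFlat _ _) (eps_coverPreserving X)

section Lan

set_option backward.defeqAttrib.useBackward true in
set_option backward.isDefEq.respectTransparency false in
/-- evaluation of a left Kan extension as a colimit, in any universe -/
noncomputable def lanEvalIso {C D E : Type*} [Category* C] [Category* D] [Category* E] (F : C ⥤ D)
    [∀ X : D, HasColimitsOfShape (CostructuredArrow F X) E] (X : D) :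
    F.lan ⋙ (evaluation D E).obj X ≅
      (Functor.whiskeringLeft _ _ E).obj (CostructuredArrow.proj F X) ⋙ colim :=
  NatIso.ofComponents (fun G =>
    IsColimit.coconePointUniqueUpToIso
    (Functor.isPointwiseLeftKanExtensionLeftKanExtensionUnit F G X)
    (colimit.isColimit _)) (fun {G₁ G₂} φ => by
      apply (Functor.isPointwiseLeftKanExtensionLeftKanExtensionUnit F G₁ X).hom_ext
      intro T
      have h₁ := fun (G : C ⥤ E) => IsColimit.comp_coconePointUniqueUpToIso_hom
        (Functor.isPointwiseLeftKanExtensionLeftKanExtensionUnit F G X) (colimit.isColimit _) T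
      have h₂ := congr_app (F.lanUnit.naturality φ) T.left
      dsimp at h₁ h₂ ⊢
      simp only [Category.assoc] at h₁ ⊢
      simp only [Functor.lan, Functor.lanUnit] at h₂ ⊢
      rw [reassoc_of% h₁, NatTrans.naturality_assoc, ← reassoc_of% h₂, h₁,
        ι_colimMap, Functor.whiskerLeft_app]
      rfl)

instance ab5_zero_one : AB5OfSize.{0, 1} AddCommGrpCat.{1} := by
  have : AB5OfSize.{1, 1} AddCommGrpCat.{1} := inferInstanceAs (AB5 AddCommGrpCat.{1})
  exact AB5OfSize_of_univLE.{0, 1, 1, 1} AddCommGrpCat.{1}

/-- left Kan extension along a flat functor between large categories with small hom sets -/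
theorem lan_preservesFiniteLimits {C D : Type 1} [Category.{0} C] [Category.{0} D] (F : C ⥤ D)
    [RepresentablyFlat F] :
    PreservesFiniteLimits (F.op.lan : (Cᵒᵖ ⥤ AddCommGrpCat.{1}) ⥤ _) := by
  refine ⟨fun J _ _ => preservesLimitsOfShape_of_evaluation _ J fun K => ?_⟩
  have : IsFiltered (CostructuredArrow F.op K) :=
    IsFiltered.of_equivalence (structuredArrowOpEquivalence F (unop K))
  have : PreservesFiniteLimits (colim (J := CostructuredArrow F.op K) (C := AddCommGrpCat.{1})) :=
    HasExactColimitsOfShape.preservesFiniteLimits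
  exact preservesLimitsOfShape_of_natIso (lanEvalIso F.op K).symm

end Lan

theorem epsPull_preservesFiniteLimits [An.EpsCont X] : PreservesFiniteLimits (An.epsPull X) := by
  haveI := eps_representablyFlat X
  haveI := lan_preservesFiniteLimits (An.eps X)
  exact Functor.sheafPullbackConstruction.preservesFiniteLimits _ _ _ _

end GrothLib.AnPts
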