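import Groth.Prelude.Def_AnFib
import Mathlib.AlgebraicGeometry.Fiber
import Mathlib.AlgebraicGeometry.Morphisms.UniversallyOpen
import Mathlib.AlgebraicGeometry.PullbackCarrier

/-!
# Base change of elementary fibrations
-/

universe u

open AlgebraicGeometry CategoryTheory CategoryTheory.Limits

namespace GrothLib.AnPts

/-- ranges in cartesian squares -/
theorem range_eq_preimage_of_isPullback {P X Y S : Scheme.{u}} {a : P ⟶ X} {b : P ⟶ Y}
    {f : X ⟶ S} {g : Y ⟶ S} (h : IsPullback a b f g) :
    Set.range a.base = f.base ⁻¹' Set.range g.base := by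
  rw [← h.isoPullback_hom_fst, Scheme.Hom.comp_base, TopCat.coe_comp,
    h.isoPullback.hom.surjective.range_comp, Scheme.Pullback.range_fst]

theorem isStronglyProjective_of_isPullback {X S X' S' : Scheme.{u}} {p : X' ⟶ X} {f' : X' ⟶ S'}
    {f : X ⟶ S} {v : S' ⟶ S} (h : IsPullback p f' f v) (hf : An.IsStronglyProjective f) :
    An.IsStronglyProjective f' := by
  obtain ⟨n, c, hc, hcf⟩ := hf
  let t := CohB1.ProjSpace.toSpec n (ULift.{u} ℤ)
  let T := specULiftZIsTerminal.{u}.from
  let P := IsPullback.of_hasPullback t (T S)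
  let P' := IsPullback.of_hasPullback t (T S')
  let m : CohB1.ProjSpaceOver n S' ⟶ CohB1.ProjSpaceOver n S :=
    P.lift (pullback.fst t (T S')) (CohB1.ProjSpaceOver.toBase n S' ≫ v)
      (specULiftZIsTerminal.hom_ext _ _)
  have hv : v ≫ T S = T S' := specULiftZIsTerminal.hom_ext _ _
  have hsq : IsPullback m (CohB1.ProjSpaceOver.toBase n S') (CohB1.ProjSpaceOver.toBase n S) v :=
    IsPullback.of_right (by
      erw [P.lift_fst]; rw [hv]; exact P') (P.lift_snd _ _ _) P
  refine ⟨n, hsq.lift (p ≫ c) f' (by rw [Category.assoc, hcf, h.w]), ?_, hsq.lift_snd _ _ _⟩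
  have hsq' : IsPullback p (hsq.lift (p ≫ c) f' (by rw [Category.assoc, hcf, h.w])) c m :=
    IsPullback.of_bot (by rw [hsq.lift_snd, hcf]; exact h) (hsq.lift_fst _ _ _).symm hsq
  exact MorphismProperty.of_isPullback hsq' hc

theorem isElementaryFibration_pullback_snd {X S S' : Scheme.{u}} (f : X ⟶ S) (v : S' ⟶ S)
    (hf : An.IsElementaryFibration f) : An.IsElementaryFibration (pullback.snd f v) := by
  obtain ⟨Xb, Y, j, fb, i, hjf, hj, hi, hrange, hdense, hsm, hproj, hgeom, hfin, het, hsurj⟩ := hf
  let p := pullback.fst fb v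
  let fb' := pullback.snd fb v
  have hP : IsPullback p fb' fb v := IsPullback.of_hasPullback fb v
  let j' : pullback f v ⟶ pullback fb v := hP.lift (pullback.fst f v ≫ j) (pullback.snd f v)
    (by rw [Category.assoc, hjf, pullback.condition])
  have hj' : IsPullback (pullback.fst f v) j' j p :=
    IsPullback.of_bot (by
      rw [IsPullback.lift_snd, hjf]; exact IsPullback.of_hasPullback f v) (hP.lift_fst _ _ _).symm hP
  have hi' : IsPullback (pullback.fst i p) (pullback.snd i p) i p := IsPullback.of_hasPullback i p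
  have hY : IsPullback (pullback.fst i p) (pullback.snd i p ≫ fb') (i ≫ fb) v := hi'.paste_vert hP
  refine ⟨pullback fb v, pullback i p, j', fb', pullback.snd i p, hP.lift_snd _ _ _,
    MorphismProperty.of_isPullback hj' hj, MorphismProperty.of_isPullback hi' hi, ?_, ?_,
    MorphismProperty.of_isPullback hP hsm, isStronglyProjective_of_isPullback hP hproj,
    ?_, MorphismProperty.of_isPullback hY hfin, MorphismProperty.of_isPullback hY het, ?_⟩
  · rw [range_eq_preimage_of_isPullback hj'.flip, range_eq_preimage_of_isPullback hi'.flip, hrange]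
    rfl
  · intro s' x hx
    have hfs : fb'.base x = s' := hx
    let s := v.base s'
    let k := Spec.map (v.residueFieldMap s')
    have hk : k ≫ S.fromSpecResidueField s = S'.fromSpecResidueField s' ≫ v :=
      Scheme.Hom.SpecMap_residueFieldMap_fromSpecResidueField v s'
    let Q := IsPullback.of_hasPullback fb (S.fromSpecResidueField s)
    let g := pullback.fst (pullback.snd fb (S.fromSpecResidueField s)) k
    let b := pullback.snd (pullback.snd fb (S.fromSpecResidueField s)) k
    have hg : UniversallyOpen k := inferInstance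
    have hgo : UniversallyOpen g :=
      MorphismProperty.pullback_fst _ _ hg
    have hw : (g ≫ pullback.fst fb (S.fromSpecResidueField s)) ≫ fb =
        (b ≫ S'.fromSpecResidueField s') ≫ v := by
      rw [Category.assoc, Category.assoc, Q.w, ← hk, ← Category.assoc, pullback.condition,
        Category.assoc]
    let e := hP.lift _ _ hw
    have hsq : IsPullback e b fb' (S'.fromSpecResidueField s') :=
      IsPullback.of_right (by
        rw [IsPullback.lift_fst, ← hk]
        exact ((IsPullback.of_hasPullback (pullback.snd fb (S.fromSpecResidueField s)) k).paste_horiz Q))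
        (hP.lift_snd _ _ _) hP
    obtain ⟨z, rfl⟩ : x ∈ Set.range e.base := by
      rw [range_eq_preimage_of_isPullback hsq, Scheme.range_fromSpecResidueField]
      exact hfs
    rw [mem_closure_iff]
    intro W hW hzW
    have hopen : IsOpen (g.base '' (e.base ⁻¹' W)) :=
      g.isOpenMap _ (hW.preimage e.continuous)
    haveI : IsPreimmersion (pullback.fst fb (S.fromSpecResidueField s)) :=
      MorphismProperty.pullback_fst _ _ inferInstance
    obtain ⟨W₀, hW₀, hW₀e⟩ :=
      (pullback.fst fb (S.fromSpecResidueField s)).isEmbedding.isInducing.isOpen_iff.1 hopen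
    have hrg : Set.range (pullback.fst fb (S.fromSpecResidueField s)).base = fb.base ⁻¹' {s} := by
      rw [range_eq_preimage_of_isPullback Q, Scheme.range_fromSpecResidueField]
    have hz₀ : (pullback.fst fb (S.fromSpecResidueField s)).base (g.base z) ∈ W₀ :=
      hW₀e.ge ⟨z, hzW, rfl⟩
    obtain ⟨w, hwW, hwj, hws⟩ := mem_closure_iff.1 (hdense s (hrg.le ⟨_, rfl⟩)) W₀ hW₀ hz₀
    obtain ⟨t, rfl⟩ := hrg.ge hws
    obtain ⟨z', hz'W, rfl⟩ := hW₀e.le hwW
    refine ⟨e.base z', hz'W, ?_, ?_⟩
    · rw [range_eq_preimage_of_isPullback hj'.flip]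
      show p.base (e.base z') ∈ Set.range j.base
      rwa [← Scheme.Hom.comp_apply, IsPullback.lift_fst, Scheme.Hom.comp_apply]
    · have := range_eq_preimage_of_isPullback hsq
      rw [Scheme.range_fromSpecResidueField] at this
      exact this.le ⟨z', rfl⟩
  · intro Ω _ _ σ
    obtain ⟨h1, h2⟩ := hgeom Ω (σ ≫ v)
    let e : pullback (pullback.snd fb v) σ ≅ pullback fb (σ ≫ v) :=
      pullbackLeftPullbackSndIso fb v σ
    haveI := h1
    refine ⟨?_, (IsHomeomorph.topologicalKrullDim_eq _ e.hom.homeomorph.isHomeomorph).trans h2⟩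
    rw [irreducibleSpace_def]
    have := (IrreducibleSpace.isIrreducible_univ (pullback fb (σ ≫ v) : Scheme.{u})).image _ e.inv.continuous.continuousOn
    rwa [Set.image_univ, e.inv.surjective.range_eq] at this
  · exact (MorphismProperty.of_isPullback (P := @Surjective) hY ⟨hsurj⟩).1

end GrothLib.AnPts
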