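import Mathlib.Analysis.Complex.Liouville
import Mathlib.Analysis.Complex.RemovableSingularity
import Mathlib.LinearAlgebra.Lagrange
import Mathlib.Algebra.MvPolynomial.Equiv
import Mathlib.Topology.Algebra.MvPolynomial

/-!
# Functions of polynomial growth
Liouville's theorem with growth, and polynomiality from polynomiality on lines.
-/

open Polynomial Topology Filter

namespace GrothLib.AnPts

/-- An entire function of polynomial growth is a polynomial. -/
theorem exists_polynomial_of_growth (D : ℕ) : ∀ {g : ℂ → ℂ} {C₀ : ℝ}, Differentiable ℂ g →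
    (∀ z, ‖g z‖ ≤ C₀ * (1 + ‖z‖) ^ D) → ∃ q : ℂ[X], q.natDegree ≤ D ∧ ∀ z, g z = q.eval z := by
  induction D with
  | zero =>
    intro g C₀ hg hb
    refine ⟨C (g 0), by simp, fun z => ?_⟩
    rw [eval_C]
    refine hg.apply_eq_apply_of_bounded ?_ z 0
    exact (Metric.isBounded_closedBall (x := 0) (r := C₀)).subset
      (Set.range_subset_iff.2 fun z => mem_closedBall_zero_iff.2 (by simpa using hb z))
  | succ D ih =>
    intro g C₀ hg hb
    have hs : Differentiable ℂ (dslope g 0) :=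
      differentiableOn_univ.1 ((Complex.differentiableOn_dslope univ_mem).2 hg.differentiableOn)
    obtain ⟨M, hM⟩ := (isCompact_closedBall (0 : ℂ) 1).exists_bound_of_continuousOn
      hs.continuous.continuousOn
    have hC : 0 ≤ C₀ := le_trans (norm_nonneg _) (by simpa using hb 0)
    have hb' : ∀ z, ‖dslope g 0 z‖ ≤ (max M (4 * C₀)) * (1 + ‖z‖) ^ D := by
      intro z
      have h1 : (1 : ℝ) ≤ (1 + ‖z‖) ^ D := one_le_pow₀ (by linarith [norm_nonneg z])
      rcases le_total ‖z‖ 1 with hz | hz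
      · have := hM z (mem_closedBall_zero_iff.2 hz)
        calc ‖dslope g 0 z‖ ≤ M := this
          _ ≤ max M (4 * C₀) * 1 := by rw [mul_one]; exact le_max_left _ _
          _ ≤ _ := mul_le_mul_of_nonneg_left h1 (le_trans (by positivity) (le_max_right _ _))
      · have hz0 : z ≠ 0 := by intro h; rw [h, norm_zero] at hz; linarith
        have e : dslope g 0 z * z = g z - g 0 := by
          rw [mul_comm, ← smul_eq_mul]
          simpa using sub_smul_dslope g 0 z
        have e' : ‖dslope g 0 z‖ * ‖z‖ ≤ C₀ * (1 + ‖z‖) ^ (D + 1) + C₀ := by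
          rw [← norm_mul, e]
          exact (norm_sub_le _ _).trans (add_le_add (hb z) (by simpa using hb 0))
        have hpow : (1 + ‖z‖) ^ (D + 1) = (1 + ‖z‖) ^ D * (1 + ‖z‖) := pow_succ _ _
        have h2 : ‖dslope g 0 z‖ * ‖z‖ ≤ (4 * C₀ * (1 + ‖z‖) ^ D) * ‖z‖ := by
          nlinarith [mul_nonneg hC (by positivity : (0:ℝ) ≤ (1 + ‖z‖) ^ D),
            mul_le_mul_of_nonneg_left h1 hC, mul_le_mul_of_nonneg_left hz
              (mul_nonneg hC (by positivity : (0:ℝ) ≤ (1 + ‖z‖) ^ D))]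
        exact (le_of_mul_le_mul_right h2 (by linarith)).trans
          (mul_le_mul_of_nonneg_right (le_max_right _ _) (by positivity))
    obtain ⟨q, hq, hqe⟩ := ih hs hb'
    refine ⟨C (g 0) + X * q, ?_, fun z => ?_⟩
    · refine (natDegree_add_le _ _).trans (max_le (by simp) (natDegree_mul_le.trans ?_))
      rw [natDegree_X]; omega
    · have := sub_smul_dslope g 0 z
      rw [hqe z, sub_zero, smul_eq_mul] at this
      simp only [eval_add, eval_C, eval_mul, eval_X]
      linear_combination -this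

/-- A function holomorphic and of polynomial growth outside a finite set is polynomial there;
with `‖f‖ ^ m` growing like degree `D`, the degree times `m` is at most `D`. -/
theorem exists_polynomial_of_growth_compl {f : ℂ → ℂ} {F : Set ℂ} (hF : F.Finite) {C₀ : ℝ} {D m : ℕ}
    (hm : m ≠ 0) (hf : ∀ z ∉ F, DifferentiableAt ℂ f z)
    (hb : ∀ z ∉ F, ‖f z‖ ^ m ≤ C₀ * (1 + ‖z‖) ^ D) :
    ∃ q : ℂ[X], m * q.natDegree ≤ D ∧ ∀ z ∉ F, f z = q.eval z := by
  let g : ℂ → ℂ := fun z => limUnder (𝓝[≠] z) f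
  have hout : ∀ z ∉ F, g z = f z := fun z hz =>
    ((hf z hz).continuousAt.tendsto.mono_left nhdsWithin_le_nhds).limUnder_eq
  have hFc : ∀ c, ∀ᶠ z in 𝓝[≠] c, z ∉ F := fun c => by
    have : ∀ᶠ z in 𝓝 c, z ∉ F \ {c} :=
      (hF.subset Set.sdiff_subset).isClosed.isOpen_compl.mem_nhds fun h => h.2 rfl
    filter_upwards [nhdsWithin_le_nhds this, self_mem_nhdsWithin] with z h1 h2 h3
    exact h1 ⟨h3, h2⟩
  have hbd : ∀ z ∉ F, ‖f z‖ ≤ 1 + C₀ * (1 + ‖z‖) ^ D := fun z hz => by
    have h := hb z hz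
    have h0 : (0 : ℝ) ≤ ‖f z‖ ^ m := by positivity
    by_cases h1 : ‖f z‖ ≤ 1
    · linarith
    · linarith [le_self_pow₀ (not_le.1 h1).le hm]
  have hg : Differentiable ℂ g := by
    intro c
    have hs' : ∀ᶠ z in 𝓝 c, z ≠ c → z ∉ F := eventually_nhdsWithin_iff.1 (hFc c)
    obtain ⟨ε, hε, hball⟩ := Metric.mem_nhds_iff.1 hs'
    have hd : DifferentiableOn ℂ f (Metric.ball c ε \ {c}) := fun z hz =>
      (hf z (hball hz.1 hz.2)).differentiableWithinAt
    have hba : BddAbove (norm ∘ f '' (Metric.ball c ε \ {c})) := by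
      refine ⟨1 + |C₀| * (1 + (‖c‖ + ε)) ^ D, ?_⟩
      rintro _ ⟨z, hz, rfl⟩
      refine (hbd z (hball hz.1 hz.2)).trans (add_le_add le_rfl ?_)
      refine mul_le_mul (le_abs_self _) (pow_le_pow_left₀ (by positivity) ?_ _) (by positivity)
        (abs_nonneg _)
      have : ‖z - c‖ < ε := by rw [← dist_eq_norm]; exact hz.1
      linarith [norm_le_norm_add_norm_sub' z c]
    have := (Complex.differentiableOn_update_limUnder_of_bddAbove (Metric.ball_mem_nhds c hε) hd hba).differentiableAt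
      (Metric.ball_mem_nhds c hε)
    refine this.congr_of_eventuallyEq ?_
    filter_upwards [Metric.ball_mem_nhds c hε] with z hz
    by_cases hzc : z = c
    · subst hzc; rw [Function.update_self]
    · rw [Function.update_of_ne hzc]; exact hout z (hball hz hzc)
  have hgb : ∀ z, ‖g z‖ ^ m ≤ C₀ * (1 + ‖z‖) ^ D := fun z => by
    refine le_of_tendsto_of_tendsto (b := 𝓝[≠] z)
      ((hg.continuous.norm.pow m).tendsto z |>.mono_left nhdsWithin_le_nhds)
      (((continuous_const.mul ((continuous_const.add continuous_norm).pow D)).tendsto z).mono_left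
        nhdsWithin_le_nhds) ?_
    filter_upwards [hFc z] with w hw
    simp only [Pi.pow_apply, Pi.mul_apply, Pi.add_apply]
    rw [hout w hw]
    exact hb w hw
  obtain ⟨q₁, hq₁, hq₁e⟩ := exists_polynomial_of_growth D (g := fun z => g z ^ m) (C₀ := C₀)
    (hg.pow m) fun z => by rw [norm_pow]; exact hgb z
  have hC : 0 ≤ C₀ := le_trans (by positivity) (by simpa using hgb 0 : ‖g 0‖ ^ m ≤ C₀)
  obtain ⟨q, -, hqe⟩ := exists_polynomial_of_growth D (g := g) (C₀ := 1 + C₀) hg fun z => by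
    have h1 : (1 : ℝ) ≤ (1 + ‖z‖) ^ D := one_le_pow₀ (by linarith [norm_nonneg z])
    by_cases hle : ‖g z‖ ≤ 1
    · nlinarith
    · nlinarith [le_self_pow₀ (not_le.1 hle).le hm, hgb z]
  refine ⟨q, ?_, fun z hz => (hout z hz).symm.trans (hqe z)⟩
  have : q₁ = q ^ m := Polynomial.funext fun z => by rw [eval_pow, ← hqe, ← hq₁e]
  rw [this, natDegree_pow] at hq₁
  exact hq₁

/-- polynomiality on a box from polynomiality on coordinate lines -/
theorem exists_mvPolynomial_of_lines_box (D : ℕ) : ∀ (d : ℕ) (B : Fin d → Set ℂ),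
    (∀ i, (B i).Infinite) → ∀ f : (Fin d → ℂ) → ℂ,
    (∀ (i : Fin d) (y : Fin d → ℂ), (∀ j, y j ∈ B j) → ∃ q : ℂ[X], q.natDegree ≤ D ∧
      ∀ t ∈ B i, f (Function.update y i t) = q.eval t) →
    ∃ p : MvPolynomial (Fin d) ℂ, ∀ y, (∀ j, y j ∈ B j) → f y = MvPolynomial.eval y p := by
  intro d
  induction d with
  | zero => exact fun B hB f _ => ⟨MvPolynomial.C (f Fin.elim0), fun y _ => by
      rw [MvPolynomial.eval_C]; exact congrArg f (funext fun i => i.elim0)⟩
  | succ d ih =>
    intro B hB f hf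
    obtain ⟨s, hsB, hs⟩ := (hB 0).exists_subset_card_eq (D + 1)
    have hnode : ∀ t₀ : ℂ, t₀ ∈ s → ∃ p : MvPolynomial (Fin d) ℂ, ∀ y, (∀ j, y j ∈ B j.succ) →
        f (Fin.cons t₀ y) = MvPolynomial.eval y p := by
      intro t₀ ht₀
      refine ih (fun j => B j.succ) (fun j => hB _) (fun y => f (Fin.cons t₀ y)) fun i y hy => ?_
      obtain ⟨q, hq, hqe⟩ := hf i.succ (Fin.cons t₀ y) (Fin.cases (by simpa using hsB ht₀) hy)
      refine ⟨q, hq, fun t ht => ?_⟩
      rw [← hqe t ht, Fin.cons_update]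
    choose p hp using hnode
    classical
    let L : ℂ → ℂ[X] := fun t₀ => Lagrange.basis s id t₀
    refine ⟨∑ t₀ ∈ s.attach, MvPolynomial.rename Fin.succ (p t₀.1 t₀.2) *
      (L t₀.1).aeval (MvPolynomial.X 0), fun y hy => ?_⟩
    obtain ⟨q, hq, hqe⟩ := hf 0 y hy
    have hval : f y = q.eval (y 0) := by
      rw [← hqe (y 0) (hy 0), Function.update_eq_self]
    have hqi : q = Lagrange.interpolate s id (fun t => q.eval t) := by
      refine Lagrange.eq_interpolate (Set.injOn_id _) ?_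
      refine degree_le_natDegree.trans_lt ?_
      rw [hs]
      exact_mod_cast Nat.lt_succ_of_le hq
    rw [hval]
    conv_lhs => rw [hqi]
    rw [Lagrange.interpolate_apply, eval_finsetSum, map_sum, ← Finset.sum_attach]
    refine Finset.sum_congr rfl fun t₀ _ => ?_
    rw [eval_mul, eval_C, map_mul, MvPolynomial.eval_rename]
    congr 1
    · rw [← hqe t₀.1 (hsB t₀.2), ← Fin.cons_self_tail (Function.update y 0 t₀.1)]
      rw [Function.update_self, Fin.tail_update_zero]
      exact hp t₀.1 t₀.2 _ fun j => hy _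
    · rw [← MvPolynomial.aeval_eq_eval, ← Polynomial.aeval_algHom_apply, MvPolynomial.aeval_X,
        Polynomial.coe_aeval_eq_eval]

/-- A function on an open set which is polynomial of bounded degree on all lines is polynomial. -/
theorem exists_mvPolynomial_of_lines {d : ℕ} {U : Set (Fin d → ℂ)} (hU : IsOpen U) {y₁ : Fin d → ℂ}
    (hy₁ : y₁ ∈ U) (f : (Fin d → ℂ) → ℂ) (D : ℕ)
    (hl : ∀ a b : Fin d → ℂ, ∃ q : ℂ[X], q.natDegree ≤ D ∧
      ∀ z : ℂ, a + z • b ∈ U → f (a + z • b) = q.eval z) :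
    ∃ p : MvPolynomial (Fin d) ℂ, ∀ y ∈ U, f y = MvPolynomial.eval y p := by
  obtain ⟨ε, hε, hεU⟩ := Metric.isOpen_iff.1 hU y₁ hy₁
  have hmem : ∀ y : Fin d → ℂ, (∀ j, y j ∈ Metric.ball (y₁ j) ε) → y ∈ U := fun y hy =>
    hεU ((dist_pi_lt_iff hε).2 hy)
  obtain ⟨p, hp⟩ := exists_mvPolynomial_of_lines_box D d (fun i => Metric.ball (y₁ i) ε)
    (fun i => infinite_of_mem_nhds _ (Metric.ball_mem_nhds _ hε)) f (fun i y hy => by
      have hupd : ∀ t : ℂ, Function.update y i 0 + t • Pi.single i 1 = Function.update y i t := by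
        intro t; ext j
        by_cases h : j = i
        · subst h; simp
        · simp [Function.update_of_ne h, h]
      obtain ⟨q, hq, hqe⟩ := hl (Function.update y i 0) (Pi.single i 1)
      refine ⟨q, hq, fun t ht => ?_⟩
      rw [← hupd t]
      refine hqe t (hupd t ▸ hmem _ fun j => ?_)
      by_cases h : j = i
      · subst h; rw [Function.update_self]; exact ht
      · rw [Function.update_of_ne h]; exact hy j)
  refine ⟨p, fun y hy => ?_⟩
  obtain ⟨q, -, hqe⟩ := hl y₁ (y - y₁)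
  let r : ℂ[X] := MvPolynomial.aeval (fun i => C (y₁ i) + C ((y - y₁) i) * X) p
  have hr : ∀ z, r.eval z = MvPolynomial.eval (y₁ + z • (y - y₁)) p := fun z => by
    have : (Polynomial.aeval z).comp (MvPolynomial.aeval fun i => C (y₁ i) + C ((y - y₁) i) * X) =
        MvPolynomial.aeval (R := ℂ) (y₁ + z • (y - y₁)) :=
      MvPolynomial.algHom_ext fun i => by simp [mul_comm]
    simpa [r, MvPolynomial.aeval_eq_eval, Polynomial.coe_aeval_eq_eval] using
      congrArg (fun φ : MvPolynomial (Fin d) ℂ →ₐ[ℂ] ℂ => φ p) this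
  have hnear : ∀ᶠ z in 𝓝 (0 : ℂ), ∀ j, (y₁ + z • (y - y₁)) j ∈ Metric.ball (y₁ j) ε := by
    rw [eventually_all]
    intro j
    have hc : ContinuousAt (fun z : ℂ => (y₁ + z • (y - y₁)) j) 0 := by fun_prop
    exact hc.preimage_mem_nhds (Metric.isOpen_ball.mem_nhds (by simp [hε]))
  have heq : q = r := by
    refine Polynomial.eq_of_infinite_eval_eq q r ?_
    refine (infinite_of_mem_nhds (0 : ℂ) hnear).mono fun z hz => ?_
    change q.eval z = r.eval z
    rw [hr z, ← hp _ hz, ← hqe z (hmem _ hz)]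
  have h1 : y₁ + (1 : ℂ) • (y - y₁) = y := by simp
  rw [← h1, hqe 1 (by rw [h1]; exact hy), heq, hr]

end GrothLib.AnPts
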