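import Groth.Agent.Lib.AnPts.Pullback
import Groth.Agent.Lib.AnPts.Constr
import Mathlib.AlgebraicGeometry.Morphisms.Separated
import Mathlib.Topology.SeparatedMap

/-!
# Morphisms and their maps on ℂ-points
-/

open AlgebraicGeometry CategoryTheory TopologicalSpace Opposite Topology Filter Limits

namespace GrothLib.AnPts

variable {X Y : Scheme.{0}} [X.Over An.SC] [LocallyOfFiniteType (X ↘ An.SC)]
  [Y.Over An.SC] [LocallyOfFiniteType (Y ↘ An.SC)] (f : X ⟶ Y) [f.IsOver An.SC]

instance pullbackLFT {X Y S : Scheme.{0}} [X.Over An.SC] [Y.Over An.SC]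
    [S.Over An.SC] [LocallyOfFiniteType (X ↘ An.SC)] [LocallyOfFiniteType (Y ↘ An.SC)]
    [LocallyOfFiniteType (S ↘ An.SC)] (f : X ⟶ S) (g : Y ⟶ S) [f.IsOver An.SC] [g.IsOver An.SC] :
    LocallyOfFiniteType (pullback f g ↘ An.SC) := by
  have := locallyOfFiniteType_of_isOver g
  exact inferInstanceAs (LocallyOfFiniteType (pullback.fst f g ≫ (X ↘ An.SC)))

theorem surjective_iff [QuasiCompact f] :
    Function.Surjective f.base ↔ Function.Surjective (An.Pts.map f) := by
  rw [← Set.range_eq_univ, ← Set.range_eq_univ, range_map_of_range_closedPoints]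
  refine ⟨fun h => by rw [h, Set.preimage_univ], fun h => ?_⟩
  refine eq_of_preimage_pt_eq ?_ .univ (by rw [h, Set.preimage_univ])
  rw [← Set.image_univ]
  exact isLocallyConstructible_image f .univ

theorem denseRange_iff [QuasiCompact f] : DenseRange f.base ↔ DenseRange (An.Pts.map f) := by
  rw [DenseRange, DenseRange, range_map_of_range_closedPoints]
  refine dense_iff_pts ?_
  rw [← Set.image_univ]
  exact isLocallyConstructible_image f .univ

/-- ℂ-points of the image of the diagonal -/
lemma pt_mem_range_diagonal_iff (w : An.Pts (pullback f f)) :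
    w.pt ∈ Set.range (pullback.diagonal f).base ↔
      An.Pts.map (pullback.fst f f) w = An.Pts.map (pullback.snd f f) w := by
  letI : (pullback.diagonalObj f).Over An.SC := inferInstanceAs ((pullback f f).Over An.SC)
  constructor
  · rintro ⟨p, hp⟩
    refine pt_injective ?_
    rw [An.Pts.pt_map, An.Pts.pt_map, ← hp, ← Scheme.Hom.comp_apply, ← Scheme.Hom.comp_apply,
      pullback.diagonal_fst, pullback.diagonal_snd]
  · intro h
    have h' : w.1 ≫ pullback.fst f f = w.1 ≫ pullback.snd f f := congrArg Subtype.val h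
    have e : w.1 = (w.1 ≫ pullback.fst f f) ≫ pullback.diagonal f := by
      apply pullback.hom_ext
      · simp
      · simp [h']
    refine ⟨(w.1 ≫ pullback.fst f f).base An.cpt, ?_⟩
    change _ = w.1.base An.cpt
    conv_rhs => rw [e]
    exact (Scheme.Hom.comp_apply _ _ _).symm

theorem injective_iff : Function.Injective f.base ↔ Function.Injective (An.Pts.map f) := by
  refine ⟨fun h x y e => pt_injective (h ?_), fun h a b hab => ?_⟩
  · rw [← An.Pts.pt_map, ← An.Pts.pt_map, e]
  obtain ⟨z, hz₁, hz₂⟩ := Scheme.Pullback.exists_preimage_pullback a b hab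
  suffices hz : z ∈ Set.range (pullback.diagonal f).base by
    obtain ⟨p, rfl⟩ := hz
    rw [← hz₁, ← hz₂, ← Scheme.Hom.comp_apply, ← Scheme.Hom.comp_apply,
      pullback.diagonal_fst, pullback.diagonal_snd]
  by_contra hz
  have hlc : IsLocallyConstructible ((Set.range (pullback.diagonal f).base)ᶜ : Set ↥(pullback f f)) :=
    isLocallyConstructible_compl (isLocallyConstructible_of_isLocallyClosed
      (pullback.diagonal f).isLocallyClosed_range)
  have : (Set.range (pullback.diagonal f).base)ᶜ = (∅ : Set ↥(pullback f f)) := by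
    refine eq_of_preimage_pt_eq hlc .empty ?_
    rw [Set.preimage_empty, Set.eq_empty_iff_forall_notMem]
    intro w hw
    exact hw ((pt_mem_range_diagonal_iff f w).2 (h (An.Pts.map_pullback_condition f f w)))
  exact Set.eq_empty_iff_forall_notMem.1 this z hz

theorem isSeparated_iff : IsSeparated f ↔ IsSeparatedMap (An.Pts.map f) := by
  rw [isSeparatedMap_iff_isClosed_diagonal]
  have e : (prodMap f f) ⁻¹' (An.Pts.map f).pullbackDiagonal =
      An.Pts.pt ⁻¹' (Set.range (pullback.diagonal f).base : Set ↥(pullback f f)) := by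
    ext w
    exact (pt_mem_range_diagonal_iff f w).symm
  rw [← (isHomeomorph_prodMap f f).homeomorph.isClosed_preimage,
    show ⇑(isHomeomorph_prodMap f f).homeomorph = prodMap f f from rfl, e,
    ← isClosed_iff_pts (isLocallyConstructible_of_isLocallyClosed
      (pullback.diagonal f).isLocallyClosed_range)]
  refine ⟨fun h => (pullback.diagonal f).isClosedEmbedding.isClosed_range, fun h => ⟨?_⟩⟩
  exact IsClosedImmersion.of_isPreimmersion _ h

theorem discreteTopology_iff :
    DiscreteTopology ↥X ↔ DiscreteTopology (An.Pts X) := by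
  refine ⟨fun _ => DiscreteTopology.of_continuous_injective An.Pts.continuous_pt pt_injective,
    fun _ => ?_⟩
  have hopen : ∀ p : ↥X, IsClosed {p} → IsOpen {p} := fun p hp =>
    (isOpen_iff_pts (isLocallyConstructible_of_isClosed hp)).2 (isOpen_discrete _)
  rw [discreteTopology_iff_isOpen_singleton]
  intro η
  obtain ⟨x, hx⟩ := exists_pts_mem (X := X) (isClosed_closure (s := {η})).isLocallyClosed
    ⟨η, subset_closure rfl⟩
  have hp := hopen x.pt (pt_isClosed x)
  have : η = x.pt := (specializes_iff_mem_closure.2 hx).mem_open hp rfl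
  rwa [this]

end GrothLib.AnPts
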