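import Groth.Agent.Lib.AnPts.Top
import Mathlib.AlgebraicGeometry.Morphisms.Immersion

/-!
# Fibre products and immersions on ℂ-points
-/

open AlgebraicGeometry CategoryTheory TopologicalSpace Opposite Topology Filter Limits

namespace GrothLib.AnPts

variable {X Y S : Scheme.{0}} [X.Over An.SC] [Y.Over An.SC] [S.Over An.SC]
  (f : X ⟶ S) (g : Y ⟶ S) [f.IsOver An.SC] [g.IsOver An.SC]

/-- the comparison map on points of a fibre product -/
noncomputable def prodMap (z : An.Pts (pullback f g)) :
    {q : An.Pts X × An.Pts Y // An.Pts.map f q.1 = An.Pts.map g q.2} :=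
  ⟨(An.Pts.map (pullback.fst f g) z, An.Pts.map (pullback.snd f g) z),
    An.Pts.map_pullback_condition f g z⟩

lemma continuous_prodMap : Continuous (prodMap f g) :=
  ((An.Pts.continuous_map _).prodMk (An.Pts.continuous_map _)).subtype_mk _

theorem isHomeomorph_prodMap : IsHomeomorph (prodMap f g) := by
  have hsurj : Function.Surjective (prodMap f g) := by
    rintro ⟨⟨x, y⟩, hxy⟩
    refine ⟨⟨pullback.lift x.1 y.1 (congrArg Subtype.val hxy), ?_⟩, ?_⟩
    · exact (pullback.lift_fst_assoc _ _ _ _).trans x.2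
    · exact Subtype.ext (Prod.ext (Subtype.ext (pullback.lift_fst _ _ _))
        (Subtype.ext (pullback.lift_snd _ _ _)))
  have hinj : Function.Injective (prodMap f g) := fun a b h => Subtype.ext
    (pullback.hom_ext (congrArg (fun q => q.1.1.1) h) (congrArg (fun q => q.1.2.1) h))
  refine (isHomeomorph_iff_isEmbedding_surjective).2 ⟨⟨?_, hinj⟩, hsurj⟩
  rw [isInducing_iff_nhds]
  intro z
  refine le_antisymm ((continuous_prodMap f g).tendsto z).le_comap ?_
  let p := pullback.fst f g
  let q := pullback.snd f g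
  obtain ⟨V, hV, hsV, -⟩ := exists_isAffineOpen_mem_and_subset (Opens.mem_top (f.base (p.base z.pt)))
  obtain ⟨U, hU, hxU, hUV⟩ :=
    exists_isAffineOpen_mem_and_subset (U := f ⁻¹ᵁ V) (x := p.base z.pt) hsV
  have hgV : g.base (q.base z.pt) ∈ V := by
    rw [← Scheme.Hom.comp_apply, show q ≫ g = p ≫ f from pullback.condition.symm,
      Scheme.Hom.comp_apply]
    exact hsV
  obtain ⟨T, hT, hyT, hTV⟩ :=
    exists_isAffineOpen_mem_and_subset (U := g ⁻¹ᵁ V) (x := q.base z.pt) hgV
  have H : IsPullback p q f g := IsPullback.of_hasPullback f g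
  have hpo : IsPushout (f.appLE V U hUV) (g.appLE V T hTV)
      (p.appLE U (p ⁻¹ᵁ U ⊓ q ⁻¹ᵁ T) inf_le_left) (q.appLE T (p ⁻¹ᵁ U ⊓ q ⁻¹ᵁ T) inf_le_right) :=
    (isIso_pushoutSection_iff H hTV hUV rfl).1
      (isIso_pushoutSection_of_isAffineOpen H hTV hUV rfl hV hT hU)
  have : IsAffine (V : Scheme) := hV
  have : IsAffine (U : Scheme) := hU
  have : IsAffine (T : Scheme) := hT
  have hW : IsAffineOpen (p ⁻¹ᵁ U ⊓ q ⁻¹ᵁ T) :=
    .of_isIso (Scheme.Hom.isPullback_resLE H hTV hUV rfl).isoPullback.hom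
  refine le_nhds_of_generators hW ⟨hxU, hyT⟩ ?_ _ (pushout_generated hpo) ?_
  · have h1 : ∀ᶠ q' in 𝓝 (prodMap f g z), q'.1.1.pt ∈ U ∧ q'.1.2.pt ∈ T := by
      refine Eventually.and ?_ ?_
      · refine (continuous_fst.comp continuous_subtype_val).continuousAt.eventually
          (eventually_mem_nhds ?_)
        change (An.Pts.map p z).pt ∈ U
        rw [An.Pts.pt_map]; exact hxU
      · refine (continuous_snd.comp continuous_subtype_val).continuousAt.eventually
          (eventually_mem_nhds ?_)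
        change (An.Pts.map q z).pt ∈ T
        rw [An.Pts.pt_map]; exact hyT
    refine (tendsto_comap.eventually h1).mono fun w hw => ⟨?_, ?_⟩
    · change p.base w.pt ∈ U
      rw [← An.Pts.pt_map]; exact hw.1
    · change q.base w.pt ∈ T
      rw [← An.Pts.pt_map]; exact hw.2
  · rintro _ (⟨a, rfl⟩ | ⟨a, rfl⟩)
    · have he : ∀ w : An.Pts (pullback f g), w.pt ∈ p ⁻¹ᵁ U ⊓ q ⁻¹ᵁ T →
          evZ _ (p.appLE U (p ⁻¹ᵁ U ⊓ q ⁻¹ᵁ T) inf_le_left a) w = evZ U a (prodMap f g w).1.1 := by
        intro w hw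
        have hw' : (An.Pts.map p w).pt ∈ U := by rw [An.Pts.pt_map]; exact hw.1
        rw [evZ_of_mem _ hw, show (prodMap f g w).1.1 = An.Pts.map p w from rfl, evZ_of_mem _ hw',
          An.Pts.ev_map, Scheme.Hom.appLE, CommRingCat.comp_apply]
        exact ev_res w inf_le_left hw _
      rw [he z ⟨hxU, hyT⟩]
      have hz' : (prodMap f g z).1.1.pt ∈ U := by
        change (An.Pts.map p z).pt ∈ U
        rw [An.Pts.pt_map]; exact hxU
      refine Tendsto.congr' ?_ (((tendsto_evZ_nhds a hz').comp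
        ((continuous_fst.comp continuous_subtype_val).tendsto (prodMap f g z))).comp tendsto_comap)
      have h1 : ∀ᶠ q' in 𝓝 (prodMap f g z), q'.1.1.pt ∈ U ∧ q'.1.2.pt ∈ T := by
        refine Eventually.and ((continuous_fst.comp continuous_subtype_val).continuousAt.eventually
          (eventually_mem_nhds hz')) ((continuous_snd.comp continuous_subtype_val).continuousAt.eventually
          (eventually_mem_nhds ?_))
        change (An.Pts.map q z).pt ∈ T
        rw [An.Pts.pt_map]; exact hyT
      refine (tendsto_comap.eventually h1).mono fun w hw => (he w ⟨?_, ?_⟩).symm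
      · change p.base w.pt ∈ U
        rw [← An.Pts.pt_map]; exact hw.1
      · change q.base w.pt ∈ T
        rw [← An.Pts.pt_map]; exact hw.2
    · have he : ∀ w : An.Pts (pullback f g), w.pt ∈ p ⁻¹ᵁ U ⊓ q ⁻¹ᵁ T →
          evZ _ (q.appLE T (p ⁻¹ᵁ U ⊓ q ⁻¹ᵁ T) inf_le_right a) w = evZ T a (prodMap f g w).1.2 := by
        intro w hw
        have hw' : (An.Pts.map q w).pt ∈ T := by rw [An.Pts.pt_map]; exact hw.2
        rw [evZ_of_mem _ hw, show (prodMap f g w).1.2 = An.Pts.map q w from rfl, evZ_of_mem _ hw',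
          An.Pts.ev_map, Scheme.Hom.appLE, CommRingCat.comp_apply]
        exact ev_res w inf_le_right hw _
      rw [he z ⟨hxU, hyT⟩]
      have hz' : (prodMap f g z).1.2.pt ∈ T := by
        change (An.Pts.map q z).pt ∈ T
        rw [An.Pts.pt_map]; exact hyT
      refine Tendsto.congr' ?_ (((tendsto_evZ_nhds a hz').comp
        ((continuous_snd.comp continuous_subtype_val).tendsto (prodMap f g z))).comp tendsto_comap)
      have h1 : ∀ᶠ q' in 𝓝 (prodMap f g z), q'.1.1.pt ∈ U ∧ q'.1.2.pt ∈ T := by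
        refine Eventually.and ((continuous_fst.comp continuous_subtype_val).continuousAt.eventually
          (eventually_mem_nhds ?_)) ((continuous_snd.comp continuous_subtype_val).continuousAt.eventually
          (eventually_mem_nhds hz'))
        change (An.Pts.map p z).pt ∈ U
        rw [An.Pts.pt_map]; exact hxU
      refine (tendsto_comap.eventually h1).mono fun w hw => (he w ⟨?_, ?_⟩).symm
      · change p.base w.pt ∈ U
        rw [← An.Pts.pt_map]; exact hw.1
      · change q.base w.pt ∈ T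
        rw [← An.Pts.pt_map]; exact hw.2

theorem isEmbedding_map_of_isImmersion [LocallyOfFiniteType (X ↘ An.SC)]
    [LocallyOfFiniteType (S ↘ An.SC)] [IsImmersion f] :
    IsEmbedding (An.Pts.map f) ∧ IsLocallyClosed (Set.range (An.Pts.map f)) := by
  letI : (f.coborderRange : Scheme).Over An.SC := ⟨f.coborderRange.ι ≫ (S ↘ An.SC)⟩
  haveI hι : f.coborderRange.ι.IsOver An.SC := ⟨rfl⟩
  haveI hl : f.liftCoborder.IsOver An.SC := ⟨by
    change f.liftCoborder ≫ f.coborderRange.ι ≫ (S ↘ An.SC) = X ↘ An.SC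
    rw [← Category.assoc, f.liftCoborder_ι, comp_over f]⟩
  haveI : LocallyOfFiniteType ((f.coborderRange : Scheme) ↘ An.SC) :=
    inferInstanceAs (LocallyOfFiniteType (f.coborderRange.ι ≫ (S ↘ An.SC)))
  refine ⟨?_, ?_⟩
  · have e : An.Pts.map f = An.Pts.map f.coborderRange.ι ∘ An.Pts.map f.liftCoborder :=
      funext fun x => Subtype.ext (by
        change x.1 ≫ f = (x.1 ≫ f.liftCoborder) ≫ f.coborderRange.ι
        rw [Category.assoc, f.liftCoborder_ι])
    rw [e]
    exact (isOpenEmbedding_map_of_isOpenImmersion f.coborderRange.ι).isEmbedding.comp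
      (isClosedEmbedding_map_of_isClosedImmersion f.liftCoborder).isEmbedding
  · rw [range_map_of_range_closedPoints]
    exact f.isLocallyClosed_range.preimage An.Pts.continuous_pt

end GrothLib.AnPts
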