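import Groth.Agent.Lib.AnPts.Growth
import Groth.Agent.Lib.AnPts.Roots
import Mathlib.Analysis.Normed.Module.FiniteDimension

/-!
# The branched covering of ℂ^d defined by an irreducible monic polynomial
Connectedness, and constancy of nowhere-zero functions with continuous roots of all orders.
-/

open Polynomial Topology Filter

namespace GrothLib.AnPts.RootCover

variable {d : ℕ}

local notation "ℛ" => MvPolynomial (Fin d) ℂ

open Classical in
/-- the roots over a point -/
noncomputable def roots (P : Polynomial (MvPolynomial (Fin d) ℂ)) (y : Fin d → ℂ) : Finset ℂ :=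
  (P.map (MvPolynomial.eval y)).roots.toFinset

/-- the open set of the base -/
def base (h : MvPolynomial (Fin d) ℂ) : Set (Fin d → ℂ) := {y | MvPolynomial.eval y h ≠ 0}

lemma isOpen_base (h : MvPolynomial (Fin d) ℂ) : IsOpen (base h) :=
  isOpen_ne.preimage (MvPolynomial.continuous_eval h)

lemma nonempty_base {h : MvPolynomial (Fin d) ℂ} (hh : h ≠ 0) : (base h).Nonempty := by
  by_contra H
  refine hh (MvPolynomial.funext fun y => ?_)
  rw [map_zero]
  by_contra hy
  exact H ⟨y, hy⟩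

/-- the variety of roots over the open base -/
def cover (P : Polynomial (MvPolynomial (Fin d) ℂ)) (h : MvPolynomial (Fin d) ℂ) :
    Set ((Fin d → ℂ) × ℂ) :=
  {q | q.1 ∈ base h ∧ (P.map (MvPolynomial.eval q.1)).IsRoot q.2}

/-- the hypotheses: monic, with simple roots over the base -/
structure Good (P : Polynomial (MvPolynomial (Fin d) ℂ)) (h : MvPolynomial (Fin d) ℂ) : Prop where
  monic : P.Monic
  degree : P.natDegree ≠ 0
  h_ne : h ≠ 0
  simple : ∀ y ∈ base h, ∀ r, (P.map (MvPolynomial.eval y)).IsRoot r →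
    (P.map (MvPolynomial.eval y)).derivative.eval r ≠ 0

variable {P : Polynomial (MvPolynomial (Fin d) ℂ)} {h : MvPolynomial (Fin d) ℂ}

lemma mem_roots_iff (hP : P.Monic) {y : Fin d → ℂ} {r : ℂ} :
    r ∈ roots P y ↔ (P.map (MvPolynomial.eval y)).IsRoot r := by
  classical
  rw [roots, Multiset.mem_toFinset, Polynomial.mem_roots (hP.map _).ne_zero]

lemma card_roots_le (hP : P.Monic) (y : Fin d → ℂ) : (roots P y).card ≤ P.natDegree := by
  classical
  refine (Multiset.toFinset_card_le _).trans ?_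
  rw [IsAlgClosed.card_roots_eq_natDegree, hP.natDegree_map]

lemma card_roots (g : Good P h) {y : Fin d → ℂ} (hy : y ∈ base h) :
    (roots P y).card = P.natDegree := by
  classical
  have h0 := (g.monic.map (MvPolynomial.eval y)).ne_zero
  have hnd : (P.map (MvPolynomial.eval y)).roots.Nodup := by
    refine Multiset.nodup_iff_count_le_one.2 fun r => ?_
    rw [count_roots]
    by_contra hm
    rw [not_le, one_lt_rootMultiplicity_iff_isRoot h0] at hm
    exact g.simple y hy r hm.1 hm.2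
  rw [roots, Multiset.toFinset_card_of_nodup hnd, IsAlgClosed.card_roots_eq_natDegree,
    g.monic.natDegree_map]

lemma roots_eq_image {y₀ y : Fin d → ℂ} (g : Good P h) (hy₀ : y₀ ∈ base h) (_hy : y ∈ base h)
    {ρ : ℂ → ℂ} (hρ : ∀ j ∈ roots P y₀, (P.map (MvPolynomial.eval y)).IsRoot (ρ j))
    (hinj : Set.InjOn ρ (roots P y₀ : Set ℂ)) :
    roots P y = (roots P y₀).image ρ := by
  classical
  refine (Finset.eq_of_subset_of_card_le (fun r hr => ?_) ?_).symm
  · obtain ⟨j, hj, rfl⟩ := Finset.mem_image.1 hr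
    exact (mem_roots_iff g.monic).2 (hρ j hj)
  · rw [Finset.card_image_of_injOn hinj, card_roots g hy₀]
    exact card_roots_le g.monic _

/-- local root functions -/
theorem exists_rootFun (g : Good P h) {y₀ : Fin d → ℂ} (hy₀ : y₀ ∈ base h) :
    ∃ ρ : ℂ → (Fin d → ℂ) → ℂ, (∀ j ∈ roots P y₀, ρ j y₀ = j ∧ ContinuousAt (ρ j) y₀) ∧
      ∀ᶠ y in 𝓝 y₀, y ∈ base h ∧ (∀ j ∈ roots P y₀, (y, ρ j y) ∈ cover P h) ∧
        Set.InjOn (fun j => ρ j y) (roots P y₀ : Set ℂ) := by
  classical
  let Pf : (Fin d → ℂ) → ℂ[X] := fun y => P.map (MvPolynomial.eval y)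
  have hmon : ∀ᶠ y in 𝓝 y₀, (Pf y).Monic ∧ (Pf y).natDegree = P.natDegree :=
    Eventually.of_forall fun y => ⟨g.monic.map _, g.monic.natDegree_map _⟩
  have hc : ∀ i, ContinuousAt (fun y => (Pf y).coeff i) y₀ := fun i =>
    (Alg.continuous_coeff_fibrePoly P i).continuousAt
  have hu : ∀ j ∈ roots P y₀, ∃ ε > 0, ∀ᶠ y in 𝓝 y₀, ∀ r r', (Pf y).IsRoot r → (Pf y).IsRoot r' →
      dist r j < ε → dist r' j < ε → r = r' := fun j hj =>
    eventually_unique_root (hmon.mono fun y hy => hy.2.le) hc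
      (g.simple y₀ hy₀ j ((mem_roots_iff g.monic).1 hj))
  choose! ε hε huniq using hu
  let ρ : ℂ → (Fin d → ℂ) → ℂ := fun j y =>
    if hr : ∃ r, (Pf y).IsRoot r ∧ dist r j < ε j then hr.choose else j
  have hroot : ∀ j ∈ roots P y₀, ∀ᶠ y in 𝓝 y₀, (Pf y).IsRoot (ρ j y) ∧ dist (ρ j y) j < ε j := by
    intro j hj
    filter_upwards [eventually_exists_root g.degree hmon hc ((mem_roots_iff g.monic).1 hj) (hε j hj)]
      with y hy
    simp only [ρ, dif_pos hy]
    exact hy.choose_spec
  have hlim : ∀ j ∈ roots P y₀, Tendsto (ρ j) (𝓝 y₀) (𝓝 j) := by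
    intro j hj
    rw [Metric.tendsto_nhds]
    intro δ hδ
    filter_upwards [hroot j hj, huniq j hj, eventually_exists_root g.degree hmon hc
      ((mem_roots_iff g.monic).1 hj) (lt_min hδ (hε j hj))] with y hy hyu ⟨r, hr, hrd⟩
    rw [hyu _ r hy.1 hr hy.2 (hrd.trans_le (min_le_right _ _))]
    exact hrd.trans_le (min_le_left _ _)
  have hval : ∀ j ∈ roots P y₀, ρ j y₀ = j := fun j hj => by
    have h1 := (hroot j hj).self_of_nhds
    exact (huniq j hj).self_of_nhds _ j h1.1 ((mem_roots_iff g.monic).1 hj) h1.2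
      (by rw [dist_self]; exact hε j hj)
  refine ⟨ρ, fun j hj => ⟨hval j hj, ?_⟩, ?_⟩
  · rw [ContinuousAt, hval j hj]; exact hlim j hj
  · have hinj : ∀ i ∈ roots P y₀, ∀ j ∈ roots P y₀, ∀ᶠ y in 𝓝 y₀, ρ i y = ρ j y → i = j := by
      intro i hi j hj
      by_cases hij : i = j
      · exact Eventually.of_forall fun _ _ => hij
      · filter_upwards [((hlim i hi).sub (hlim j hj)).eventually_ne (sub_ne_zero.2 hij)] with y hy he
        exact absurd (sub_eq_zero.2 he) hy
    filter_upwards [(isOpen_base h).mem_nhds hy₀, (Finset.eventually_all _).2 hroot,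
      (Finset.eventually_all _).2 fun i hi => (Finset.eventually_all _).2 (hinj i hi)] with y h1 h2 h3
    exact ⟨h1, fun j hj => ⟨h1, (h2 j hj).1⟩, fun i hi j hj he => h3 i hi j hj he⟩

open Classical in
/-- The product over the roots of a function holomorphic along lines and of polynomial growth is,
on lines in the base, polynomial. -/
theorem prod_roots_polynomial_on_lines (g : Good P h) {v : (Fin d → ℂ) × ℂ → ℂ} {C₀ : ℝ} {D m : ℕ}
    (hm : m ≠ 0)
    (hv : ∀ (a b : Fin d → ℂ) (z₀ : ℂ) (r : ℂ → ℂ), DifferentiableAt ℂ r z₀ →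
      (∀ᶠ z in 𝓝 z₀, (a + z • b, r z) ∈ cover P h) →
      DifferentiableAt ℂ (fun z => v (a + z • b, r z)) z₀)
    (hb : ∀ q ∈ cover P h, ‖v q‖ ^ m ≤ C₀ * (1 + ‖q.1‖) ^ D) (a b : Fin d → ℂ) :
    ∃ q : ℂ[X], m * q.natDegree ≤ P.natDegree * D ∧ ∀ z : ℂ, a + z • b ∈ base h →
      ∏ r ∈ roots P (a + z • b), v (a + z • b, r) = q.eval z := by
  by_cases hne : ∃ z : ℂ, a + z • b ∈ base h
  swap
  · exact ⟨0, by simp, fun z hz => absurd ⟨z, hz⟩ hne⟩
  let hl : ℂ[X] := MvPolynomial.aeval (fun i => C (a i) + C (b i) * X) h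
  have hlev : ∀ z, hl.eval z = MvPolynomial.eval (a + z • b) h := fun z => by
    have : (Polynomial.aeval z).comp (MvPolynomial.aeval fun i => C (a i) + C (b i) * X) =
        MvPolynomial.aeval (R := ℂ) (a + z • b) :=
      MvPolynomial.algHom_ext fun i => by simp [mul_comm (b i)]
    simpa [hl, MvPolynomial.aeval_eq_eval, Polynomial.coe_aeval_eq_eval] using
      congrArg (fun φ : MvPolynomial (Fin d) ℂ →ₐ[ℂ] ℂ => φ h) this
  have hfin : {z : ℂ | a + z • b ∉ base h}.Finite := by
    obtain ⟨z, hz⟩ := hne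
    refine (Polynomial.finite_setOf_isRoot (p := hl) fun h0 => hz ?_).subset fun w hw => ?_
    · rw [← hlev, h0, eval_zero]
    · change hl.eval w = 0
      rw [hlev]
      exact not_not.1 hw
  have hC : 0 ≤ C₀ := by
    obtain ⟨y, hy⟩ := nonempty_base g.h_ne
    obtain ⟨r, hr⟩ := Finset.card_pos.1 (by rw [card_roots g hy]; exact Nat.pos_of_ne_zero g.degree)
    have := hb (y, r) ⟨hy, (mem_roots_iff g.monic).1 hr⟩
    by_contra hneg
    have h1 : (0 : ℝ) ≤ ‖v (y, r)‖ ^ m := by positivity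
    nlinarith [pow_pos (by linarith [norm_nonneg y] : (0:ℝ) < 1 + ‖y‖) D]
  let K : ℝ := 1 + ‖a‖ + ‖b‖
  refine Exists.imp (fun q hq => ⟨hq.1, fun z hz => hq.2 z fun h' => h' hz⟩)
    (exists_polynomial_of_growth_compl
      (f := fun z => ∏ r ∈ roots P (a + z • b), v (a + z • b, r)) hfin
      (C₀ := C₀ ^ P.natDegree * K ^ (P.natDegree * D)) (D := P.natDegree * D) hm ?_ ?_)
  · intro z₀ hz₀
    have hz₀' : a + z₀ • b ∈ base h := not_not.1 hz₀
    obtain ⟨ρ, hρ, hev⟩ := exists_rootFun g hz₀'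
    have hline : Continuous fun z : ℂ => a + z • b := by fun_prop
    have hev' := (hline.tendsto z₀).eventually hev
    have heq : (fun z : ℂ => ∏ j ∈ roots P (a + z₀ • b), v (a + z • b, ρ j (a + z • b))) =ᶠ[𝓝 z₀]
        fun z => ∏ r ∈ roots P (a + z • b), v (a + z • b, r) := by
      filter_upwards [hev'] with z ⟨h1, h2, h3⟩
      rw [roots_eq_image g hz₀' h1 (fun j hj => (h2 j hj).2) h3, Finset.prod_image h3]
    refine DifferentiableAt.congr_of_eventuallyEq ?_ heq.symm
    refine DifferentiableAt.fun_finsetProd fun j hj => hv a b z₀ _ ?_ (hev'.mono fun z hz => hz.2.1 j hj)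
    refine differentiableAt_root (P := fun z => P.map (MvPolynomial.eval (a + z • b)))
      (n := P.natDegree) (Eventually.of_forall fun z => natDegree_map_le) (fun i => ?_)
      (hev'.mono fun z hz => (hz.2.1 j hj).2) ?_ ?_
    · have hcoef : (fun z => (P.map (MvPolynomial.eval (a + z • b))).coeff i) =
          fun z => (MvPolynomial.aeval (fun k => C (a k) + C (b k) * X) (P.coeff i) : ℂ[X]).eval z := by
        funext z
        rw [coeff_map]
        have : (Polynomial.aeval z).comp (MvPolynomial.aeval fun k => C (a k) + C (b k) * X) =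
            MvPolynomial.aeval (R := ℂ) (a + z • b) :=
          MvPolynomial.algHom_ext fun k => by simp [mul_comm (b k)]
        simpa [MvPolynomial.aeval_eq_eval, Polynomial.coe_aeval_eq_eval] using
          (congrArg (fun φ : MvPolynomial (Fin d) ℂ →ₐ[ℂ] ℂ => φ (P.coeff i)) this).symm
      rw [hcoef]
      exact Polynomial.differentiableAt _
    · exact ContinuousAt.comp_of_eq (hρ j hj).2 hline.continuousAt rfl
    · exact g.simple _ hz₀' _ (hev'.self_of_nhds.2.1 j hj).2
  · intro z hz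
    have hz' : a + z • b ∈ base h := not_not.1 hz
    rw [norm_prod, ← Finset.prod_pow]
    refine (Finset.prod_le_prod (fun r _ => by positivity) fun r hr =>
      hb (a + z • b, r) ⟨hz', (mem_roots_iff g.monic).1 hr⟩).trans ?_
    simp only [Finset.prod_const]
    rw [card_roots g hz', mul_pow, ← pow_mul, mul_comm D, mul_assoc, ← mul_pow]
    refine mul_le_mul_of_nonneg_left (pow_le_pow_left₀ (by positivity) ?_ _) (pow_nonneg hC _)
    have : ‖a + z • b‖ ≤ ‖a‖ + ‖z‖ * ‖b‖ := (norm_add_le _ _).trans (by rw [norm_smul])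
    simp only [K]
    nlinarith [norm_nonneg z, norm_nonneg a, norm_nonneg b]

lemma growth_eval (p : MvPolynomial (Fin d) ℂ) :
    ∃ (C₀ : ℝ) (D : ℕ), 0 ≤ C₀ ∧ ∀ y : Fin d → ℂ, ‖MvPolynomial.eval y p‖ ≤ C₀ * (1 + ‖y‖) ^ D := by
  induction p using MvPolynomial.induction_on with
  | C c => exact ⟨‖c‖, 0, norm_nonneg _, fun y => by simp⟩
  | add p q hp hq =>
    obtain ⟨A, m, hA, hp⟩ := hp
    obtain ⟨B, n, hB, hq⟩ := hq
    refine ⟨A + B, max m n, by positivity, fun y => ?_⟩
    have h1 : (1 : ℝ) ≤ 1 + ‖y‖ := by linarith [norm_nonneg y]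
    rw [map_add, add_mul]
    exact (norm_add_le _ _).trans (add_le_add
      ((hp y).trans (mul_le_mul_of_nonneg_left (pow_le_pow_right₀ h1 (le_max_left _ _)) hA))
      ((hq y).trans (mul_le_mul_of_nonneg_left (pow_le_pow_right₀ h1 (le_max_right _ _)) hB)))
  | mul_X p i hp =>
    obtain ⟨A, m, hA, hp⟩ := hp
    refine ⟨A, m + 1, hA, fun y => ?_⟩
    rw [map_mul, MvPolynomial.eval_X, norm_mul, pow_succ, ← mul_assoc]
    exact mul_le_mul (hp y) ((norm_le_pi_norm y i).trans (by linarith)) (norm_nonneg _)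
      (mul_nonneg hA (by positivity))

lemma growth_root {Q : Polynomial (MvPolynomial (Fin d) ℂ)} (hQ : Q.Monic) :
    ∃ (C₀ : ℝ) (D : ℕ), 0 ≤ C₀ ∧ ∀ (y : Fin d → ℂ) (r : ℂ),
      (Q.map (MvPolynomial.eval y)).IsRoot r → ‖r‖ ≤ C₀ * (1 + ‖y‖) ^ D := by
  choose A m hA hb using fun i => growth_eval (d := d) (Q.coeff i)
  refine ⟨1 + ∑ i ∈ Finset.range Q.natDegree, A i, (Finset.range Q.natDegree).sup m,
    add_nonneg zero_le_one (Finset.sum_nonneg fun i _ => hA i), fun y r hr => ?_⟩
  have h1 : (1 : ℝ) ≤ 1 + ‖y‖ := by linarith [norm_nonneg y]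
  have hb' := norm_root_le' hQ hr
  refine hb'.trans ?_
  rw [add_mul, one_mul, Finset.sum_mul]
  exact add_le_add (one_le_pow₀ h1) (Finset.sum_le_sum fun i hi => (hb i y).trans
    (mul_le_mul_of_nonneg_left (pow_le_pow_right₀ h1 (Finset.le_sup hi)) (hA i)))
where
  norm_root_le' {Q : Polynomial (MvPolynomial (Fin d) ℂ)} (hQ : Q.Monic) {y : Fin d → ℂ} {r : ℂ}
      (hr : (Q.map (MvPolynomial.eval y)).IsRoot r) :
      ‖r‖ ≤ 1 + ∑ i ∈ Finset.range Q.natDegree, ‖MvPolynomial.eval y (Q.coeff i)‖ := by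
    have := Alg.norm_root_le (hQ.map (MvPolynomial.eval y)) hr
    rw [hQ.natDegree_map] at this
    simpa only [coeff_map] using this

lemma evalPoly_eq_zero {p : MvPolynomial (Fin d) ℂ} (hh : h ≠ 0)
    (hp : ∀ y ∈ base h, MvPolynomial.eval y p = 0) : p = 0 := by
  have : p * h = 0 := MvPolynomial.funext fun y => by
    rw [map_mul, map_zero]
    by_cases hy : y ∈ base h
    · rw [hp y hy, zero_mul]
    · rw [not_not.1 hy, mul_zero]
  exact (mul_eq_zero.1 this).resolve_right hh

/-- the cover is connected -/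
theorem isPreconnected_cover (g : Good P h) (hirr : Irreducible P) :
    IsPreconnected (cover P h) := by
  classical
  rw [isPreconnected_iff_preconnectedSpace, preconnectedSpace_iff_clopen]
  intro s hs
  let v : ℂ → (Fin d → ℂ) × ℂ → ℂ := fun x q =>
    if hq : q ∈ cover P h then (if (⟨q, hq⟩ : cover P h) ∈ s then x - q.2 else 1) else 0
  obtain ⟨Cr, Dr, hCr, hgr⟩ := growth_root g.monic
  have hlines : ∀ x : ℂ, ∀ a b : Fin d → ℂ, ∃ q : ℂ[X], q.natDegree ≤ P.natDegree * Dr ∧
      ∀ z : ℂ, a + z • b ∈ base h →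
        ∏ r ∈ roots P (a + z • b), v x (a + z • b, r) = q.eval z := by
    intro x a b
    refine Exists.imp (fun q hq => ⟨by simpa using hq.1, hq.2⟩)
      (prod_roots_polynomial_on_lines g (v := v x) (C₀ := ‖x‖ + Cr + 1) (D := Dr) one_ne_zero ?_ ?_ a b)
    · intro a b z₀ r hr hev
      have hc : ContinuousAt (fun z => ((a + z • b, r z) : (Fin d → ℂ) × ℂ)) z₀ :=
        (by fun_prop : Continuous fun z : ℂ => a + z • b).continuousAt.prodMk hr.continuousAt
      have h₀ := hev.self_of_nhds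
      have hloc : ∀ (t : Set (cover P h)), IsOpen t → (⟨_, h₀⟩ : cover P h) ∈ t →
          ∀ᶠ z in 𝓝 z₀, ∀ hq : (a + z • b, r z) ∈ cover P h, (⟨_, hq⟩ : cover P h) ∈ t := by
        intro t ht hmem
        obtain ⟨O, hO, rfl⟩ := isOpen_induced_iff.1 ht
        exact (hc.eventually (hO.mem_nhds hmem)).mono fun z hz _ => hz
      by_cases hsv : (⟨_, h₀⟩ : cover P h) ∈ s
      · refine ((differentiableAt_const x).sub hr).congr_of_eventuallyEq ?_
        filter_upwards [hev, hloc s hs.isOpen hsv] with z hz hzs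
        simp [v, hz, hzs hz]
      · refine (differentiableAt_const (1 : ℂ)).congr_of_eventuallyEq ?_
        filter_upwards [hev, hloc sᶜ hs.compl.isOpen hsv] with z hz hzs
        have : (⟨_, hz⟩ : cover P h) ∉ s := hzs hz
        simp [v, hz, this]
    · intro q hq
      have h1 : (1 : ℝ) ≤ (1 + ‖q.1‖) ^ Dr := one_le_pow₀ (by linarith [norm_nonneg q.1])
      simp only [v, dif_pos hq, pow_one]
      split_ifs
      · refine (norm_sub_le _ _).trans ?_
        nlinarith [hgr q.1 q.2 hq.2, norm_nonneg x, norm_nonneg q.2]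
      · rw [norm_one]; nlinarith [norm_nonneg x]
  obtain ⟨y₁, hy₁⟩ := nonempty_base g.h_ne
  choose p hp using fun x : ℂ => exists_mvPolynomial_of_lines (isOpen_base h) hy₁
    (fun y => ∏ r ∈ roots P y, v x (y, r)) (P.natDegree * Dr) (hlines x)
  -- interpolate in the variable
  let node : ℕ → ℂ := fun i => (i : ℂ)
  have hinj : Set.InjOn node (Finset.range (P.natDegree + 1) : Set ℕ) := fun i _ j _ hij =>
    Nat.cast_injective hij
  let sel : (Fin d → ℂ) → Finset ℂ := fun y =>
    (roots P y).filter fun r => ∃ hq : (y, r) ∈ cover P h, (⟨_, hq⟩ : cover P h) ∈ s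
  let Qy : (Fin d → ℂ) → ℂ[X] := fun y => ∏ r ∈ sel y, (X - C r)
  have hQy : ∀ y ∈ base h, ∀ x, (Qy y).eval x = MvPolynomial.eval y (p x) := by
    intro y hy x
    rw [← hp x y hy, eval_prod, Finset.prod_filter]
    refine Finset.prod_congr rfl fun r hr => ?_
    have hq : (y, r) ∈ cover P h := ⟨hy, (mem_roots_iff g.monic).1 hr⟩
    simp [v, hq]
  let Q : Polynomial (MvPolynomial (Fin d) ℂ) :=
    ∑ i ∈ Finset.range (P.natDegree + 1),
      Polynomial.C (p (node i)) * (Lagrange.basis (Finset.range (P.natDegree + 1)) node i).map MvPolynomial.C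
  have hdegQy : ∀ y, (Qy y).natDegree = (sel y).card := fun y => natDegree_finsetProd_X_sub_C_eq_card _ _
  have hQ : ∀ y ∈ base h, Q.map (MvPolynomial.eval y) = Qy y := by
    intro y hy
    have h1 := Lagrange.eq_interpolate (f := Qy y) hinj (by
      refine degree_le_natDegree.trans_lt ?_
      rw [hdegQy, Finset.card_range]
      exact_mod_cast Nat.lt_succ_of_le ((Finset.card_filter_le _ _).trans (card_roots g hy).le))
    rw [h1, Lagrange.interpolate_apply]
    simp only [Q, Polynomial.map_sum, Polynomial.map_mul, Polynomial.map_C, Polynomial.map_map]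
    refine Finset.sum_congr rfl fun i _ => ?_
    rw [hQy y hy]
    congr 1
    rw [show (MvPolynomial.eval y).comp MvPolynomial.C = RingHom.id ℂ from
      RingHom.ext fun c => MvPolynomial.eval_C c, Polynomial.map_id]
  have hQne : Q ≠ 0 := fun h0 => by
    have := hQ y₁ hy₁
    rw [h0, Polynomial.map_zero] at this
    exact (monic_prod_of_monic _ _ fun r _ => monic_X_sub_C r).ne_zero this.symm
  have hQm : Q.Monic := by
    by_contra hnm
    obtain ⟨y, hy⟩ : ∃ y ∈ base h, MvPolynomial.eval y Q.leadingCoeff ≠ 0 := by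
      by_contra! H
      exact leadingCoeff_ne_zero.2 hQne (evalPoly_eq_zero g.h_ne H)
    refine hnm (sub_eq_zero.1 (evalPoly_eq_zero (mul_ne_zero g.h_ne (leadingCoeff_ne_zero.2 hQne))
      (p := Q.leadingCoeff - 1) fun z hz => ?_))
    have hz' : z ∈ base h ∧ MvPolynomial.eval z Q.leadingCoeff ≠ 0 := by
      simpa [base, not_or] using hz
    have h1 : (Qy z).Monic := monic_prod_of_monic _ _ fun r _ => monic_X_sub_C r
    rw [map_sub, map_one, sub_eq_zero, ← leadingCoeff_map_of_leadingCoeff_ne_zero _ hz'.2, hQ z hz'.1]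
    exact h1
  have hmod : P %ₘ Q = 0 := by
    ext1 i
    refine evalPoly_eq_zero g.h_ne fun y hy => ?_
    rw [← coeff_map, map_modByMonic _ hQm, hQ y hy, (modByMonic_eq_zero_iff_dvd ?_).2 ?_, coeff_zero]
    · exact monic_prod_of_monic _ _ fun r _ => monic_X_sub_C r
    · conv_rhs => rw [(IsAlgClosed.splits (P.map (MvPolynomial.eval y))).eq_prod_roots_of_monic (g.monic.map _)]
      refine Multiset.prod_dvd_prod_of_le (Multiset.map_le_map ?_)
      refine Multiset.le_iff_subset (sel y).nodup |>.2 fun r hr => ?_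
      exact Multiset.mem_toFinset.1 (Finset.mem_filter.1 hr).1
  obtain ⟨Q', hQ'⟩ := (modByMonic_eq_zero_iff_dvd hQm).1 hmod
  have hk : ∀ y ∈ base h, (sel y).card = Q.natDegree := fun y hy => by
    rw [← hdegQy, ← hQ y hy, hQm.natDegree_map]
  rcases hirr.isUnit_or_isUnit hQ' with hu | hu
  · left
    refine Set.eq_empty_of_forall_notMem fun ⟨⟨y, r⟩, hq⟩ hmem => ?_
    have : r ∈ sel y := Finset.mem_filter.2 ⟨(mem_roots_iff g.monic).2 hq.2, hq, hmem⟩
    have h0 := hk y hq.1
    rw [hQm.isUnit_iff.1 hu, natDegree_one, Finset.card_eq_zero] at h0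
    simp [h0] at this
  · right
    refine Set.eq_univ_of_forall fun ⟨⟨y, r⟩, hq⟩ => ?_
    have hQ'm : Q'.Monic := hQm.of_mul_monic_left (hQ' ▸ g.monic)
    have hn : Q.natDegree = P.natDegree := by
      rw [hQ', hQ'm.isUnit_iff.1 hu, mul_one]
    have : sel y = roots P y := Finset.eq_of_subset_of_card_le (Finset.filter_subset _ _) (by
      rw [hk y hq.1, hn, card_roots g hq.1])
    have hr : r ∈ sel y := by rw [this]; exact (mem_roots_iff g.monic).2 hq.2
    obtain ⟨-, _, hmem⟩ := Finset.mem_filter.1 hr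
    exact hmem

/-- A nowhere vanishing holomorphic function of polynomial growth on the cover with continuous roots
of all orders is constant. -/
theorem eq_of_continuous_roots (g : Good P h) (hirr : Irreducible P) {u : (Fin d → ℂ) × ℂ → ℂ}
    {w : ℕ → (Fin d → ℂ) × ℂ → ℂ} {C₀ : ℝ} {D : ℕ} (hC : 0 ≤ C₀)
    (hu : ∀ q ∈ cover P h, ‖u q‖ ≤ C₀ * (1 + ‖q.1‖) ^ D) (hu0 : ∀ q ∈ cover P h, u q ≠ 0)
    (hud : ∀ (a b : Fin d → ℂ) (z₀ : ℂ) (r : ℂ → ℂ), DifferentiableAt ℂ r z₀ →
      (∀ᶠ z in 𝓝 z₀, (a + z • b, r z) ∈ cover P h) →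
      DifferentiableAt ℂ (fun z => u (a + z • b, r z)) z₀)
    (hw : ∀ m, ContinuousOn (w m) (cover P h)) (hwm : ∀ m, m ≠ 0 → ∀ q ∈ cover P h, w m q ^ m = u q) :
    ∀ q ∈ cover P h, ∀ q' ∈ cover P h, u q = u q' := by
  classical
  let m := P.natDegree * D + 1
  have hm : m ≠ 0 := Nat.succ_ne_zero _
  have hconst : ∀ x : ℂ, ∀ y ∈ base h, ∀ y' ∈ base h,
      ∏ r ∈ roots P y, (x - w m (y, r)) = ∏ r ∈ roots P y', (x - w m (y', r)) := by
    intro x y hy y' hy'
    suffices key : ∃ q : ℂ[X], m * q.natDegree ≤ P.natDegree * D ∧ ∀ z : ℂ,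
        y + z • (y' - y) ∈ base h → ∏ r ∈ roots P (y + z • (y' - y)),
          (x - w m (y + z • (y' - y), r)) = q.eval z by
      obtain ⟨q, hq, hqe⟩ := key
      have hdeg : q.natDegree = 0 := by
        by_contra hne
        have := le_trans (Nat.le_mul_of_pos_right m (Nat.pos_of_ne_zero hne)) hq
        simp only [m] at this
        omega
      have h0 : y + (0 : ℂ) • (y' - y) = y := by simp
      have h1 : y + (1 : ℂ) • (y' - y) = y' := by simp
      have e0 := hqe 0 (by rw [h0]; exact hy)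
      have e1 := hqe 1 (by rw [h1]; exact hy')
      rw [h0] at e0
      rw [h1] at e1
      rw [e0, e1, eq_C_of_natDegree_eq_zero hdeg, eval_C, eval_C]
    refine prod_roots_polynomial_on_lines g (v := fun q => x - w m q)
      (C₀ := (2 : ℝ) ^ m * (‖x‖ ^ m + C₀)) (D := D) hm ?_ ?_ y (y' - y)
    · intro a b z₀ r hr hev
      refine (differentiableAt_const x).sub ?_
      have h₀ := hev.self_of_nhds
      have hwn : w m (a + z₀ • b, r z₀) ≠ 0 := fun h0 => hu0 _ h₀ (by
        rw [← hwm m hm _ h₀, h0, zero_pow hm])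
      refine differentiableAt_root (P := fun z => X ^ m - C (u (a + z • b, r z))) (n := m)
        (Eventually.of_forall fun z => (natDegree_X_pow_sub_C).le) (fun i => ?_) ?_ ?_ ?_
      · simp only [coeff_sub, coeff_X_pow, coeff_C]
        by_cases hi : i = 0
        · simp only [if_pos hi]
          exact (differentiableAt_const _).sub (hud a b z₀ r hr hev)
        · simp only [if_neg hi]
          exact (differentiableAt_const _).sub (differentiableAt_const _)
      · exact hev.mono fun z hz => by simp [hwm m hm _ hz]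
      · have hc : ContinuousAt (fun z => ((a + z • b, r z) : (Fin d → ℂ) × ℂ)) z₀ :=
          (by fun_prop : Continuous fun z : ℂ => a + z • b).continuousAt.prodMk hr.continuousAt
        refine ((hw m).continuousWithinAt h₀).tendsto.comp ?_
        exact tendsto_nhdsWithin_iff.2 ⟨hc, hev⟩
      · simp [derivative_X_pow, hm, hwn]
    · intro q hq
      have h1 : (1 : ℝ) ≤ (1 + ‖q.1‖) ^ D := one_le_pow₀ (by linarith [norm_nonneg q.1])
      have hwq : ‖w m q‖ ^ m ≤ C₀ * (1 + ‖q.1‖) ^ D := by rw [← norm_pow, hwm m hm q hq]; exact hu q hq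
      have hxm : (0:ℝ) ≤ ‖x‖ ^ m := by positivity
      calc ‖x - w m q‖ ^ m ≤ (2 * max ‖x‖ ‖w m q‖) ^ m :=
            pow_le_pow_left₀ (norm_nonneg _) ((norm_sub_le _ _).trans (by
              rw [two_mul]; exact add_le_add (le_max_left _ _) (le_max_right _ _))) _
        _ = 2 ^ m * max ‖x‖ ‖w m q‖ ^ m := mul_pow _ _ _
        _ ≤ 2 ^ m * ((‖x‖ ^ m + C₀) * (1 + ‖q.1‖) ^ D) := by
            refine mul_le_mul_of_nonneg_left ?_ (by positivity)
            rcases max_choice ‖x‖ ‖w m q‖ with h' | h' <;> rw [h'] <;> nlinarith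
        _ = _ := by ring
  intro q hq q' hq'
  have hfin : ((w m) '' cover P h).Finite := by
    refine ((roots P q.1).image fun r => w m (q.1, r)).finite_toSet.subset ?_
    rintro _ ⟨z, hz, rfl⟩
    have := hconst (w m z) q.1 hq.1 z.1 hz.1
    rw [Finset.prod_eq_zero (s := roots P z.1) (f := fun r => w m z - w m (z.1, r))
      ((mem_roots_iff g.monic).2 hz.2) (sub_self _)] at this
    obtain ⟨r, hr, h0⟩ := Finset.prod_eq_zero_iff.1 this
    exact Finset.mem_coe.2 (Finset.mem_image.2 ⟨r, hr, (sub_eq_zero.1 h0).symm⟩)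
  have hsub : ((w m) '' cover P h).Subsingleton := by
    by_contra hns
    rw [Set.not_subsingleton_iff] at hns
    exact (Set.not_subsingleton_iff.2 hns)
      (((isPreconnected_cover g hirr).image _ (hw m)).isDiscrete_iff_subsingleton.1 hfin.isDiscrete)
  rw [← hwm m hm q hq, ← hwm m hm q' hq', hsub ⟨q, hq, rfl⟩ ⟨q', hq', rfl⟩]

end GrothLib.AnPts.RootCover
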